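import Groth.Prelude.Def_SGA2
import Groth.Agent.Pi1Ext.Spread

/-!
# Pure pairs at the closed point of a local ring
-/

set_option autoImplicit false
set_option linter.style.haveILetI false
set_option backward.isDefEq.respectTransparency false
set_option backward.isDefEq.respectTransparency.types false
universe u

open CategoryTheory CategoryTheory.Limits AlgebraicGeometry TopologicalSpace

noncomputable section

namespace Groth.Agent.Pi1Rig

open Groth.Agent

/-- Restriction along the identity is the identity. -/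
def restrictIdNat (X : Scheme.{u}) : FEt.restrict (𝟙 X) ≅ 𝟭 (FEt.Cat X) :=
  NatIso.ofComponents (fun E => Pi1Ext.Spread.restrictId E) fun {E F} f => by
    ext : 1
    exact pullback.lift_fst _ _ _

/-- Restriction along an isomorphism is an equivalence. -/
theorem isEquivalence_restrict_of_isIso {W X : Scheme.{u}} (j : W ⟶ X) [IsIso j] :
    (FEt.restrict j).IsEquivalence :=
  (CategoryTheory.Equivalence.mk (FEt.restrict j) (FEt.restrict (inv j))
    ((restrictIdNat X).symm ≪≫ MorphismProperty.Over.pullbackComp (inv j) j (𝟙 X) (by simp))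
    ((MorphismProperty.Over.pullbackComp j (inv j) (𝟙 W) (by simp)).symm ≪≫ restrictIdNat W)).isEquivalence_functor

/-- Cancelling a fully faithful functor from an equivalence. -/
theorem isEquivalence_of_comp_ff {C D E : Type*} [Category C] [Category D] [Category E] (G : C ⥤ D) (F : D ⥤ E)
    [F.Full] [F.Faithful] (h : (G ⋙ F).IsEquivalence) : G.IsEquivalence := by
  haveI : G.Faithful := Functor.Faithful.of_comp G F
  haveI : G.Full := Functor.Full.of_comp_faithful G F
  haveI : G.EssSurj := ⟨fun d => by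
    obtain ⟨c, ⟨e⟩⟩ := Functor.EssSurj.mem_essImage (F := G ⋙ F) (F.obj d)
    exact ⟨c, ⟨F.preimageIso e⟩⟩⟩
  exact {}

/-- Restrictions along the two sides of a commutative square. -/
def squareIso {A B B' C : Scheme.{u}} (f : A ⟶ B) (g : B ⟶ C) (f' : A ⟶ B') (g' : B' ⟶ C) (w : f ≫ g = f' ≫ g') :
    FEt.restrict g ⋙ FEt.restrict f ≅ FEt.restrict g' ⋙ FEt.restrict f' :=
  (MorphismProperty.Over.pullbackComp f g (f ≫ g) rfl).symm ≪≫
    MorphismProperty.Over.pullbackComp f' g' (f ≫ g) w

variable (A : Type u) [CommRing A] [IsLocalRing A]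

/-- Purity at the closed point is purity of the punctured spectrum. -/
theorem isPurePair_punctured_iff :
    SGA2.IsPurePair (Spec (CommRingCat.of A)) (FEt.puncturedSpec A) ↔
      (FEt.restrict (FEt.puncturedSpec A).ι).IsEquivalence := by
  let X := Spec (CommRingCat.of A)
  let U := FEt.puncturedSpec A
  let a : (↑((⊤ : X.Opens) ⊓ U) : Scheme.{u}) ⟶ U := (X.isoOfEq (top_inf_eq U)).hom
  have hsq : a ≫ U.ι = X.homOfLE (inf_le_left : (⊤ : X.Opens) ⊓ U ≤ ⊤) ≫ (⊤ : X.Opens).ι := by
    exact (Scheme.isoOfEq_hom_ι _ _).trans (Scheme.homOfLE_ι _ _).symm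
  haveI := isEquivalence_restrict_of_isIso a
  haveI : IsIso (⊤ : X.Opens).ι := inferInstanceAs (IsIso X.topIso.hom)
  haveI := isEquivalence_restrict_of_isIso (⊤ : X.Opens).ι
  constructor
  · intro h
    haveI := h ⊤
    haveI : (FEt.restrict U.ι ⋙ FEt.restrict a).IsEquivalence :=
      Functor.isEquivalence_of_iso (squareIso _ _ _ _ hsq).symm
    exact Functor.isEquivalence_of_comp_right (FEt.restrict U.ι) (FEt.restrict a)
  · intro h V
    by_cases hV : IsLocalRing.closedPoint A ∈ V
    · obtain rfl : V = ⊤ := top_le_iff.1 fun x _ => by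
        exact ((PrimeSpectrum.le_iff_specializes x (IsLocalRing.closedPoint A)).1
          (IsLocalRing.le_maximalIdeal x.isPrime.ne_top)).mem_open V.isOpen hV
      haveI : (FEt.restrict (⊤ : X.Opens).ι ⋙
          FEt.restrict (X.homOfLE (inf_le_left : (⊤ : X.Opens) ⊓ U ≤ ⊤))).IsEquivalence :=
        Functor.isEquivalence_of_iso (squareIso _ _ _ _ hsq)
      exact Functor.isEquivalence_of_comp_left (FEt.restrict (⊤ : X.Opens).ι)
        (FEt.restrict (X.homOfLE (inf_le_left : (⊤ : X.Opens) ⊓ U ≤ ⊤)))
    · have hle : V ≤ U := fun x hx (hxc : x = IsLocalRing.closedPoint A) => hV (hxc ▸ hx)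
      haveI : IsIso (X.homOfLE (inf_le_left : V ⊓ U ≤ V)) :=
        ⟨X.homOfLE (le_inf le_rfl hle), by simp, by simp⟩
      exact isEquivalence_restrict_of_isIso _

end Groth.Agent.Pi1Rig

end
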