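import Groth.Agent.Pi1Alg.Patch
import Groth.Agent.Pi1Alg.Bridge
import Groth.Agent.Hensel.PairBasic
import Groth.Agent.ArtFunLib.Hull.Ring
import Mathlib.RingTheory.Filtration

/-!
# Descending idempotent sections along the completion
-/

set_option autoImplicit false
set_option linter.unusedSectionVars false
set_option linter.style.haveILetI false
set_option backward.isDefEq.respectTransparency false
set_option backward.isDefEq.respectTransparency.types false
universe u

open TensorProduct

noncomputable section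

namespace Groth.Agent.Pi1Rig

open Groth.Agent Groth.Agent.Pi1Alg

/-- Idempotents lift over the artinian part. -/
theorem exists_idem_modEq {R : Type u} [CommRing R] [IsArtinianRing R] (I : Ideal R) {x : R} (hx : x * x - x ∈ I) :
    ∃ e : R, e * e = e ∧ e - x ∈ I := by
  obtain ⟨n, y, hy⟩ := IsArtinian.exists_pow_succ_smul_dvd x (1 : R)
  have h1 : x ^ (n + 1) * y = x ^ n := by
    simpa [smul_eq_mul] using hy
  have hk : ∀ k, x ^ (n + k) * y ^ k = x ^ n := fun k => by
    induction k with
    | zero => simp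
    | succ k ih =>
      calc x ^ (n + (k + 1)) * y ^ (k + 1) = (x ^ (n + 1) * y) * (x ^ k * y ^ k) := by ring
        _ = x ^ n := by rw [h1, ← mul_assoc, ← pow_add, ih]
  refine ⟨(x * y) ^ n, ?_, ?_⟩
  · rw [mul_pow]
    calc x ^ n * y ^ n * (x ^ n * y ^ n) = x ^ (n + n) * y ^ n * y ^ n := by ring
      _ = x ^ n * y ^ n := by rw [hk]
  · let q := Ideal.Quotient.mk I
    have hi : q x * q x = q x := by
      rw [← map_mul, Ideal.Quotient.mk_eq_mk_iff_sub_mem]
      exact hx
    have hi' : IsIdempotentElem (q x) := hi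
    rw [← Ideal.Quotient.mk_eq_mk_iff_sub_mem]
    show q ((x * y) ^ n) = q x
    rcases Nat.eq_zero_or_pos n with rfl | hn
    · -- `x` is a unit
      have hxy : q x * q y = 1 := by rw [← map_mul, show x * y = 1 by simpa using h1, map_one]
      rw [pow_zero, map_one]
      calc (1 : R ⧸ I) = q x * q y := hxy.symm
        _ = q x * q x * q y := by rw [hi]
        _ = q x := by rw [mul_assoc, hxy, mul_one]
    · have hxy : q x * q y = q x := by
        have hsucc : ∀ {k : ℕ}, 0 < k → q x ^ k = q x := fun {k} hk => by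
          obtain ⟨j, rfl⟩ := Nat.exists_eq_succ_of_ne_zero hk.ne'
          exact hi'.pow_succ_eq j
        have h := congrArg q h1
        simp only [map_mul, map_pow] at h
        rwa [hsucc (Nat.succ_pos n), hsucc hn] at h
      rw [map_pow, map_mul, hxy]
      obtain ⟨j, rfl⟩ := Nat.exists_eq_succ_of_ne_zero hn.ne'
      exact hi'.pow_succ_eq j

variable {A : Type u} [CommRing A] [IsLocalRing A] [IsNoetherianRing A]

/-- Idempotents modulo an ideal killed by a power of the maximal ideal lift. -/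
theorem exists_idem_lift_torsion {B : Type u} [CommRing B] [Algebra A B] [Module.Finite A B] (K : Ideal B) {N : ℕ}
    (hN : ∀ b ∈ K, ∀ a ∈ IsLocalRing.maximalIdeal A ^ N, a • b = 0) {x : B} (hx : x * x - x ∈ K) :
    ∃ e : B, e * e = e ∧ e - x ∈ K := by
  let m := IsLocalRing.maximalIdeal A
  obtain ⟨k, hk⟩ := m.exists_pow_inf_eq_pow_smul (K.restrictScalars A)
  let J : Ideal B := (m ^ (k + N)).map (algebraMap A B)
  have hcap : ∀ b ∈ K, b ∈ J → b = 0 := fun b hb hbJ => by
    have h1 : b ∈ (m ^ (k + N) • ⊤ : Submodule A B) ⊓ K.restrictScalars A :=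
      ⟨by rw [Ideal.smul_top_eq_map]; exact hbJ, hb⟩
    rw [hk (k + N) (Nat.le_add_right k N), Nat.add_sub_cancel_left] at h1
    refine Submodule.smul_induction_on h1 (fun a ha c hc => hN c hc.2 a ha) fun c d hc hd => by rw [hc, hd, add_zero]
  haveI := ArtFunLib.Hull.isArtinianRing_quotient_pow m (k + N)
  letI : Algebra (A ⧸ m ^ (k + N)) (B ⧸ J) := Ideal.Quotient.algebraQuotientOfLEComap Ideal.le_comap_map
  haveI : IsScalarTower A (A ⧸ m ^ (k + N)) (B ⧸ J) := IsScalarTower.of_algebraMap_eq fun a => rfl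
  haveI : Module.Finite (A ⧸ m ^ (k + N)) (B ⧸ J) := Module.Finite.of_restrictScalars_finite A _ _
  haveI : IsArtinianRing (B ⧸ J) := IsArtinianRing.of_finite (A ⧸ m ^ (k + N)) (B ⧸ J)
  obtain ⟨e, he, hex⟩ := exists_idem_modEq (K.map (Ideal.Quotient.mk J)) (x := Ideal.Quotient.mk J x) (by
    rw [← map_mul, ← map_sub]; exact Ideal.mem_map_of_mem _ hx)
  obtain ⟨κ, hκ, hκe⟩ := (Ideal.mem_map_iff_of_surjective _ Ideal.Quotient.mk_surjective).1 hex
  have hκe' : Ideal.Quotient.mk J (x + κ) = e := by rw [map_add, hκe, add_sub_cancel]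
  refine ⟨x + κ, sub_eq_zero.1 (hcap _ ?_ ?_), by rwa [add_sub_cancel_left]⟩
  · rw [show (x + κ) * (x + κ) - (x + κ) = (x * x - x) + κ * (x + x + κ - 1) by ring]
    exact K.add_mem hx (K.mul_mem_right _ hκ)
  · rw [← Ideal.Quotient.mk_eq_mk_iff_sub_mem, map_mul, hκe', he]

variable {ι : Type} [Fintype ι] (g : ι → A) {A' : Type u} [CommRing A'] [Algebra A A'] [IsNoetherianRing A']
  [Module.FaithfullyFlat A A']

theorem tmul_one_injective {Q : Type u} [AddCommGroup Q] [Module A Q] {q : Q} (h : (1 : A') ⊗ₜ[A] q = 0) : q = 0 :=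
  Module.FaithfullyFlat.tensorProduct_mk_injective (A := A) (B := A') Q (h.trans (tmul_zero Q _).symm)

theorem mem_range_of_tmul_one {M N : Type u} [AddCommGroup M] [Module A M] [AddCommGroup N] [Module A N]
    (φ : M →ₗ[A] N) {q : N} (h : (1 : A') ⊗ₜ[A] q ∈ LinearMap.range (φ.lTensor A')) : q ∈ LinearMap.range φ := by
  obtain ⟨w, hw⟩ := h
  suffices h0 : (LinearMap.range φ).mkQ q = 0 from (Submodule.Quotient.mk_eq_zero _).1 h0
  refine tmul_one_injective (A := A) (A' := A') ?_
  rw [← LinearMap.lTensor_tmul, ← hw, ← LinearMap.comp_apply, ← LinearMap.lTensor_comp,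
    LinearMap.range_mkQ_comp, LinearMap.lTensor_zero, LinearMap.zero_apply]

variable (hA' : ∀ (n : ℕ) (a' : A'), ∃ a : A, a' - algebraMap A A' a ∈ (Ideal.span (Set.range g) ^ n).map (algebraMap A A'))

include hA' in
/-- An integral element of the base change lies in the base change of a finite subalgebra. -/
theorem exists_finite_subalgebra {S C : Type u} [CommRing S] [Algebra A S] [CommRing C] [Algebra A C]
    [Module.Finite A C] (τ : C →ₐ[A] S) (htor : ∀ (h : S) (l : ι), ∃ (n : ℕ) (c : C), g l ^ n • h = τ c)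
    (z : A' ⊗[A] S) (hz : IsIntegral A' z) :
    ∃ R : Subalgebra A S, Module.Finite A R ∧ τ.range ≤ R ∧ z ∈ LinearMap.range (R.val.toLinearMap.lTensor A') := by
  let T : Submodule A S := LinearMap.range τ.toLinearMap
  obtain ⟨q, hq⟩ := exists_tmul_one A' g hA' (Q := S ⧸ T) (fun q l => by
    obtain ⟨h, rfl⟩ := Submodule.Quotient.mk_surjective _ q
    obtain ⟨n, c, hc⟩ := htor h l
    exact ⟨n, by rw [← Submodule.Quotient.mk_smul, Submodule.Quotient.mk_eq_zero]; exact ⟨c, hc.symm⟩⟩)
    (T.mkQ.lTensor A' z)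
  obtain ⟨h, rfl⟩ := Submodule.Quotient.mk_surjective _ q
  obtain ⟨w, hw⟩ := (Module.Flat.lTensor_exact (R := A) (f := τ.toLinearMap) (g := T.mkQ) A'
    (LinearMap.exact_map_mkQ_range _) (z - 1 ⊗ₜ h)).1 (by
      rw [map_sub, hq, LinearMap.lTensor_tmul, Submodule.mkQ_apply, sub_self])
  let τ' : A' ⊗[A] C →ₐ[A'] A' ⊗[A] S := Algebra.TensorProduct.map (AlgHom.id A' A') τ
  have hτ' : ∀ v, τ' v = τ.toLinearMap.lTensor A' v := fun v => by
    induction v using TensorProduct.induction_on with
    | zero => simp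
    | tmul a c => simp [τ']
    | add v w hv hw => simp only [map_add, hv, hw]
  have h1 : IsIntegral A' ((1 : A') ⊗ₜ[A] h) := by
    rw [show (1 : A') ⊗ₜ[A] h = z - τ' w by rw [hτ', hw, sub_sub_cancel]]
    refine hz.sub (IsIntegral.map τ' ?_)
    exact Algebra.IsIntegral.isIntegral w
  have hint : IsIntegral A h := by
    let P : Subalgebra A S := Algebra.adjoin A {h}
    let ψ : A' ⊗[A] P →ₐ[A'] A' ⊗[A] S := Algebra.TensorProduct.map (AlgHom.id A' A') P.val
    have hψ : Function.Injective ψ := by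
      have := Module.Flat.lTensor_preserves_injective_linearMap (M := A') P.val.toLinearMap Subtype.val_injective
      intro a b hab
      refine this ?_
      have he : ∀ v, ψ v = P.val.toLinearMap.lTensor A' v := fun v => by
        induction v using TensorProduct.induction_on with
        | zero => simp
        | tmul a c => simp [ψ]
        | add v w hv hw => simp only [map_add, hv, hw]
      rwa [← he, ← he]
    let P' : Subalgebra A' (A' ⊗[A] S) := Algebra.adjoin A' {(1 : A') ⊗ₜ[A] h}
    haveI : Module.Finite A' P' := Module.Finite.iff_fg.2 h1.fg_adjoin_singleton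
    have hle : ∀ v, ψ v ∈ P' := fun v => by
      induction v using TensorProduct.induction_on with
      | zero => simp
      | tmul a p =>
        have hp : (1 : A') ⊗ₜ[A] (p : S) ∈ P' := by
          have hmem : (p : S) ∈ (P'.restrictScalars A).comap
              (Algebra.TensorProduct.includeRight : S →ₐ[A] A' ⊗[A] S) := by
            refine (Algebra.adjoin_le ?_ : P ≤ _) p.2
            rintro _ rfl
            exact Algebra.subset_adjoin rfl
          exact hmem
        show a ⊗ₜ[A] (p : S) ∈ P'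
        have hsm := P'.smul_mem hp a
        rwa [TensorProduct.smul_tmul', smul_eq_mul, mul_one] at hsm
      | add v w hv hw => rw [map_add]; exact add_mem hv hw
    haveI : Module.Finite A' (A' ⊗[A] P) :=
      Module.Finite.of_injective (ψ.codRestrict P' hle).toLinearMap fun a b hab => hψ (congrArg Subtype.val hab)
    haveI : Module.Finite A P := Module.Finite.of_finite_tensorProduct_of_faithfullyFlat (R := A) A'
    exact (Algebra.IsIntegral.isIntegral (⟨h, Algebra.subset_adjoin rfl⟩ : P)).map P.val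
  let R : Subalgebra A S := τ.range ⊔ Algebra.adjoin A {h}
  haveI : Module.Finite A τ.range := Module.Finite.of_surjective τ.rangeRestrict.toLinearMap τ.rangeRestrict_surjective
  haveI : Module.Finite A (Algebra.adjoin A {h}) := Module.Finite.iff_fg.2 hint.fg_adjoin_singleton
  haveI : Module.Finite A R := Subalgebra.finite_sup _ _
  refine ⟨R, inferInstance, le_sup_left, ?_⟩
  let τR : C →ₐ[A] R := τ.codRestrict R fun c => (le_sup_left : τ.range ≤ R) ⟨c, rfl⟩
  refine ⟨τR.toLinearMap.lTensor A' w + 1 ⊗ₜ ⟨h, (le_sup_right : Algebra.adjoin A {h} ≤ R) (Algebra.subset_adjoin rfl)⟩, ?_⟩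
  rw [map_add, LinearMap.lTensor_tmul, ← LinearMap.comp_apply, ← LinearMap.lTensor_comp]
  show τ.toLinearMap.lTensor A' w + (1 : A') ⊗ₜ[A] h = z
  rw [hw, sub_add_cancel]

include hA' in
/-- Idempotents descend, in abstract form. -/
theorem exists_idem_descend_aux (hidl : Ideal.span (Set.range g) = IsLocalRing.maximalIdeal A) (f : A)
    [HenselianRing A (Ideal.span {f})] {S C Q : Type u} [CommRing S] [Algebra A S] [CommRing C] [Algebra A C]
    [Module.Finite A C] [CommRing Q] [Algebra A Q] (τ : C →ₐ[A] S) (htor : ∀ (h : S) (l : ι), ∃ (n : ℕ) (c : C), g l ^ n • h = τ c)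
    (φ : S →ₐ[A] Q) (hf : φ (algebraMap A S f) = 0) (hker : ∀ s, φ s = 0 → ∀ l, ∃ (n : ℕ) (c : C), g l ^ n • s = f • τ c)
    (z : A' ⊗[A] S) (hz : z * z = z) (q : Q) (hq : q * q = q) (hcmp : (1 : A') ⊗ₜ[A] q = φ.toLinearMap.lTensor A' z) :
    ∃ e : S, e * e = e ∧ φ e = q := by
  classical
  haveI : Nontrivial A' := by
    by_contra hn
    rw [not_nontrivial_iff_subsingleton] at hn
    exact one_ne_zero (tmul_one_injective (A := A) (A' := A') (q := (1 : A)) (Subsingleton.elim _ _))
  obtain ⟨R, _, hTR, zR, hzR⟩ := exists_finite_subalgebra g hA' τ htor z ⟨Polynomial.X ^ 2 - Polynomial.X, by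
      exact (Polynomial.monic_X_pow 2).sub_of_left (Polynomial.degree_X.trans_lt (by rw [Polynomial.degree_X_pow]; decide)),
      by simp [pow_two, hz]⟩
  have hφR : (φ.comp R.val).toLinearMap = φ.toLinearMap ∘ₗ R.val.toLinearMap := rfl
  obtain ⟨r, hr⟩ := mem_range_of_tmul_one (A' := A') ((φ.comp R.val).toLinearMap) (q := q)
    ⟨zR, by rw [hcmp, ← hzR, hφR, LinearMap.lTensor_comp, LinearMap.comp_apply]⟩
  have hr' : φ (r : S) = q := hr
  let I : Ideal R := (Ideal.span {f}).map (algebraMap A R)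
  let K : Ideal R := RingHom.ker (φ.comp R.val).toRingHom
  haveI : IsNoetherian A R := isNoetherian_of_isNoetherianRing_of_finite A R
  have htor' : ∀ k ∈ K, ∀ l, ∃ n : ℕ, g l ^ n • k ∈ I := fun k hk l => by
    obtain ⟨n, c, hc⟩ := hker (k : S) hk l
    refine ⟨n, ?_⟩
    rw [show g l ^ n • k = algebraMap A R f * ⟨τ c, hTR ⟨c, rfl⟩⟩ from Subtype.ext (hc.trans (Algebra.smul_def _ _))]
    exact I.mul_mem_right _ (Ideal.mem_map_of_mem _ (Ideal.mem_span_singleton_self f))
  obtain ⟨T, hT⟩ := (IsNoetherian.noetherian (K.restrictScalars A) : (K.restrictScalars A).FG)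
  let J : Ideal A := (I.restrictScalars A).colon (K : Set R)
  have hJ : ∀ l, ∃ n : ℕ, g l ^ n ∈ J := fun l => by
    choose n hn using fun k : {x // x ∈ T} => htor' k.1 (show k.1 ∈ K.restrictScalars A from hT ▸ Submodule.subset_span k.2) l
    refine ⟨Finset.univ.sup n, Submodule.mem_colon.2 fun k hk => ?_⟩
    have : K.restrictScalars A ≤ (I.restrictScalars A).comap (g l ^ Finset.univ.sup n • LinearMap.id) := by
      rw [← hT, Submodule.span_le]
      intro x hx
      show g l ^ Finset.univ.sup n • x ∈ I.restrictScalars A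
      rw [← Nat.sub_add_cancel (show n ⟨x, hx⟩ ≤ Finset.univ.sup n from Finset.le_sup (Finset.mem_univ _)), pow_add,
        mul_smul]
      exact (I.restrictScalars A).smul_mem _ (hn ⟨x, hx⟩)
    exact this hk
  obtain ⟨N, hN⟩ := exists_pow_le g (J := J) hJ
  haveI : Module.Finite A (R ⧸ I) :=
    Module.Finite.of_surjective (Ideal.Quotient.mkₐ A I).toLinearMap Ideal.Quotient.mk_surjective
  have hrK : r * r - r ∈ K := by
    show φ ((r : S) * r - r) = 0
    rw [map_sub, map_mul, hr', hq, sub_self]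
  obtain ⟨ε, hε, hεr⟩ := exists_idem_lift_torsion (A := A) (K.map (Ideal.Quotient.mk I)) (N := N) (fun b hb a ha => by
      obtain ⟨k, hk, rfl⟩ := (Ideal.mem_map_iff_of_surjective _ Ideal.Quotient.mk_surjective).1 hb
      rw [← hidl] at ha
      exact Ideal.Quotient.eq_zero_iff_mem.2 (Submodule.mem_colon.1 (hN ha) k hk)) (x := Ideal.Quotient.mk I r)
    (by rw [← map_mul, ← map_sub]; exact Ideal.mem_map_of_mem _ hrK)
  haveI : Algebra.IsIntegral A R := Algebra.IsIntegral.of_finite A R
  obtain ⟨e, he, hee⟩ := (Hensel.bijOn_idempotents_of_isIntegral (Ideal.span {f}) R).2.2 hε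
  refine ⟨(e : S), congrArg Subtype.val he, ?_⟩
  obtain ⟨k, hk, hke⟩ := (Ideal.mem_map_iff_of_surjective _ Ideal.Quotient.mk_surjective).1 hεr
  have h2 : e - r - k ∈ I := by
    rw [← Ideal.Quotient.eq_zero_iff_mem, map_sub, map_sub, hee, hke, sub_self]
  have hIK : I ≤ K := Ideal.map_le_iff_le_comap.2 ((Ideal.span_singleton_le_iff_mem _).2 hf)
  have h3 : φ ((e : S) - r) = 0 := by
    show e - r ∈ K
    simpa using K.add_mem (hIK h2) hk
  rwa [map_sub, hr', sub_eq_zero] at h3

include hA' in
/-- Idempotents of the sections descend. -/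
theorem exists_idem_descend (hidl : Ideal.span (Set.range g) = IsLocalRing.maximalIdeal A) (f : A)
    [HenselianRing A (Ideal.span {f})] {C : Type u} [CommRing C] [Algebra A C] [Module.Finite A C]
    (z : A' ⊗[A] SecL g C) (hz : z * z = z) (Q : ι → Type u) [∀ j, CommRing (Q j)] [∀ j, Algebra A (Q j)]
    (π : ∀ j, Loc C (g j) →ₐ[A] Q j) (hπ : ∀ j y, π j y = 0 ↔ algebraMap A (Loc C (g j)) f ∣ y)
    (q : ∀ j, Q j) (hq : ∀ j, q j * q j = q j)
    (hcmp : ∀ j, (1 : A') ⊗ₜ[A] q j = (((π j).comp ((Pi.evalAlgHom A (fun j => Loc C (g j)) j).comp (SecL g C).val))).toLinearMap.lTensor A' z) :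
    ∃ e : SecL g C, e * e = e ∧ ∀ j, π j ((e : ∀ j, Loc C (g j)) j) = q j := by
  classical
  let ψ := fun j => (π j).comp ((Pi.evalAlgHom A (fun j => Loc C (g j)) j).comp (SecL g C).val)
  let φ : SecL g C →ₐ[A] ∀ j, Q j := Pi.algHom A _ ψ
  have hpi : ∀ (v : A' ⊗[A] SecL g C) (j : ι),
      TensorProduct.piRight A A' A' Q (φ.toLinearMap.lTensor A' v) j = (ψ j).toLinearMap.lTensor A' v := fun v j => by
    induction v using TensorProduct.induction_on with
    | zero => rw [map_zero, map_zero, Pi.zero_apply, map_zero]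
    | tmul a h => rfl
    | add v w hv hw => rw [map_add, map_add, Pi.add_apply, hv, hw, map_add]
  have hcmp' : (1 : A') ⊗ₜ[A] q = φ.toLinearMap.lTensor A' z :=
    (TensorProduct.piRight A A' A' Q).injective (funext fun j => by
      rw [TensorProduct.piRight_apply, TensorProduct.piRightHom_tmul, hpi]
      exact hcmp j)
  obtain ⟨e, he, heq⟩ := exists_idem_descend_aux g hA' hidl f (toSecL g C)
    (fun h l => exists_pow_smul_mem_toSecL g C h l) φ (funext fun j => (hπ j _).2 dvd_rfl) (fun s hs l => by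
      obtain ⟨v, hv⟩ : algebraMap A (Loc C (g l)) f ∣ (s : ∀ j, Loc C (g j)) l := (hπ l _).1 (congrFun hs l)
      obtain ⟨⟨c, ⟨_, n, rfl⟩⟩, hn⟩ := IsLocalization.surj (Submonoid.powers (algebraMap A C (g l))) v
      obtain ⟨k, hk⟩ := exists_pow_smul_eq_zero_SecL (R := C) g (g l ^ n • s - f • toSecL g C c) l (by
        show g l ^ n • (s : ∀ j, Loc C (g j)) l - f • algebraMap C (Loc C (g l)) c = 0
        rw [hv, ← hn, Algebra.smul_def, Algebra.smul_def, map_pow, map_pow,
          ← IsScalarTower.algebraMap_apply A C (Loc C (g l))]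
        ring)
      refine ⟨k + n, g l ^ k • c, ?_⟩
      rw [map_smul, smul_comm f, pow_add, mul_smul]
      exact sub_eq_zero.1 ((smul_sub (g l ^ k) _ _).symm.trans hk)) z hz q (funext hq) hcmp'
  exact ⟨e, he, congrFun heq⟩

end Groth.Agent.Pi1Rig

end
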