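import Groth.Agent.Pi1Rig.Clopen
import Groth.Agent.Pi1Rig.DescentAlg

/-!
# Clopen subsets descend along the completion
-/

set_option autoImplicit false
set_option linter.unusedSectionVars false
set_option linter.style.haveILetI false
set_option backward.isDefEq.respectTransparency false
set_option backward.isDefEq.respectTransparency.types false
universe u

open TensorProduct PrimeSpectrum

noncomputable section

namespace Groth.Agent.Pi1Rig

open Groth.Agent Groth.Agent.Pi1Alg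

variable {A : Type u} [CommRing A] {ι : Type} (g : ι → A) (f : A) {A' : Type u} [CommRing A'] [Algebra A A']
  [Module.FaithfullyFlat A A'] (C : Type u) [CommRing C] [Algebra A C]

/-- The projection from the base change. -/
abbrev down : PrimeSpectrum (A' ⊗[A] C) → PrimeSpectrum C :=
  PrimeSpectrum.comap (Algebra.TensorProduct.includeRight : C →ₐ[A] A' ⊗[A] C).toRingHom

theorem mem_down (x : A) (p : PrimeSpectrum (A' ⊗[A] C)) :
    algebraMap A C x ∈ (down C p).asIdeal ↔ algebraMap A (A' ⊗[A] C) x ∈ p.asIdeal := by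
  show (Algebra.TensorProduct.includeRight : C →ₐ[A] A' ⊗[A] C) (algebraMap A C x) ∈ p.asIdeal ↔ _
  rw [AlgHom.commutes]

theorem down_mem_OSet {p : PrimeSpectrum (A' ⊗[A] C)} : down C p ∈ OSet g C ↔ p ∈ OSet g (A' ⊗[A] C) :=
  exists_congr fun j => not_congr (mem_down C (g j) p)

theorem down_surjective : Function.Surjective (down (A := A) (A' := A') C) := fun p => by
  let K := p.asIdeal.ResidueField
  haveI : Nontrivial (A' ⊗[A] K) := Module.FaithfullyFlat.lTensor_nontrivial A A' K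
  obtain ⟨m, hm⟩ := Ideal.exists_maximal (A' ⊗[A] K)
  refine ⟨PrimeSpectrum.comap (Algebra.TensorProduct.map (AlgHom.id A A') (IsScalarTower.toAlgHom A C K)).toRingHom
    ⟨m, hm.isPrime⟩, PrimeSpectrum.ext ?_⟩
  ext c
  show Algebra.TensorProduct.map (AlgHom.id A A') (IsScalarTower.toAlgHom A C K) (1 ⊗ₜ c) ∈ m ↔ _
  rw [Algebra.TensorProduct.map_tmul, AlgHom.id_apply, IsScalarTower.coe_toAlgHom']
  constructor
  · intro h
    by_contra hc
    have hu : IsUnit (algebraMap C K c) :=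
      IsUnit.mk0 _ fun h0 => hc (Ideal.algebraMap_residueField_eq_zero.1 h0)
    exact hm.ne_top (m.eq_top_of_isUnit_mem h
      (hu.map (Algebra.TensorProduct.includeRight : K →ₐ[A] A' ⊗[A] K)))
  · intro h
    rw [Ideal.algebraMap_residueField_eq_zero.2 h, tmul_zero]
    exact zero_mem _

/-- Equality of idempotents in a base change, tested at primes. -/
theorem tmul_eq_of_points {S L Q : Type u} [CommRing S] [Algebra A S] [CommRing L] [Algebra A L] [CommRing Q]
    [Algebra A Q] (ev : S →ₐ[A] L) (π : L →ₐ[A] Q) (x : L) (z : A' ⊗[A] S) (hz : z * z = z)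
    (hx : π x * π x = π x)
    (h : ∀ P₁ : PrimeSpectrum (A' ⊗[A] L), (∀ y, π y = 0 → (1 : A') ⊗ₜ[A] y ∈ P₁.asIdeal) →
      ((1 : A') ⊗ₜ[A] x ∈ P₁.asIdeal ↔ Algebra.TensorProduct.map (AlgHom.id A' A') ev z ∈ P₁.asIdeal)) :
    (1 : A') ⊗ₜ[A] π x = (π.comp ev).toLinearMap.lTensor A' z := by
  let M := Algebra.TensorProduct.map (AlgHom.id A' A') π
  let v := Algebra.TensorProduct.map (AlgHom.id A' A') ev z
  have hrhs : (π.comp ev).toLinearMap.lTensor A' z = M v := by
    show _ = M (Algebra.TensorProduct.map (AlgHom.id A' A') ev z)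
    clear hz h
    induction z using TensorProduct.induction_on with
    | zero => simp
    | tmul b s => rfl
    | add x y hx hy => rw [map_add, map_add, map_add, hx, hy]
  rw [hrhs]
  have hv : IsIdempotentElem (M v) := by
    show M v * M v = M v
    rw [← map_mul, show v * v = v from (map_mul _ _ _).symm.trans (congrArg _ hz)]
  have hq : IsIdempotentElem ((1 : A') ⊗ₜ[A] π x) := by
    show _ * _ = _
    rw [Algebra.TensorProduct.tmul_mul_tmul, one_mul, hx]
  refine basicOpen_injOn_isIdempotentElem hq hv (TopologicalSpace.Opens.ext (Set.ext fun P => not_congr ?_))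
  refine h (PrimeSpectrum.comap M.toRingHom P) fun y hy => ?_
  show M ((1 : A') ⊗ₜ[A] y) ∈ P.asIdeal
  rw [Algebra.TensorProduct.map_tmul, hy, tmul_zero]
  exact zero_mem _

/-- The comparison at the primes of a chart. -/
theorem points_iff [Fintype ι] (D : Set (PrimeSpectrum C)) (E : Set (PrimeSpectrum (A' ⊗[A] C)))
    (hED : ∀ p ∈ OSet g (A' ⊗[A] C), p ∈ ZSet f (A' ⊗[A] C) → (p ∈ E ↔ p ∈ down C ⁻¹' D))
    (a : C0 g C) (a' : C0 g (A' ⊗[A] C))
    (ha3 : ∀ j (P : PrimeSpectrum (Loc C (g j))), algebraMap A (Loc C (g j)) f ∈ P.asIdeal →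
        (locEquiv C (g j) (a j) ∉ P.asIdeal ↔ ch C (g j) P ∈ D))
    (ha3' : ∀ j (P : PrimeSpectrum (Loc (A' ⊗[A] C) (g j))), algebraMap A (Loc (A' ⊗[A] C) (g j)) 0 ∈ P.asIdeal →
        (locEquiv (A' ⊗[A] C) (g j) (a' j) ∉ P.asIdeal ↔ ch (A' ⊗[A] C) (g j) P ∈ E))
    (z : A' ⊗[A] SecL g C) (hzj : ∀ j, β A' g C z j = locEquiv (A' ⊗[A] C) (g j) (a' j)) (j : ι)
    (P₁ : PrimeSpectrum (A' ⊗[A] Loc C (g j))) (hf₁ : (1 : A') ⊗ₜ[A] algebraMap A (Loc C (g j)) f ∈ P₁.asIdeal) :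
    (1 : A') ⊗ₜ[A] locEquiv C (g j) (a j) ∈ P₁.asIdeal ↔
      Algebra.TensorProduct.map (AlgHom.id A' A') ((Pi.evalAlgHom A (fun j => Loc C (g j)) j).comp (SecL g C).val) z ∈
        P₁.asIdeal := by
  let ev : SecL g C →ₐ[A] Loc C (g j) := (Pi.evalAlgHom A (fun j => Loc C (g j)) j).comp (SecL g C).val
  let v := Algebra.TensorProduct.map (AlgHom.id A' A') ev z
  have hγ : γ A' C (g j) v = β A' g C z j := by
    show γ A' C (g j) (Algebra.TensorProduct.map (AlgHom.id A' A') ev z) = _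
    clear hzj
    induction z using TensorProduct.induction_on with
    | zero => simp
    | tmul b s =>
      rw [Algebra.TensorProduct.map_tmul, γ_tmul, β_tmul]
      rfl
    | add x y hx hy => rw [map_add, map_add, map_add, Pi.add_apply, hx, hy]
  let γe := AlgEquiv.ofBijective (γ A' C (g j)) ⟨γ_injective A' C (g j), γ_surjective A' C (g j)⟩
  let P₂ : PrimeSpectrum (Loc (A' ⊗[A] C) (g j)) := PrimeSpectrum.comap γe.symm.toAlgHom.toRingHom P₁
  let P₀ : PrimeSpectrum (Loc C (g j)) :=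
    PrimeSpectrum.comap (Algebra.TensorProduct.includeRight : Loc C (g j) →ₐ[A] A' ⊗[A] Loc C (g j)).toRingHom P₁
  have hP₂ : ∀ w, γ A' C (g j) w ∈ P₂.asIdeal ↔ w ∈ P₁.asIdeal := fun w => by
    show γe.symm (γe w) ∈ P₁.asIdeal ↔ _
    rw [AlgEquiv.symm_apply_apply]
  have hκ : ∀ x, κ A' C (g j) x ∈ P₂.asIdeal ↔ x ∈ P₀.asIdeal := fun x => by
    rw [← one_mul (κ A' C (g j) x), ← map_one (algebraMap A' (Loc (A' ⊗[A] C) (g j))), ← γ_tmul, hP₂]
    rfl
  have hdown : down C (ch (A' ⊗[A] C) (g j) P₂) = ch C (g j) P₀ := PrimeSpectrum.ext (Ideal.ext fun c => by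
    show algebraMap (A' ⊗[A] C) (Loc (A' ⊗[A] C) (g j)) ((1 : A') ⊗ₜ[A] c) ∈ P₂.asIdeal ↔
      algebraMap C (Loc C (g j)) c ∈ P₀.asIdeal
    rw [← κ_algebraMap, hκ])
  have hf₀ : algebraMap A (Loc C (g j)) f ∈ P₀.asIdeal := hf₁
  have hf₂ : algebraMap A (Loc (A' ⊗[A] C) (g j)) f ∈ P₂.asIdeal := by
    rw [← (κ A' C (g j)).commutes, hκ]
    exact hf₀
  have h2 := ha3' j P₂ (by rw [map_zero]; exact zero_mem _)
  have h3 : v ∉ P₁.asIdeal ↔ ch (A' ⊗[A] C) (g j) P₂ ∈ E := by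
    rw [← h2, ← hzj, ← hγ, hP₂]
  refine not_iff_not.1 ?_
  show ¬ locEquiv C (g j) (a j) ∈ P₀.asIdeal ↔ v ∉ P₁.asIdeal
  rw [h3, hED _ ⟨j, (mem_range_ch (A' ⊗[A] C)).1 ⟨P₂, rfl⟩⟩ ((mem_Z_ch f P₂).2 hf₂), Set.mem_preimage, hdown]
  exact ha3 j P₀ hf₀

theorem topInj_descend (h : TopInj g f (A' ⊗[A] C)) : TopInj g f C := by
  intro D U U' hU hU' hD hDZ p hp hpO
  obtain ⟨p', rfl⟩ := down_surjective (A := A) (A' := A') C p
  exact h (down C ⁻¹' D) (down C ⁻¹' U) (down C ⁻¹' U') (hU.preimage (PrimeSpectrum.continuous_comap _))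
    (hU'.preimage (PrimeSpectrum.continuous_comap _)) (fun q hq => hD (down C q) ((down_mem_OSet g C).2 hq))
    (fun q hq hqO hqZ => hDZ _ hq ((down_mem_OSet g C).2 hqO) ((mem_down C f q).2 hqZ)) p' hp
    ((down_mem_OSet g C).1 hpO)

variable [IsNoetherianRing A] [IsLocalRing A] [IsNoetherianRing A'] [Fintype ι] [Module.Finite A C]

theorem topLift_descend (hA' : ∀ (n : ℕ) (a' : A'), ∃ a : A, a' - algebraMap A A' a ∈ (Ideal.span (Set.range g) ^ n).map (algebraMap A A'))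
    (hidl : Ideal.span (Set.range g) = IsLocalRing.maximalIdeal A) [HenselianRing A (Ideal.span {f})]
    (h : TopLift g f (A' ⊗[A] C)) : TopLift g f C := by
  classical
  intro D U U' hU hU' hD
  let C' := A' ⊗[A] C
  obtain ⟨E, E', hE, hE', hEE', hED⟩ := h (down C ⁻¹' D) (down C ⁻¹' U) (down C ⁻¹' U')
    (hU.preimage (PrimeSpectrum.continuous_comap _)) (hU'.preimage (PrimeSpectrum.continuous_comap _))
    (fun p hp hpZ => hD _ ((down_mem_OSet g C).2 hp) ((mem_down C f p).2 hpZ))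
  obtain ⟨a', ha1', ha2', ha3'⟩ := exists_family (C := C') g 0 E E E' hE hE' fun p hp _ => ⟨Iff.rfl, hEE' p hp⟩
  have hH' : a' ∈ H0 g C' := LinearMap.mem_ker.2 (funext fun j => funext fun k => by
    obtain ⟨y, hy⟩ := ha2' j k
    rw [hy, zero_smul]
    rfl)
  obtain ⟨z, hz⟩ := exists_β_eq A' g C (fun j => locEquiv C' (g j) (a' j)) ((mem_SecL_iff_H0 g C').2 hH')
  have hzj : ∀ j, β A' g C z j = locEquiv C' (g j) (a' j) := fun j => congrFun hz j
  have hzz : z * z = z := β_injective A' g C (funext fun j => by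
    rw [map_mul, Pi.mul_apply, hzj, ← map_mul]
    obtain ⟨y, hy⟩ := ha1' j
    rw [zero_smul] at hy
    rw [sub_eq_zero.1 hy])
  obtain ⟨a, ha1, ha2, ha3⟩ := exists_family g f D U U' hU hU' hD
  let π := fun j => Ideal.Quotient.mkₐ A (Ideal.span {algebraMap A (Loc C (g j)) f})
  have hcmp : ∀ j, (1 : A') ⊗ₜ[A] π j (locEquiv C (g j) (a j)) =
      (((π j).comp ((Pi.evalAlgHom A (fun j => Loc C (g j)) j).comp (SecL g C).val))).toLinearMap.lTensor A' z :=
    fun j => tmul_eq_of_points ((Pi.evalAlgHom A (fun j => Loc C (g j)) j).comp (SecL g C).val) (π j) _ z hzz (by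
      obtain ⟨y, hy⟩ := ha1 j
      rw [← map_mul, Ideal.Quotient.mkₐ_eq_mk, Ideal.Quotient.mk_eq_mk_iff_sub_mem, ← map_mul, ← map_sub, hy,
        map_smul, Algebra.smul_def]
      exact Ideal.mul_mem_right _ _ (Ideal.mem_span_singleton_self _)) fun P₁ hP₁ =>
      points_iff g f C D E hED a a' ha3 ha3' z hzj j P₁
        (hP₁ _ (Ideal.Quotient.eq_zero_iff_mem.2 (Ideal.mem_span_singleton_self _)))
  obtain ⟨e, he, heq⟩ := exists_idem_descend g hA' hidl f z hzz _ π
    (fun j y => by rw [Ideal.Quotient.mkₐ_eq_mk, Ideal.Quotient.eq_zero_iff_mem, Ideal.mem_span_singleton])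
    (fun j => π j (locEquiv C (g j) (a j))) (fun j => by
      rw [← map_mul, ← map_mul, Ideal.Quotient.mkₐ_eq_mk, Ideal.Quotient.mk_eq_mk_iff_sub_mem, ← map_sub]
      obtain ⟨y, hy⟩ := ha1 j
      rw [hy, map_smul, Algebra.smul_def]
      exact Ideal.mul_mem_right _ _ (Ideal.mem_span_singleton_self _)) hcmp
  let e₀ : C0 g C := fun j => (locEquiv C (g j)).symm ((e : ∀ j, Loc C (g j)) j)
  have heH : e₀ ∈ H0 g C := by
    rw [← mem_SecL_iff_H0]
    simpa [e₀] using e.2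
  have hee : e₀ * e₀ = e₀ := funext fun j => by
    show (locEquiv C (g j)).symm _ * (locEquiv C (g j)).symm _ = (locEquiv C (g j)).symm _
    rw [← map_mul]
    exact congrArg (fun s : SecL g C => (locEquiv C (g j)).symm ((s : ∀ j, Loc C (g j)) j)) he
  have hdiv : ∀ j, ∃ y, e₀ j - a j = f • y := fun j => by
    have h1 := heq j
    simp only [π, Ideal.Quotient.mkₐ_eq_mk, Ideal.Quotient.mk_eq_mk_iff_sub_mem, Ideal.mem_span_singleton] at h1
    obtain ⟨y, hy⟩ := h1
    refine ⟨(locEquiv C (g j)).symm y, (locEquiv C (g j)).injective ?_⟩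
    rw [map_sub, map_smul, AlgEquiv.apply_symm_apply, AlgEquiv.apply_symm_apply, hy, Algebra.smul_def]
  choose y hy using hdiv
  exact exists_extend_of_idem g ha3 heH hee (y := y) (funext hy)

end Groth.Agent.Pi1Rig

end
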