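import Groth.Agent.Pi1Rig.Sch
import Groth.Agent.Pi1Rig.Descent
import Groth.Agent.Pi1Alg.CI
import Groth.Agent.S11617
import Groth.Agent.S0239

/-!
# Full faithfulness and extension along a hypersurface in the punctured spectrum
-/

set_option autoImplicit false
set_option linter.unusedSectionVars false
set_option linter.style.haveILetI false
set_option backward.isDefEq.respectTransparency false
set_option backward.isDefEq.respectTransparency.types false
universe u

open CategoryTheory CategoryTheory.Limits AlgebraicGeometry IsLocalRing TensorProduct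

noncomputable section

namespace Groth.Agent.Pi1Rig

open Groth.Agent Groth.Agent.Pi1Alg Groth.Agent.Pi1Ext Groth.Agent.Pi1Ext.RegPurity Groth.Agent.Pi1Ext.PuritySch

variable {A : Type u} [CommRing A]

theorem exists_retr_base {C : Type u} [CommRing C] [Algebra A C] [Module.Finite A C] [IsNoetherianRing A] {x : A}
    (h : EtAway A C x) :
    ∃ (p : ℕ) (σ : C →ₗ[A] (Fin p → A)) (ρ : (Fin p → A) →ₗ[A] C) (b : ℕ), ∀ c, ρ (σ c) = x ^ b • c := by
  classical
  let S := Submonoid.powers x
  haveI : Algebra.Etale A (Loc C x) := h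
  haveI : IsLocalization (Algebra.algebraMapSubmonoid C S) (Loc C x) := by
    rw [Algebra.algebraMapSubmonoid_powers]
    infer_instance
  haveI : IsLocalizedModule S (IsScalarTower.toAlgHom A C (Loc C x)).toLinearMap :=
    isLocalizedModule_iff_isLocalization.2 inferInstance
  let MS := LocalizedModule S C
  haveI : Module.Flat A MS :=
    Module.Flat.of_linearEquiv (IsLocalizedModule.iso S (IsScalarTower.toAlgHom A C (Loc C x)).toLinearMap)
  haveI : Module.Flat (Localization S) MS := (Module.flat_iff_of_isLocalization (Localization S) S MS).2 ‹_›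
  haveI : Module.FinitePresentation A C := Module.finitePresentation_of_finite A C
  haveI : Module.Projective (Localization S) MS := Module.Flat.projective_of_finitePresentation
  obtain ⟨p, π, hπ⟩ := Module.Finite.exists_fin' A C
  let fF := LocalizedModule.mkLinearMap S (Fin p → A)
  let fC := LocalizedModule.mkLinearMap S C
  let πS := (IsLocalizedModule.map S fF fC π).extendScalarsOfIsLocalization S (Localization S)
  obtain ⟨s, hs⟩ := Module.projective_lifting_property πS LinearMap.id
    (IsLocalizedModule.map_surjective S fF fC π hπ)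
  obtain ⟨σ, ⟨_, n, rfl⟩, hσ⟩ :=
    Module.FinitePresentation.exists_lift_of_isLocalizedModule S fF ((s.restrictScalars A) ∘ₗ fC)
  have hloc : ∀ c, fC (π (σ c) - x ^ n • c) = 0 := fun c => by
    rw [map_sub, map_smul, ← IsLocalizedModule.map_apply S fF fC π]
    have h1 : fF (σ c) = x ^ n • s (fC c) := LinearMap.congr_fun hσ c
    have h2 : IsLocalizedModule.map S fF fC π (s (fC c)) = fC c := LinearMap.congr_fun hs (fC c)
    rw [h1, map_smul, h2, sub_self]
  obtain ⟨G, hG⟩ := (Module.Finite.fg_top : (⊤ : Submodule A C).FG)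
  choose k hk using fun c => (mk_eq_zero (x := x) C).1 (hloc c)
  let K := G.sup k
  refine ⟨p, x ^ K • σ, π, K + n, fun c => ?_⟩
  have : c ∈ Submodule.span A (G : Set C) := hG ▸ trivial
  induction this using Submodule.span_induction with
  | mem c hc =>
    rw [LinearMap.smul_apply, map_smul, pow_add, mul_smul, ← sub_eq_zero, ← smul_sub,
      ← Nat.sub_add_cancel (show k c ≤ K from Finset.le_sup hc), pow_add, mul_smul, hk, smul_zero]
  | zero => simp
  | add a b _ _ ha hb => rw [map_add, map_add, ha, hb, smul_add]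
  | smul r a _ ha => rw [map_smul, map_smul, ha, smul_comm]

variable [IsLocalRing A] [IsNoetherianRing A]

theorem exists_gens (A : Type u) [CommRing A] [IsLocalRing A] [IsNoetherianRing A] :
    ∃ (r : ℕ) (g : Fin r → A), Ideal.span (Set.range g) = maximalIdeal A :=
  Submodule.fg_iff_exists_fin_generating_family.1 (IsNoetherian.noetherian (maximalIdeal A))

/-- A power of `f` kills the low local cohomology. -/
def Kills (f : A) (i : ℕ) : Prop :=
  ∃ n : ℕ, ∀ x : LocCoh.H (maximalIdeal A) i A, f ^ n • x = 0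

theorem rig_complete {ι : Type} [Fintype ι] (g : ι → A) (hidl : Ideal.span (Set.range g) = maximalIdeal A) {f : A}
    (hf : f ∈ maximalIdeal A) [IsAdicComplete (Ideal.span {f}) A] (h1 : Kills f 1) (h2 : Kills f 2) : Rig g f := by
  obtain ⟨n, hn⟩ := h1
  obtain ⟨m, hm⟩ := h2
  intro C _ _ _ hC
  have hI : idl g = maximalIdeal A := hidl
  have e1 : ∀ x : LocCoh.H (idl g) 1 A, f ^ (n + m) • x = 0 := by
    rw [hI]
    intro x
    rw [add_comm, pow_add, mul_smul, hn, smul_zero]
  have e2 : ∀ x : LocCoh.H (idl g) 2 A, f ^ (n + m) • x = 0 := by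
    rw [hI]
    intro x
    rw [pow_add, mul_smul, hm, smul_zero]
  have hA : ∀ z ∈ H0 g A, f ^ (n + m) • z ∈ LinearMap.range (Φ g A) := fun z hz => smul_H0_mem_range g A e1 hz
  have hLS : LS g C A := fun j => exists_retr_base (hC _ (hidl ▸ Ideal.subset_span ⟨j, rfl⟩))
  have hfj : f ∈ Ideal.jacobson (⊥ : Ideal A) := by
    rw [IsLocalRing.jacobson_eq_maximalIdeal _ bot_ne_top]; exact hf
  exact ⟨topInj_of_idemInj g (idemInj g C hfj hA hLS),
    topLift_of_idemLift g (idemLift g C hA hLS hfj (by rw [hI]; exact Ideal.le_radical hf)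
      (fun c hc => smul_Z1_mem_B1 g A e2 hc))⟩

section Change

variable {A' : Type u} [CommRing A'] [Algebra A A'] {ι : Type} (g : ι → A) (f : A) (C : Type u) [CommRing C]
  [Algebra A C] [Algebra A' C] [IsScalarTower A A' C]

theorem OSet_change : OSet (fun j => algebraMap A A' (g j)) C = OSet g C :=
  Set.ext fun p => exists_congr fun j => by rw [← IsScalarTower.algebraMap_apply]

theorem ZSet_change : ZSet (algebraMap A A' f) C = ZSet f C :=
  Set.ext fun p => by
    show algebraMap A' C (algebraMap A A' f) ∈ p.asIdeal ↔ _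
    rw [← IsScalarTower.algebraMap_apply]
    rfl

theorem topInj_change (h : TopInj (fun j => algebraMap A A' (g j)) (algebraMap A A' f) C) : TopInj g f C := by
  unfold TopInj at h ⊢
  simpa only [OSet_change, ZSet_change] using h

theorem topLift_change (h : TopLift (fun j => algebraMap A A' (g j)) (algebraMap A A' f) C) : TopLift g f C := by
  unfold TopLift at h ⊢
  simpa only [OSet_change, ZSet_change] using h

end Change

/-- Descent along the completion. -/
theorem rig_descend {A' : Type u} [CommRing A'] [IsLocalRing A'] [IsNoetherianRing A'] [Algebra A A']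
    [Module.FaithfullyFlat A A'] (hm : (maximalIdeal A).map (algebraMap A A') = maximalIdeal A')
    (hA' : ∀ (n : ℕ) (a' : A'), ∃ a : A, a' - algebraMap A A' a ∈ (maximalIdeal A ^ n).map (algebraMap A A'))
    {ι : Type} [Fintype ι] (g : ι → A) (hidl : Ideal.span (Set.range g) = maximalIdeal A) (f : A)
    [HenselianRing A (Ideal.span {f})] (h : Rig (fun j => algebraMap A A' (g j)) (algebraMap A A' f)) : Rig g f := by
  intro C _ _ _ hC
  obtain ⟨hi, hl⟩ := h (A' ⊗[A] C) (etOff_baseChange hC A' hm.symm)
  exact ⟨topInj_descend g f C (topInj_change g f _ hi),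
    topLift_descend g f C (fun n a' => by rw [hidl]; exact hA' n a') hidl (topLift_change g f _ hl)⟩

theorem kills_completion {f : A} {i : ℕ} (h : Kills f i) :
    Kills (algebraMap A (AdicCompletion (maximalIdeal A) A) f) i := by
  obtain ⟨n, hn⟩ := h
  haveI := LC.Canon.isNoetherianRing_completion (R := A)
  haveI := LC.Canon.faithfullyFlat_completion (R := A)
  let B := AdicCompletion (maximalIdeal A) A
  obtain ⟨e⟩ := S11617.result A B (maximalIdeal A) A i
  let ι : ModuleCat.of B (B ⊗[A] A) ≅ ModuleCat.of B B := (AlgebraTensorModule.rid A B B).toModuleIso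
  have hm : (maximalIdeal A).map (algebraMap A B) = maximalIdeal B := (AdicCompletion.maximalIdeal_eq_map (R := A)).symm
  have hz : ∀ z : B ⊗[A] LocCoh.H (maximalIdeal A) i A, algebraMap A B f ^ n • z = 0 := fun z => by
    rw [← map_pow, algebraMap_smul]
    induction z using TensorProduct.induction_on with
    | zero => rw [smul_zero]
    | tmul b x => rw [← TensorProduct.tmul_smul, hn, TensorProduct.tmul_zero]
    | add x y hx hy => rw [smul_add, hx, hy, add_zero]
  have h2 : ∀ x : LocCoh.H (maximalIdeal B) i (B ⊗[A] A), algebraMap A B f ^ n • x = 0 := by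
    rw [← hm]
    intro x
    obtain ⟨z, rfl⟩ := e.surjective x
    rw [← map_smul, hz, map_zero]
  refine ⟨n, fun x => ?_⟩
  let eH := ((localCohomology (maximalIdeal B) i).mapIso ι).toLinearEquiv
  obtain ⟨y, rfl⟩ := eH.surjective x
  exact (map_smul eH _ y).symm.trans ((congrArg eH (h2 y)).trans (map_zero eH))

variable {f : A}

/-- Rigidity for a henselian pair. -/
theorem rig_henselian {ι : Type} [Fintype ι] (g : ι → A) (hidl : Ideal.span (Set.range g) = maximalIdeal A)
    (hf : f ∈ maximalIdeal A) [HenselianRing A (Ideal.span {f})] (h1 : Kills f 1) (h2 : Kills f 2) : Rig g f := by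
  haveI := LC.Canon.isNoetherianRing_completion (R := A)
  haveI := LC.Canon.faithfullyFlat_completion (R := A)
  let B := AdicCompletion (maximalIdeal A) A
  have hm : (maximalIdeal A).map (algebraMap A B) = maximalIdeal B := (AdicCompletion.maximalIdeal_eq_map (R := A)).symm
  have hidl' : Ideal.span (Set.range fun j => algebraMap A B (g j)) = maximalIdeal B := by
    rw [← hm]
    refine Eq.trans ?_ (congrArg (Ideal.map (algebraMap A B)) hidl)
    rw [Ideal.map_span, ← Set.range_comp]
    rfl
  have hf' : algebraMap A B f ∈ maximalIdeal B := hm ▸ Ideal.mem_map_of_mem _ hf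
  haveI : IsAdicComplete (maximalIdeal B) B := hm ▸ AdicCompletion.isAdicComplete_self (maximalIdeal A) (IsNoetherian.noetherian _)
  haveI : IsAdicComplete (Ideal.span {algebraMap A B f}) B :=
    isAdicComplete_le _ ((Ideal.span_singleton_le_iff_mem _).2 hf')
  exact rig_descend hm (completion_surj A) g hidl f
    (rig_complete _ hidl' hf' (kills_completion h1) (kills_completion h2))

/-- Full faithfulness along the hypersurface. -/
theorem ff_henselian (hf : f ∈ maximalIdeal A) [HenselianRing A (Ideal.span {f})] (h1 : Kills f 1) (h2 : Kills f 2) :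
    (FEt.restrict (pullback.fst (FEt.puncturedSpec A).ι
      (Spec.map (CommRingCat.ofHom (Ideal.Quotient.mk (Ideal.span {f})))))).Full ∧
    (FEt.restrict (pullback.fst (FEt.puncturedSpec A).ι
      (Spec.map (CommRingCat.ofHom (Ideal.Quotient.mk (Ideal.span {f})))))).Faithful := by
  obtain ⟨r, g, hg⟩ := exists_gens A
  exact ff_hypersurface g hg f (rig_henselian g hg hf h1 h2)

theorem kills_of_depth (hA : (3 : ℕ∞) ≤ LocCoh.depth A A) (i : ℕ) (hi : i < 3) (f : A) : Kills f i := by
  haveI : Subsingleton (LocCoh.H (maximalIdeal A) i A) := (LC.le_idealDepth_iff_H (maximalIdeal A) A 3).1 hA i hi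
  exact ⟨0, fun x => Subsingleton.elim _ _⟩

/-- Extension from the hypersurface in the henselian case. -/
theorem extends_henselian (hf : f ∈ maximalIdeal A) [HenselianRing A (Ideal.span {f})] (h1 : Kills f 1) (h2 : Kills f 2)
    (V : FEt.Cat (FEt.puncturedSpec A : Scheme.{u}))
    (hV : ∃ Y₀ : FEt.Cat (Spec (CommRingCat.of (A ⧸ Ideal.span {f}))),
      Nonempty ((FEt.restrict (pullback.snd (FEt.puncturedSpec A).ι
        (Spec.map (CommRingCat.ofHom (Ideal.Quotient.mk (Ideal.span {f})))))).obj Y₀ ≅
        (FEt.restrict (pullback.fst (FEt.puncturedSpec A).ι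
        (Spec.map (CommRingCat.ofHom (Ideal.Quotient.mk (Ideal.span {f})))))).obj V)) :
    ∃ Y : FEt.Cat (Spec (CommRingCat.of A)), Nonempty ((FEt.restrict (FEt.puncturedSpec A).ι).obj Y ≅ V) := by
  obtain ⟨Y₀, ⟨e₀⟩⟩ := hV
  haveI := S0239.result A (Ideal.span {f})
  obtain ⟨hfull, hfaith⟩ := ff_henselian hf h1 h2
  obtain ⟨Y, ⟨eY⟩⟩ := Functor.EssSurj.mem_essImage
    (F := FEt.restrict (Spec.map (CommRingCat.ofHom (Ideal.Quotient.mk (Ideal.span {f}))))) Y₀
  exact ⟨Y, ⟨(FEt.restrict _).preimageIso
    (restrictSquare _ _ _ _ pullback.condition Y ≪≫ (FEt.restrict _).mapIso eY ≪≫ e₀)⟩⟩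

/-- Extension from the hypersurface. -/
theorem extends_hypersurface (hf : f ∈ maximalIdeal A) (h1 : Kills f 1) (h2 : Kills f 2)
    (V : FEt.Cat (FEt.puncturedSpec A : Scheme.{u}))
    (hV : ∃ Y₀ : FEt.Cat (Spec (CommRingCat.of (A ⧸ Ideal.span {f}))),
      Nonempty ((FEt.restrict (pullback.snd (FEt.puncturedSpec A).ι
        (Spec.map (CommRingCat.ofHom (Ideal.Quotient.mk (Ideal.span {f})))))).obj Y₀ ≅
        (FEt.restrict (pullback.fst (FEt.puncturedSpec A).ι
        (Spec.map (CommRingCat.ofHom (Ideal.Quotient.mk (Ideal.span {f})))))).obj V)) :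
    ∃ Y : FEt.Cat (Spec (CommRingCat.of A)), Nonempty ((FEt.restrict (FEt.puncturedSpec A).ι).obj Y ≅ V) := by
  haveI := LC.Canon.isNoetherianRing_completion (R := A)
  haveI := LC.Canon.faithfullyFlat_completion (R := A)
  let B := AdicCompletion (maximalIdeal A) A
  have hm : (maximalIdeal A).map (algebraMap A B) = maximalIdeal B := (AdicCompletion.maximalIdeal_eq_map (R := A)).symm
  haveI : IsAdicComplete (maximalIdeal B) B := hm ▸ AdicCompletion.isAdicComplete_self (maximalIdeal A) (IsNoetherian.noetherian _)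
  let f' := algebraMap A B f
  have hf' : f' ∈ maximalIdeal B := hm ▸ Ideal.mem_map_of_mem _ hf
  haveI : IsAdicComplete (Ideal.span {f'}) B := isAdicComplete_le _ ((Ideal.span_singleton_le_iff_mem _).2 hf')
  haveI : HenselianRing B (Ideal.span {f'}) := IsAdicComplete.henselianRing B _
  obtain ⟨Y₀, ⟨e₀⟩⟩ := hV
  -- the schemes
  let P := FEt.puncturedSpec A
  let P' := FEt.puncturedSpec B
  let b := sp A B
  let q := Spec.map (CommRingCat.ofHom (Ideal.Quotient.mk (Ideal.span {f})))
  let q' := Spec.map (CommRingCat.ofHom (Ideal.Quotient.mk (Ideal.span {f'})))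
  let qb := Ideal.quotientMap (Ideal.span {f'}) (algebraMap A B)
    ((Ideal.span_singleton_le_iff_mem _).2 (Ideal.mem_span_singleton_self f') : Ideal.span {f} ≤ (Ideal.span {f'}).comap (algebraMap A B))
  let b₀ := Spec.map (CommRingCat.ofHom qb)
  have hqb : b₀ ≫ q = q' ≫ b := by
    rw [← Spec.map_comp, ← Spec.map_comp]
    rfl
  obtain ⟨w, hw⟩ := exists_punctured_baseChange (A := A) (A' := B) hm
  let ψ : (P' : Scheme.{u}) ⟶ (P : Scheme.{u}) := w.inv ≫ pullback.fst _ _
  have hsnd : w.inv ≫ pullback.snd P.ι b = P'.ι := by rw [← hw, w.inv_hom_id_assoc]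
  have hψ : ψ ≫ P.ι = P'.ι ≫ b := by
    rw [Category.assoc, pullback.condition, ← Category.assoc, hsnd]
  let u₀ : pullback P'.ι q' ⟶ pullback P.ι q := pullback.lift (pullback.fst _ _ ≫ ψ) (pullback.snd _ _ ≫ b₀) (by
    rw [Category.assoc, hψ, Category.assoc, hqb, pullback.condition_assoc])
  let V' := (FEt.restrict ψ).obj V
  obtain ⟨Y', ⟨eY⟩⟩ := extends_henselian hf' (kills_completion h1) (kills_completion h2) V'
    ⟨(FEt.restrict b₀).obj Y₀, ⟨restrictSquare _ _ _ _ (pullback.lift_snd _ _ _).symm Y₀ ≪≫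
      (FEt.restrict u₀).mapIso e₀ ≪≫ restrictSquare _ _ _ _ (pullback.lift_fst _ _ _) V⟩⟩
  refine exists_extend_of_baseChange hm (completion_surj A) V ⟨Y', ⟨?_⟩⟩
  have hw2 : w.hom ≫ ψ = pullback.fst P.ι b := w.hom_inv_id_assoc _
  exact (restrictComp _ _ _ hw Y').symm ≪≫ (FEt.restrict w.hom).mapIso eY ≪≫ restrictComp _ _ _ hw2 V

end Groth.Agent.Pi1Rig

end
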