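import Groth.Agent.Pi1Rig.Sch
import Groth.Agent.Pi1Alg.Sch

/-!
# Finite models of covers of an open subset of the punctured spectrum
-/

set_option autoImplicit false
set_option linter.unusedSectionVars false
set_option linter.style.haveILetI false
set_option backward.isDefEq.respectTransparency false
set_option backward.isDefEq.respectTransparency.types false
universe u

open CategoryTheory CategoryTheory.Limits AlgebraicGeometry TensorProduct IsLocalRing

noncomputable section

namespace Groth.Agent.Pi1Rig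

open Groth.Agent Groth.Agent.Pi1Alg Groth.Agent.Pi1Ext Groth.Agent.Pi1Ext.RegPurity Groth.Agent.Pi1Ext.PuritySch

variable {A : Type u} [CommRing A] (U : (Spec (CommRingCat.of A)).Opens) {ι : Type} (h : ι → A)

/-- The open is the union of the standard opens. -/
def IsUnion : Prop := ∀ p : PrimeSpectrum A, p ∈ U ↔ ∃ j, h j ∉ p.asIdeal

/-- The restriction of `Spec R` to the open. -/
abbrev restU (R : Type u) [CommRing R] [Algebra A R] :
    pullback (sp A R) U.ι ⟶ (U : Scheme.{u}) :=
  pullback.snd _ _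

/-- The cover given by an algebra. -/
abbrev objU (R : Type u) [CommRing R] [Algebra A R] (hR : FEt.prop (restU U R)) : FEt.Cat (U : Scheme.{u}) :=
  MorphismProperty.Over.mk ⊤ (restU U R) hR

variable {U h}

theorem chart_prop (hU : IsUnion U h) {R : Type u} [CommRing R] [Algebra A R] (hR : FEt.prop (restU U R)) (j : ι) :
    Module.Finite (Localization.Away (h j)) (Localization.Away (h j) ⊗[A] R) ∧
      Algebra.Etale (Localization.Away (h j)) (Localization.Away (h j) ⊗[A] R) := by
  let Ag := Localization.Away (h j)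
  let ρ : Spec (CommRingCat.of Ag) ⟶ (U : Scheme.{u}) := IsOpenImmersion.lift U.ι (sp A Ag) (by
    rw [Scheme.Opens.range_ι]
    rintro _ ⟨q, rfl⟩
    exact (hU _).2 ⟨j, fun hm => q.2.ne_top (Ideal.eq_top_of_isUnit_mem _ hm
      (IsLocalization.Away.algebraMap_isUnit (h j)))⟩)
  have hρ : ρ ≫ U.ι = sp A Ag := IsOpenImmersion.lift_fac _ _ _
  have e1 : IsPullback (pullback.fst (restU U R) ρ ≫ pullback.fst (sp A R) U.ι)
      (pullback.snd (restU U R) ρ) (sp A R) (sp A Ag) := by
    have := (IsPullback.of_hasPullback (restU U R) ρ).paste_horiz (IsPullback.of_hasPullback (sp A R) U.ι)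
    rwa [hρ] at this
  have hp : FEt.prop (pullback.snd (restU U R) ρ) := MorphismProperty.pullback_snd _ _ hR
  rw [← e1.flip.isoPullback_hom_fst, ← pullbackSpecIso_hom_fst' A Ag R,
    MorphismProperty.cancel_left_of_respectsIso (P := FEt.prop),
    MorphismProperty.cancel_left_of_respectsIso (P := FEt.prop)] at hp
  exact fet_sp_iff.1 hp

variable {C B : Type u} [CommRing C] [CommRing B] [Algebra A C] [Algebra A B]

/-- The map of restrictions induced by an algebra map. -/
def restMapU (f : C →ₐ[A] B) :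
    pullback (sp A B) U.ι ⟶ pullback (sp A C) U.ι :=
  pullback.lift (pullback.fst _ _ ≫ Spec.map (CommRingCat.ofHom f.toRingHom)) (pullback.snd _ _) (by
    rw [Category.assoc, ← pullback.condition]
    congr 1
    rw [← Spec.map_comp]
    congr 1
    ext a
    exact f.commutes a)

theorem nonempty_isoU (hU : IsUnion U h) (f : C →ₐ[A] B) (hf : ∀ j, IsoAway f (h j))
    (hC : FEt.prop (restU U C)) (hB : FEt.prop (restU U B)) : Nonempty (objU U B hB ≅ objU U C hC) := by
  let ψ : objU U B hB ⟶ objU U C hC := MorphismProperty.Over.homMk (restMapU f) (pullback.lift_snd _ _ _)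
  haveI : IsIso ψ := by
    refine Pi1X.isIso_of_fiber_bijective ψ fun Z _ ⟨x, hx⟩ => ?_
    obtain ⟨Ω, iF, _, ξ, hξ⟩ := Pi1X.exists_geometric_point x
    refine ⟨Ω, iF, inferInstance, ξ, hξ ▸ hx, ?_⟩
    obtain ⟨φ, hφ⟩ : ∃ φ : CommRingCat.of A ⟶ CommRingCat.of Ω, Spec.map φ = ξ ≫ U.ι :=
      ⟨Spec.preimage _, Spec.map_preimage _⟩
    obtain ⟨j, hj⟩ := (hU _).1 (ξ.base (IsLocalRing.closedPoint Ω)).2
    have hu : IsUnit (φ.hom (h j)) := isUnit_iff_ne_zero.2 fun h0 => hj (by
      show h j ∈ ((U.ι (ξ (IsLocalRing.closedPoint Ω))) : PrimeSpectrum A).asIdeal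
      rw [← Scheme.Hom.comp_apply, ← hφ]
      show φ.hom (h j) ∈ (IsLocalRing.closedPoint Ω).asIdeal
      rw [h0]
      exact zero_mem _)
    letI : Algebra A Ω := φ.hom.toAlgebra
    -- points are algebra maps
    have hpt : ∀ (R : Type u) [CommRing R] [Algebra A R] (s : Spec (CommRingCat.of Ω) ⟶ pullback (sp A R) U.ι),
        s ≫ pullback.snd _ _ = ξ → ∃ β : R →ₐ[A] Ω, Spec.map (CommRingCat.ofHom β.toRingHom) = s ≫ pullback.fst _ _ := by
      intro R _ _ s hs
      have h1 : CommRingCat.ofHom (algebraMap A R) ≫ Spec.preimage (s ≫ pullback.fst _ _) = φ :=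
        Spec.map_injective (by
          rw [Spec.map_comp, Spec.map_preimage, hφ, ← hs, Category.assoc, Category.assoc, pullback.condition])
      refine ⟨{ (Spec.preimage (s ≫ pullback.fst (sp A R) U.ι)).hom with
        commutes' := fun a => ConcreteCategory.congr_hom h1 a }, ?_⟩
      exact Spec.map_preimage _
    constructor
    · intro s t hst
      obtain ⟨β, hβ⟩ := hpt B s.1 s.2
      obtain ⟨γ, hγ⟩ := hpt B t.1 t.2
      have hc : ∀ c, β (f c) = γ (f c) := fun c => by
        have h1 : Spec.map (CommRingCat.ofHom (β.comp f).toRingHom) = Spec.map (CommRingCat.ofHom (γ.comp f).toRingHom) := by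
          have h2 : (s.1 ≫ restMapU f) ≫ pullback.fst _ _ = (t.1 ≫ restMapU f) ≫ pullback.fst _ _ :=
            congrArg (· ≫ pullback.fst _ _) (congrArg Subtype.val hst)
          rw [Category.assoc, Category.assoc, restMapU, pullback.lift_fst, ← Category.assoc, ← Category.assoc,
            ← hβ, ← hγ, ← Spec.map_comp, ← Spec.map_comp] at h2
          exact h2
        exact ConcreteCategory.congr_hom (Spec.map_injective h1) c
      have hb : β = γ := AlgHom.ext fun b => by
        obtain ⟨n, c, hc'⟩ := (hf j).1 b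
        have := hc c
        rw [← hc', map_smul, map_smul, Algebra.smul_def, Algebra.smul_def, map_pow] at this
        exact (hu.pow n).mul_left_cancel this
      refine Subtype.ext (pullback.hom_ext ?_ (s.2.trans t.2.symm))
      rw [← hβ, ← hγ, hb]
    · intro t
      obtain ⟨γ, hγ⟩ := hpt C t.1 t.2
      obtain ⟨β, hβ⟩ := (hf j).exists_extend γ hu
      have hw : Spec.map (CommRingCat.ofHom β.toRingHom) ≫ sp A B = ξ ≫ U.ι := by
        rw [← Spec.map_comp, ← hφ]
        congr 1
        ext a
        exact β.commutes a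
      refine ⟨⟨pullback.lift _ ξ hw, pullback.lift_snd _ _ _⟩, Subtype.ext ?_⟩
      show pullback.lift _ ξ hw ≫ restMapU f = t.1
      refine pullback.hom_ext ?_ ?_
      · rw [Category.assoc, restMapU, pullback.lift_fst, pullback.lift_fst_assoc, ← hγ, ← Spec.map_comp]
        congr 1
        ext c
        exact hβ c
      · rw [Category.assoc, restMapU, pullback.lift_snd, pullback.lift_snd]
        exact t.2.symm
  exact ⟨asIso ψ⟩

variable [IsNoetherianRing A]

/-- A cover of the open comes from an integral algebra. -/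
theorem exists_integral_modelU (V : FEt.Cat (U : Scheme.{u})) :
    ∃ (R : Type u) (_ : CommRing R) (_ : Algebra A R) (_ : Algebra.IsIntegral A R) (hR : FEt.prop (restU U R)),
      Nonempty (objU U R hR ≅ V) := by
  let v : V.left ⟶ (U : Scheme.{u}) := V.hom
  haveI : IsFinite v := V.prop.1
  haveI : Etale v := V.prop.2
  haveI : CompactSpace (U : Scheme.{u}) := isCompact_iff_compactSpace.1 (TopologicalSpace.NoetherianSpace.isCompact _)
  haveI : CompactSpace V.left := QuasiCompact.compactSpace_of_compactSpace v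
  let j : V.left ⟶ Spec (CommRingCat.of A) := v ≫ U.ι
  haveI : QuasiCompact j := inferInstance
  haveI : QuasiSeparated j := inferInstance
  haveI : IsSeparated j := inferInstance
  haveI : LocallyOfFiniteType j := inferInstance
  haveI : LocallyQuasiFinite j := inferInstance
  haveI : IsAffine j.normalization := isAffine_of_isAffineHom j.fromNormalization
  let R := Γ(j.normalization, ⊤)
  let φ := (Scheme.ΓSpecIso (CommRingCat.of A)).inv ≫ j.fromNormalization.appTop
  letI : Algebra A R := φ.hom.toAlgebra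
  let t : V.left ⟶ Spec (CommRingCat.of R) := j.toNormalization ≫ j.normalization.isoSpec.hom
  have hπ : j.normalization.isoSpec.hom ≫ sp A R = j.fromNormalization := by
    show j.normalization.isoSpec.hom ≫ Spec.map φ = _
    rw [Spec.map_comp, ← Category.assoc, Scheme.isoSpec_hom_naturality, Category.assoc]
    simp [Scheme.isoSpec, toSpecΓ_SpecMap_ΓSpecIso_inv]
  haveI : Algebra.IsIntegral A R := by
    have h1 : IsIntegralHom (sp A R) := by
      rw [← MorphismProperty.cancel_left_of_respectsIso (P := @IsIntegralHom) j.normalization.isoSpec.hom, hπ]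
      infer_instance
    exact algebraMap_isIntegral_iff.1 (IsIntegralHom.SpecMap_iff.1 h1)
  have ht : t ≫ sp A R = j := by
    rw [Category.assoc, hπ, Scheme.Hom.toNormalization_fromNormalization]
  haveI : IsDominant t := inferInstance
  haveI : IsOpenImmersion t := inferInstance
  let q : V.left ⟶ pullback (sp A R) U.ι := pullback.lift t v ht
  have hq1 : q ≫ pullback.fst _ _ = t := pullback.lift_fst _ _ _
  have hq2 : q ≫ restU U R = v := pullback.lift_snd _ _ _
  haveI : IsFinite q := by
    haveI : IsFinite (q ≫ restU U R) := by rw [hq2]; infer_instance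
    exact IsFinite.of_comp q (restU U R)
  haveI : IsOpenImmersion q := by
    haveI : IsOpenImmersion (q ≫ pullback.fst _ _) := by rw [hq1]; infer_instance
    exact IsOpenImmersion.of_comp q (pullback.fst _ _)
  haveI : Surjective q := by
    refine ⟨fun y => ?_⟩
    by_contra hne
    have hopen := (pullback.fst (sp A R) U.ι).isOpenMap _ q.isClosedMap.isClosed_range.isOpen_compl
    obtain ⟨z, ⟨w, hw, rfl⟩, v, hv⟩ := t.denseRange.inter_open_nonempty _ hopen
      ⟨_, y, fun ⟨a, ha⟩ => hne ⟨a, ha⟩, rfl⟩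
    refine hw ⟨v, (pullback.fst (sp A R) U.ι).isOpenEmbedding.injective ?_⟩
    rw [← Scheme.Hom.comp_apply, hq1]
    exact hv
  haveI : IsIso q := (isIso_iff_isOpenImmersion_and_surjective q).2 ⟨inferInstance, inferInstance⟩
  have hR : FEt.prop (restU U R) := by
    rw [← MorphismProperty.cancel_left_of_respectsIso (P := FEt.prop) q, hq2]
    exact V.prop
  let ψ : V ⟶ objU U R hR := MorphismProperty.Over.homMk q hq2
  haveI : IsIso ψ := ⟨MorphismProperty.Over.homMk (inv q) (by
      show inv q ≫ v = restU U R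
      rw [← hq2, IsIso.inv_hom_id_assoc]),
    MorphismProperty.Over.Hom.ext (IsIso.hom_inv_id q), MorphismProperty.Over.Hom.ext (IsIso.inv_hom_id q)⟩
  exact ⟨R, inferInstance, inferInstance, inferInstance, hR, ⟨(asIso ψ).symm⟩⟩

variable [Fintype ι]

/-- A cover of the open comes from a finite algebra. -/
theorem exists_model (hU : IsUnion U h) (V : FEt.Cat (U : Scheme.{u})) :
    ∃ (C : Type u) (_ : CommRing C) (_ : Algebra A C) (_ : Module.Finite A C) (_ : ∀ j, EtAway A C (h j))
      (k : V.left ⟶ Spec (CommRingCat.of C)),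
      IsOpenImmersion k ∧ k ≫ sp A C = V.hom ≫ U.ι ∧ ∀ p : PrimeSpectrum C, p ∈ OSet h C ↔ ∃ v, k v = p := by
  classical
  obtain ⟨R, _, _, hint, hR, ⟨e⟩⟩ := exists_integral_modelU V
  have hsel : ∀ j : ι, ∃ s : Finset R, ∀ C : Subalgebra A R, ↑s ⊆ (C : Set R) →
      ∀ r : R, ∃ n : ℕ, h j ^ n • r ∈ C := fun j => by
    let g := h j
    let Ag := Localization.Away g
    haveI := (chart_prop hU hR j).1
    have htop : Submodule.span Ag (Set.range fun r : R => (1 : Ag) ⊗ₜ[A] r) = ⊤ := by
      refine top_le_iff.1 fun z _ => ?_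
      induction z using TensorProduct.induction_on with
      | zero => exact zero_mem _
      | tmul a r =>
        rw [show (a ⊗ₜ[A] r : Ag ⊗[A] R) = a • ((1 : Ag) ⊗ₜ[A] r) by simp [TensorProduct.smul_tmul']]
        exact Submodule.smul_mem _ _ (Submodule.subset_span ⟨r, rfl⟩)
      | add x y hx hy => exact add_mem (hx trivial) (hy trivial)
    obtain ⟨s', hs', hspan⟩ := (Submodule.fg_span_iff_fg_span_finset_subset _).1
      (htop ▸ (Module.Finite.fg_top : (⊤ : Submodule Ag (Ag ⊗[A] R)).FG))
    choose r hr using fun z : s' => hs' z.2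
    refine ⟨Finset.univ.image r, fun C hC x => ?_⟩
    haveI : IsLocalizedModule (Submonoid.powers g) (TensorProduct.mk A Ag R 1) :=
      (isLocalizedModule_iff_isBaseChange (Submonoid.powers g) Ag _).2 (TensorProduct.isBaseChange A R Ag)
    suffices hz : ∀ z ∈ Submodule.span Ag (s' : Set (Ag ⊗[A] R)),
        ∃ (n : ℕ) (c : R), c ∈ C ∧ g ^ n • z = (1 : Ag) ⊗ₜ[A] c by
      obtain ⟨n, c, hc, he⟩ := hz ((1 : Ag) ⊗ₜ[A] x) (hspan ▸ htop.ge trivial)
      rw [← TensorProduct.tmul_smul] at he
      obtain ⟨⟨_, m, rfl⟩, hm⟩ := (IsLocalizedModule.eq_iff_exists (Submonoid.powers g) (TensorProduct.mk A Ag R 1)).1 he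
      refine ⟨m + n, ?_⟩
      rw [pow_add, mul_smul]
      exact hm ▸ C.smul_mem hc _
    intro z hz
    induction hz using Submodule.span_induction with
    | mem z hz =>
      refine ⟨0, r ⟨z, hz⟩, hC (Finset.mem_coe.2 (Finset.mem_image_of_mem r (Finset.mem_univ _))), ?_⟩
      rw [pow_zero, one_smul]
      exact (hr ⟨z, hz⟩).symm
    | zero => exact ⟨0, 0, C.zero_mem, by simp⟩
    | add z z' _ _ hz hz' =>
      obtain ⟨n, c, hc, he⟩ := hz
      obtain ⟨n', c', hc', he'⟩ := hz'
      refine ⟨n + n', g ^ n' • c + g ^ n • c', C.add_mem (C.smul_mem hc _) (C.smul_mem hc' _), ?_⟩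
      rw [TensorProduct.tmul_add, TensorProduct.tmul_smul, TensorProduct.tmul_smul, ← he, ← he', smul_smul,
        smul_smul, smul_add, pow_add, mul_comm (g ^ n) (g ^ n')]
    | smul a z _ hz =>
      obtain ⟨n, c, hc, he⟩ := hz
      obtain ⟨a₀, ⟨_, m, rfl⟩, rfl⟩ := IsLocalization.exists_mk'_eq (Submonoid.powers g) a
      refine ⟨m + n, a₀ • c, C.smul_mem hc _, ?_⟩
      rw [TensorProduct.tmul_smul, ← he, pow_add, mul_smul, smul_comm (g ^ n), ← smul_assoc, Algebra.smul_def]
      exact (congrArg (· • (g ^ n • z)) (IsLocalization.mk'_spec' Ag a₀ (⟨g ^ m, m, rfl⟩ : Submonoid.powers g))).trans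
        (algebraMap_smul Ag a₀ _)
  choose s hs using hsel
  let S : Finset R := Finset.univ.biUnion s
  let C : Subalgebra A R := Algebra.adjoin A (S : Set R)
  haveI : Module.Finite A C :=
    Module.Finite.iff_fg.2 (fg_adjoin_of_finite S.finite_toSet fun x _ => Algebra.IsIntegral.isIntegral x)
  have hiso : ∀ j, IsoAway C.val (h j) := fun j =>
    ⟨fun r => by
      obtain ⟨n, hn⟩ := hs j C ((Finset.coe_subset.2 (Finset.subset_biUnion_of_mem s (Finset.mem_univ j))).trans
        Algebra.subset_adjoin) r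
      exact ⟨n, ⟨_, hn⟩, rfl⟩,
    fun c hc => ⟨0, by rw [pow_zero, one_smul]; exact Subtype.ext hc⟩⟩
  have hC : ∀ j, EtAway A C (h j) := fun j => by
    haveI := (chart_prop hU hR j).2
    exact etAway_of_isoAway (hiso j) (etAway_of_etale (h j))
  haveI : Algebra.FinitePresentation A C := Algebra.FinitePresentation.of_finiteType.mp inferInstance
  have hprop : FEt.prop (restU U C) := prop_of_etale_over C U fun q _ hq => by
    obtain ⟨j, hj⟩ := (hU _).1 hq
    exact (Algebra.basicOpen_subset_etaleLocus_iff_etale.2 (hC j)) (a := (⟨q, inferInstance⟩ : PrimeSpectrum C)) hj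
  obtain ⟨e'⟩ := nonempty_isoU hU C.val hiso hprop hR
  let E := e'.symm ≪≫ e
  let e₀ : pullback (sp A C) U.ι ≅ V.left := (MorphismProperty.Over.forget _ _ _ ⋙ Over.forget _).mapIso E
  let k : V.left ⟶ Spec (CommRingCat.of C) := e₀.inv ≫ pullback.fst (sp A C) U.ι
  have he : e₀.hom ≫ V.hom = restU U C := MorphismProperty.Over.w E.hom
  refine ⟨C, inferInstance, inferInstance, inferInstance, hC, k, inferInstance, ?_, fun p => ?_⟩
  · show (e₀.inv ≫ pullback.fst (sp A C) U.ι) ≫ sp A C = V.hom ≫ U.ι
    rw [Category.assoc, pullback.condition, ← Category.assoc, (Iso.inv_comp_eq e₀).2 he.symm]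
  · rw [show p ∈ OSet h C ↔ (sp A C p : PrimeSpectrum A) ∈ U from (hU (sp A C p)).symm]
    constructor
    · intro hp
      have h1 : (p : Spec (CommRingCat.of C)) ∈ Set.range (pullback.fst (sp A C) U.ι) := by
        rw [IsOpenImmersion.range_pullbackFst, Scheme.Opens.opensRange_ι]
        exact hp
      obtain ⟨q, hq⟩ := h1
      exact ⟨e₀.hom q, by rw [← Scheme.Hom.comp_apply, Iso.hom_inv_id_assoc, hq]⟩
    · rintro ⟨v, rfl⟩
      have hk : k ≫ sp A C = V.hom ≫ U.ι := by
        show (e₀.inv ≫ pullback.fst (sp A C) U.ι) ≫ sp A C = V.hom ≫ U.ι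
        rw [Category.assoc, pullback.condition, ← Category.assoc, (Iso.inv_comp_eq e₀).2 he.symm]
      rw [← Scheme.Hom.comp_apply, hk, Scheme.Hom.comp_apply]
      exact (V.hom v).2

end Groth.Agent.Pi1Rig

end
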