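import Groth.Agent.Pi1Rig.Algebraize
import Groth.Agent.Pi1Rig.Model
import Groth.Agent.Pi1Rig.FullAt
import Mathlib.Topology.NoetherianSpace

/-!
# Full faithfulness of restriction from the neighbourhoods of the punctured divisor
-/

set_option autoImplicit false
set_option linter.unusedSectionVars false
set_option linter.style.haveILetI false
set_option backward.isDefEq.respectTransparency false
set_option backward.isDefEq.respectTransparency.types false
universe u

open CategoryTheory CategoryTheory.Limits AlgebraicGeometry IsLocalRing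

noncomputable section

namespace Groth.Agent.Pi1Rig

open Groth.Agent Groth.Agent.Pi1Alg Groth.Agent.Pi1Ext Groth.Agent.Pi1Ext.RegPurity Groth.Agent.Pi1Ext.PuritySch

theorem finite_clopens (X : Type u) [TopologicalSpace X] [TopologicalSpace.NoetherianSpace X] :
    {S : Set X | IsClopen S}.Finite := by
  refine Set.Finite.of_injOn (f := fun S => {Z | Z ∈ irreducibleComponents X ∧ Z ⊆ S})
    (t := {s | s ⊆ irreducibleComponents X}) (fun S _ Z hZ => hZ.1) (fun S hS T hT hST => ?_)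
    TopologicalSpace.NoetherianSpace.finite_irreducibleComponents.finite_subsets
  have key : ∀ {S : Set X}, IsClopen S → ∀ x ∈ S, irreducibleComponent x ⊆ S := fun hS x hx =>
    isIrreducible_irreducibleComponent.isConnected.isPreconnected.subset_isClopen hS
      ⟨x, mem_irreducibleComponent, hx⟩
  ext x
  constructor
  · intro hx
    exact ((Set.ext_iff.1 hST (irreducibleComponent x)).1
      ⟨irreducibleComponent_mem_irreducibleComponents x, key hS x hx⟩).2 mem_irreducibleComponent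
  · intro hx
    exact ((Set.ext_iff.1 hST (irreducibleComponent x)).2
      ⟨irreducibleComponent_mem_irreducibleComponents x, key hT x hx⟩).2 mem_irreducibleComponent

variable {A : Type u} [CommRing A] [IsLocalRing A] [IsNoetherianRing A]

theorem isSMulRegular_loc {f : A} (hf : IsSMulRegular A f) {C : Type u} [CommRing C] [Algebra A C] {x : A}
    (hx : EtAway A C x) : IsSMulRegular (L C x) f := by
  haveI : Algebra.Etale A (Loc C x) := hx
  haveI : Module.Flat A (Loc C x) := inferInstance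
  have h := hf.lTensor (M := Loc C x)
  intro a b hab
  refine (locEquiv C x).injective ?_
  refine (TensorProduct.rid A (Loc C x)).symm.injective (h ?_)
  show f • (TensorProduct.rid A (Loc C x)).symm _ = f • (TensorProduct.rid A (Loc C x)).symm _
  rw [← map_smul, ← map_smul, ← map_smul, ← map_smul]
  exact congrArg (fun z => (TensorProduct.rid A (Loc C x)).symm (locEquiv C x z)) hab

variable {U : (Spec (CommRingCat.of A)).Opens} {f : A}

/-- Clopen subsets of restrictions to the divisor extend to neighbourhoods. -/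
def CanLift (f : A) {U : (Spec (CommRingCat.of A)).Opens} {X : Scheme.{u}} (i : X ⟶ (U : Scheme.{u})) : Prop :=
  ∀ (W : FEt.Cat (U : Scheme.{u})) (S₀ : Set ↥(pullback W.hom i)), IsClopen S₀ →
    ∃ U₁ : (Spec (CommRingCat.of A)).Opens, U₁ ≤ U ∧
      (∀ p : PrimeSpectrum A, f ∈ p.asIdeal → p ∈ U → p ∈ U₁) ∧
      ∃ G G' : Set W.left, IsOpen G ∧ IsOpen G' ∧ (∀ v, U.ι (W.hom v) ∈ U₁ → (v ∈ G' ↔ v ∉ G)) ∧
        (pullback.fst W.hom i).base ⁻¹' G = S₀

/-- A clopen subset of the restriction to the divisor extends to a neighbourhood. -/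
theorem lift_one (hf : f ∈ maximalIdeal A) [IsAdicComplete (Ideal.span {f}) A] (hnz : f ∈ nonZeroDivisors A)
    (h1 : Module.Finite A (LocCoh.H (maximalIdeal A) 1 (A ⧸ Ideal.span {f}))) (hU : U ≤ FEt.puncturedSpec A)
    (hUf : ∀ p : PrimeSpectrum A, f ∈ p.asIdeal → p ∈ FEt.puncturedSpec A → p ∈ U) {X : Scheme.{u}}
    (i : X ⟶ (U : Scheme.{u})) [IsClosedImmersion i]
    (hi : Set.range i = {x | f ∈ (U.ι x : PrimeSpectrum A).asIdeal}) (W : FEt.Cat (U : Scheme.{u}))
    {S₀ : Set ↥(pullback W.hom i)} (hS₀ : IsClopen S₀) :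
    ∃ U₁ : (Spec (CommRingCat.of A)).Opens, U₁ ≤ U ∧
      (∀ p : PrimeSpectrum A, f ∈ p.asIdeal → p ∈ U → p ∈ U₁) ∧
      ∃ G G' : Set W.left, IsOpen G ∧ IsOpen G' ∧ (∀ v, U.ι (W.hom v) ∈ U₁ → (v ∈ G' ↔ v ∉ G)) ∧
        (pullback.fst W.hom i).base ⁻¹' G = S₀ := by
  classical
  obtain ⟨J, hJ⟩ := (PrimeSpectrum.isOpen_iff (R := A) U.1).1 U.2
  obtain ⟨I, hI⟩ : ∃ I : Ideal A, (U.1 : Set (PrimeSpectrum A))ᶜ = PrimeSpectrum.zeroLocus (I : Set A) :=
    ⟨Ideal.span J, by rw [PrimeSpectrum.zeroLocus_span]; exact hJ⟩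
  obtain ⟨r, h, rfl⟩ := Submodule.fg_iff_exists_fin_generating_family.1 (IsNoetherian.noetherian I)
  have hun : IsUnion U h := fun p => by
    have : p ∈ PrimeSpectrum.zeroLocus (Ideal.span (Set.range h) : Set A) ↔ p ∉ U := Set.ext_iff.1 hI.symm p
    rw [PrimeSpectrum.zeroLocus_span, PrimeSpectrum.mem_zeroLocus] at this
    rw [← not_not (a := p ∈ U), ← this, Set.range_subset_iff, not_forall]
    rfl
  have hhm : ∀ j, h j ∈ maximalIdeal A := fun j => by
    by_contra hne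
    exact hU ((hun (IsLocalRing.closedPoint A)).2 ⟨j, hne⟩) rfl
  obtain ⟨C, _, _, _, hC, k, hk, hkw, hrange⟩ := exists_model hun W
  haveI := hk
  have hko := k.isOpenEmbedding
  have hreg : IsSMulRegular A f := fun a b hab => (mul_cancel_left_mem_nonZeroDivisors hnz).1 hab
  have hrad : (Ideal.span (Set.range h) ⊔ Ideal.span {f}).radical = maximalIdeal A := by
    refine le_antisymm ?_ ?_
    · rw [(maximalIdeal.isMaximal A).isPrime.radical_le_iff, sup_le_iff, Ideal.span_le,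
        Ideal.span_singleton_le_iff_mem]
      exact ⟨Set.range_subset_iff.2 hhm, hf⟩
    · rw [Ideal.radical_eq_sInf]
      refine le_sInf fun p ⟨hle, hp⟩ => ?_
      by_contra hne
      have hpP : (⟨p, hp⟩ : PrimeSpectrum A) ∈ FEt.puncturedSpec A := fun e =>
        hne (le_of_eq (congrArg PrimeSpectrum.asIdeal e).symm)
      obtain ⟨j, hj⟩ := (hun _).1 (hUf ⟨p, hp⟩ (hle (Ideal.mem_sup_right (Ideal.mem_span_singleton_self f))) hpP)
      exact hj (hle (Ideal.mem_sup_left (Ideal.subset_span ⟨j, rfl⟩)))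
  have hfin := finite_H0_quot hrad (fun j => exists_retr_base (hC j)) h1
  haveI : Algebra.FinitePresentation A C := Algebra.FinitePresentation.of_finiteType.mp inferInstance
  have hr2 : ∀ j l, IsSMulRegular (L C (h j * h l)) f := fun j l => by
    refine isSMulRegular_loc hreg ?_
    unfold EtAway
    rw [← Algebra.basicOpen_subset_etaleLocus_iff_etale]
    refine subset_trans ?_ (Algebra.basicOpen_subset_etaleLocus_iff_etale.2 (hC j))
    rw [map_mul]
    exact PrimeSpectrum.basicOpen_mul_le_left _ _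
  have hpt : ∀ v, sp A C (k v) = U.ι (W.hom v) := fun v => by
    rw [← Scheme.Hom.comp_apply, hkw, Scheme.Hom.comp_apply]
    rfl
  -- the clopen set on the chart
  let j₀ : pullback W.hom i ⟶ W.left := pullback.fst W.hom i
  haveI : IsClosedImmersion j₀ := MorphismProperty.pullback_fst _ _ ‹IsClosedImmersion i›
  have hj := j₀.isClosedEmbedding
  have hjr : ∀ v, v ∈ Set.range j₀ ↔ (k v : PrimeSpectrum C) ∈ ZSet f C := fun v => by
    rw [show Set.range j₀ = W.hom ⁻¹' Set.range i from Scheme.Pullback.range_fst _ _, hi]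
    show _ ↔ f ∈ (sp A C (k v) : PrimeSpectrum A).asIdeal
    exact (iff_of_eq (congrArg (fun p : PrimeSpectrum A => f ∈ p.asIdeal) (hpt v))).symm
  let D : Set (PrimeSpectrum C) := k '' (j₀ '' S₀)
  obtain ⟨e₀, he1, he2, he3⟩ := exists_family h f D (k '' (j₀ '' S₀ᶜ)ᶜ) (k '' (j₀ '' S₀)ᶜ)
    (hko.isOpenMap _ (hj.isClosedMap _ hS₀.compl.isClosed).isOpen_compl)
    (hko.isOpenMap _ (hj.isClosedMap _ hS₀.isClosed).isOpen_compl) (fun p hp hpZ => by
      obtain ⟨v, rfl⟩ := (hrange p).1 hp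
      obtain ⟨x, rfl⟩ := (hjr v).2 hpZ
      simp only [D, hko.injective.mem_set_image, Set.mem_compl_iff, hj.injective.mem_set_image, not_not, true_and])
  obtain ⟨a, ha, v, hvH, hvv, hvw⟩ :=
    exists_idem_near (fun j => isSMulRegular_loc hreg (hC j)) hr2 hfin e₀ he1 he2
  choose w hw using hvw
  obtain ⟨E₁, E₂, hE₁, hE₂, hEE, hED⟩ := exists_extend_of_idem (fun j => a j * h j) (D := D)
    (a := fun j => res C (dvd_snd (a j) (h j)) (e₀ j)) (fun j P hP => by
      rw [← resL_res, ← ch_comap C (dvd_snd (a j) (h j)) P]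
      refine Iff.trans ?_ (he3 j _ ?_)
      · rfl
      · show (resL C (dvd_snd (a j) (h j))) (algebraMap A (Loc C (h j)) f) ∈ P.asIdeal
        rw [← AlgHom.restrictScalars_apply A, AlgHom.commutes]
        exact hP) hvH hvv (y := w) (funext hw)
  let U₁ : (Spec (CommRingCat.of A)).Opens :=
    ⟨⋃ j, (PrimeSpectrum.basicOpen (a j * h j) : Set (PrimeSpectrum A)),
      isOpen_iUnion fun j => (PrimeSpectrum.basicOpen _).2⟩
  have hmem : ∀ p : PrimeSpectrum A, p ∈ U₁ ↔ ∃ j, a j * h j ∉ p.asIdeal := fun p => Set.mem_iUnion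
  have hZU : ∀ p : PrimeSpectrum A, f ∈ p.asIdeal → p ∈ U → p ∈ U₁ := fun p hfp hp => by
    obtain ⟨j, hj⟩ := (hun p).1 hp
    obtain ⟨b, n, hab⟩ := ha j
    refine (hmem p).2 ⟨j, fun hm => (p.2.mem_or_mem hm).elim (fun h' => hj (p.2.mem_of_pow_mem n ?_)) hj⟩
    rw [hab] at h'
    exact (p.asIdeal.add_mem_iff_left (p.asIdeal.mul_mem_right b hfp)).1 h'
  have hO : ∀ v, (k v : PrimeSpectrum C) ∈ OSet (fun j => a j * h j) C ↔ U.ι (W.hom v) ∈ U₁ := fun v => by
    exact (hmem (sp A C (k v))).symm.trans (iff_of_eq (congrArg (· ∈ U₁) (hpt v)))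
  refine ⟨U₁, fun p hp => ?_, hZU, k ⁻¹' E₁, k ⁻¹' E₂, hE₁.preimage k.continuous, hE₂.preimage k.continuous,
    fun v hv => hEE _ ((hO v).2 hv), Set.ext fun x => ?_⟩
  · obtain ⟨j, hj⟩ := (hmem p).1 hp
    exact (hun p).2 ⟨j, fun h' => hj (Ideal.mul_mem_left _ _ h')⟩
  · have hz : (k (j₀ x) : PrimeSpectrum C) ∈ ZSet f C := (hjr _).1 ⟨x, rfl⟩
    have hU1 : U.ι (W.hom (j₀ x)) ∈ U₁ :=
      hZU _ ((congrArg (fun p : PrimeSpectrum A => f ∈ p.asIdeal) (hpt (j₀ x))).mp hz) (W.hom (j₀ x)).2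
    show k (j₀ x) ∈ E₁ ↔ x ∈ S₀
    rw [hED _ ((hO _).2 hU1) hz, hko.injective.mem_set_image, hj.injective.mem_set_image]

/-- All clopen subsets of the restriction to the divisor extend to a common neighbourhood. -/
theorem lift_all {X : Scheme.{u}} (i : X ⟶ (U : Scheme.{u})) [IsClosedImmersion i]
    (hone : CanLift f i) (W : FEt.Cat (U : Scheme.{u})) :
    ∃ U₁ : (Spec (CommRingCat.of A)).Opens, U₁ ≤ U ∧
      (∀ p : PrimeSpectrum A, f ∈ p.asIdeal → p ∈ U → p ∈ U₁) ∧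
      ∀ S₀ : Set ↥(pullback W.hom i), IsClopen S₀ → ∃ G G' : Set W.left, IsOpen G ∧ IsOpen G' ∧
        (∀ v, U.ι (W.hom v) ∈ U₁ → (v ∈ G' ↔ v ∉ G)) ∧ (pullback.fst W.hom i).base ⁻¹' G = S₀ := by
  haveI : CompactSpace (U : Scheme.{u}) := isCompact_iff_compactSpace.1 (TopologicalSpace.NoetherianSpace.isCompact _)
  let w : W.left ⟶ (U : Scheme.{u}) := W.hom
  haveI : IsFinite w := W.prop.1
  haveI : IsLocallyNoetherian W.left := LocallyOfFiniteType.isLocallyNoetherian w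
  haveI : CompactSpace W.left := QuasiCompact.compactSpace_of_compactSpace w
  haveI : IsClosedImmersion (pullback.fst W.hom i) := MorphismProperty.pullback_fst _ _ ‹IsClosedImmersion i›
  haveI : AlgebraicGeometry.IsNoetherian W.left := {}
  haveI : TopologicalSpace.NoetherianSpace ↥((𝟭 Scheme.{u}).obj W.left) :=
    (inferInstance : TopologicalSpace.NoetherianSpace ↥W.left)
  haveI : TopologicalSpace.NoetherianSpace ↥(pullback W.hom i) :=
    (pullback.fst W.hom i).isClosedEmbedding.isEmbedding.isInducing.noetherianSpace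
  haveI : Finite {S : Set ↥(pullback W.hom i) // IsClopen S} := (finite_clopens _).to_subtype
  choose U₁ hle hZ G G' hG hG' hGG hpre using
    fun S : {S : Set ↥(pullback W.hom i) // IsClopen S} => hone W S.1 S.2
  let V : (Spec (CommRingCat.of A)).Opens := ⟨⋂ S, ((U₁ S).1 : Set (PrimeSpectrum A)), isOpen_iInter_of_finite fun S => (U₁ S).2⟩
  refine ⟨U ⊓ V, inf_le_left, fun p hfp hp => ⟨hp, Set.mem_iInter.2 fun S => hZ S p hfp hp⟩, fun S₀ hS₀ => ?_⟩
  exact ⟨G ⟨S₀, hS₀⟩, G' ⟨S₀, hS₀⟩, hG _, hG' _, fun v hv => hGG _ v (Set.mem_iInter.1 hv.2 ⟨S₀, hS₀⟩), hpre _⟩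

/-- Removal of the clopen subsets missing the divisor. -/
theorem exists_shrink (U₁ : (Spec (CommRingCat.of A)).Opens) :
    ∃ U₂ : (Spec (CommRingCat.of A)).Opens, U₂ ≤ U₁ ∧
      (∀ p : PrimeSpectrum A, f ∈ p.asIdeal → p ∈ U₁ → p ∈ U₂) ∧
      ∀ S : Set (U₂ : Scheme.{u}), IsClopen S → S.Nonempty → ∃ x ∈ S, f ∈ (U₂.ι x : PrimeSpectrum A).asIdeal := by
  haveI : TopologicalSpace.NoetherianSpace (U₁ : Scheme.{u}) :=
    U₁.ι.isOpenEmbedding.isEmbedding.isInducing.noetherianSpace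
  let T : Set (Set (U₁ : Scheme.{u})) := {S | IsClopen S ∧ ∀ x ∈ S, f ∉ (U₁.ι x : PrimeSpectrum A).asIdeal}
  have hB : IsClopen (⋃₀ T) := by
    refine ⟨?_, isOpen_sUnion fun S hS => hS.1.2⟩
    rw [Set.sUnion_eq_biUnion]
    exact ((finite_clopens _).subset fun S hS => hS.1).isClosed_biUnion fun S hS => hS.1.1
  let U₂ : (Spec (CommRingCat.of A)).Opens := U₁.ι ''ᵁ ⟨(⋃₀ T)ᶜ, hB.compl.2⟩
  have hle : U₂ ≤ U₁ := U₁.ι_image_le _
  refine ⟨U₂, hle, fun p hfp hp => ⟨⟨p, hp⟩, fun ⟨S, hS, hx⟩ => hS.2 _ hx hfp, rfl⟩, fun S hS ⟨s, hs⟩ => ?_⟩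
  by_contra hne
  let m := (Spec (CommRingCat.of A)).homOfLE hle
  have hm : ∀ y, U₁.ι (m y) = U₂.ι y := fun y => by rw [← Scheme.Hom.comp_apply, Scheme.homOfLE_ι]
  have hrange : ∀ x, x ∉ ⋃₀ T ↔ x ∈ Set.range m := fun x => by
    constructor
    · intro hx
      refine ⟨⟨U₁.ι x, x, hx, rfl⟩, U₁.ι.isOpenEmbedding.injective ?_⟩
      rw [hm]
      rfl
    · rintro ⟨y, rfl⟩
      obtain ⟨x, hx, hxe⟩ := y.2
      rwa [U₁.ι.isOpenEmbedding.injective (show U₁.ι (m y) = U₁.ι x by rw [hm]; exact hxe.symm)]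
  have hmo := m.isOpenEmbedding
  have hS' : IsClopen (m '' S) := by
    refine ⟨⟨?_⟩, hmo.isOpenMap _ hS.2⟩
    rw [show (m '' S)ᶜ = m '' Sᶜ ∪ ⋃₀ T from Set.ext fun x => ?_]
    · exact (hmo.isOpenMap _ hS.compl.2).union hB.2
    · by_cases hx : x ∈ ⋃₀ T
      · exact iff_of_true (fun ⟨y, _, hy⟩ => (hrange x).2 ⟨y, hy⟩ hx) (Or.inr hx)
      · obtain ⟨y, rfl⟩ := (hrange x).1 hx
        simp [hmo.injective.mem_set_image, hx]
  refine (hrange _).2 ⟨s, rfl⟩ ⟨m '' S, ⟨hS', ?_⟩, s, hs, rfl⟩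
  rintro _ ⟨y, hy, rfl⟩ hfy
  exact hne ⟨y, hy, by rwa [← hm]⟩

/-- The divisor maps into a neighbourhood. -/
theorem exists_factor {U₂ : (Spec (CommRingCat.of A)).Opens} (hle : U₂ ≤ U) {X : Scheme.{u}} (i : X ⟶ (U : Scheme.{u}))
    (hi : Set.range i = {x | f ∈ (U.ι x : PrimeSpectrum A).asIdeal})
    (hZ : ∀ p : PrimeSpectrum A, f ∈ p.asIdeal → p ∈ U → p ∈ U₂)
    (hmeet : ∀ S : Set (U₂ : Scheme.{u}), IsClopen S → S.Nonempty → ∃ x ∈ S, f ∈ (U₂.ι x : PrimeSpectrum A).asIdeal) :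
    ∃ i₂ : X ⟶ (U₂ : Scheme.{u}), i₂ ≫ (Spec (CommRingCat.of A)).homOfLE hle = i ∧
      ∀ S : Set (U₂ : Scheme.{u}), IsClopen S → S.Nonempty → (S ∩ Set.range i₂.base).Nonempty := by
  let m := (Spec (CommRingCat.of A)).homOfLE hle
  have hm : ∀ y, U.ι (m y) = U₂.ι y := fun y => by rw [← Scheme.Hom.comp_apply, Scheme.homOfLE_ι]
  have hsub : Set.range i ⊆ Set.range m := by
    rintro x hx
    refine ⟨⟨U.ι x, hZ _ (hi.le hx) x.2⟩, U.ι.isOpenEmbedding.injective ?_⟩
    rw [hm]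
    rfl
  let i₂ : X ⟶ (U₂ : Scheme.{u}) := IsOpenImmersion.lift m i hsub
  have hi₂ : i₂ ≫ m = i := IsOpenImmersion.lift_fac _ _ _
  refine ⟨i₂, hi₂, fun S hS hne => ?_⟩
  obtain ⟨y, hy, hfy⟩ := hmeet S hS hne
  obtain ⟨z, hz⟩ : m y ∈ Set.range i := hi.ge (by
    show f ∈ (U.ι (m y) : PrimeSpectrum A).asIdeal
    rwa [hm])
  refine ⟨y, hy, z, m.isOpenEmbedding.injective ?_⟩
  rw [← hz, ← Scheme.Hom.comp_apply, hi₂]

/-- Products of restricted covers. -/
theorem isPullback_prod {T S Y Z : Scheme.{u}} (m : T ⟶ S) (y : Y ⟶ S) (z : Z ⟶ S) :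
    IsPullback
      (pullback.lift (pullback.fst (pullback.snd y m) (pullback.snd z m) ≫ pullback.fst y m)
        (pullback.snd (pullback.snd y m) (pullback.snd z m) ≫ pullback.fst z m)
        (by rw [Category.assoc, pullback.condition, Category.assoc, pullback.condition, pullback.condition_assoc]))
      (pullback.fst (pullback.snd y m) (pullback.snd z m) ≫ pullback.snd y m)
      (pullback.fst y z ≫ y) m := by
  refine IsPullback.of_isLimit' ⟨?_⟩ (PullbackCone.IsLimit.mk _ (fun s => pullback.lift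
    (pullback.lift (s.fst ≫ pullback.fst y z) s.snd (by rw [Category.assoc]; exact s.condition))
    (pullback.lift (s.fst ≫ pullback.snd y z) s.snd (by
      rw [Category.assoc, ← pullback.condition]; exact s.condition))
    ((pullback.lift_snd _ _ _).trans (pullback.lift_snd _ _ _).symm)) ?_ ?_ ?_)
  · simp [pullback.condition]
  · intro s
    refine pullback.hom_ext ?_ ?_ <;> simp
  · intro s
    simp
  · intro s n hn1 hn2
    refine pullback.hom_ext ?_ ?_
    · rw [pullback.lift_fst]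
      refine pullback.hom_ext ?_ ?_
      · rw [pullback.lift_fst, ← hn1]
        simp
      · rw [pullback.lift_snd, ← hn2]
        simp
    · rw [pullback.lift_snd]
      refine pullback.hom_ext ?_ ?_
      · rw [pullback.lift_fst, ← hn1]
        simp
      · rw [pullback.lift_snd, ← hn2]
        simp [pullback.condition]

/-- Restriction from the neighbourhoods is fully faithful. -/
theorem germ_fullyFaithful {X : Scheme.{u}} (i : X ⟶ (U : Scheme.{u})) [IsClosedImmersion i]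
    (hone : CanLift f i) (hi : Set.range i = {x | f ∈ (U.ι x : PrimeSpectrum A).asIdeal})
    (Y Z : FEt.Cat (U : Scheme.{u})) :
    (∀ φ₀ : (FEt.restrict i).obj Y ⟶ (FEt.restrict i).obj Z,
      ∃ (U₂ : (Spec (CommRingCat.of A)).Opens) (h : U₂ ≤ U) (i₂ : X ⟶ (U₂ : Scheme.{u}))
        (hu : i₂ ≫ (Spec (CommRingCat.of A)).homOfLE h = i)
        (φ : (FEt.restrict ((Spec (CommRingCat.of A)).homOfLE h)).obj Y ⟶
          (FEt.restrict ((Spec (CommRingCat.of A)).homOfLE h)).obj Z),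
        (FEt.restrict i₂).map φ =
          (MorphismProperty.Over.pullbackComp i₂ ((Spec (CommRingCat.of A)).homOfLE h) i hu.symm).inv.app Y ≫ φ₀ ≫
            (MorphismProperty.Over.pullbackComp i₂ ((Spec (CommRingCat.of A)).homOfLE h) i hu.symm).hom.app Z) ∧
    (∀ φ ψ : Y ⟶ Z, (FEt.restrict i).map φ = (FEt.restrict i).map ψ →
      ∃ (U₂ : (Spec (CommRingCat.of A)).Opens) (h : U₂ ≤ U) (i₂ : X ⟶ (U₂ : Scheme.{u})),
        i₂ ≫ (Spec (CommRingCat.of A)).homOfLE h = i ∧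
        (FEt.restrict ((Spec (CommRingCat.of A)).homOfLE h)).map φ =
          (FEt.restrict ((Spec (CommRingCat.of A)).homOfLE h)).map ψ) := by
  refine ⟨fun φ₀ => ?_, fun φ ψ hφψ => ?_⟩
  · let W : FEt.Cat (U : Scheme.{u}) := MorphismProperty.Over.mk ⊤ (pullback.fst Y.hom Z.hom ≫ Y.hom)
      (MorphismProperty.comp_mem _ _ _ (MorphismProperty.pullback_fst _ _ Z.prop) Y.prop)
    obtain ⟨U₁, hle₁, hZ₁, hlift⟩ := lift_all i hone W
    obtain ⟨U₂, hle₂, hZ₂, hmeet⟩ := exists_shrink (f := f) U₁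
    have hle := hle₂.trans hle₁
    obtain ⟨i₂, hu, hmeet'⟩ := exists_factor hle i hi (fun p hfp hp => hZ₂ p hfp (hZ₁ p hfp hp)) hmeet
    let m := (Spec (CommRingCat.of A)).homOfLE hle
    refine ⟨U₂, hle, i₂, hu, exists_map_eq i₂ hmeet' (fun S hS => ?_) _⟩
    let w : W.left ⟶ (U : Scheme.{u}) := W.hom
    let y : Y.left ⟶ (U : Scheme.{u}) := Y.hom
    let z : Z.left ⟶ (U : Scheme.{u}) := Z.hom
    let w₂ := pullback.fst (pullback.snd y m) (pullback.snd z m) ≫ pullback.snd y m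
    let θ : pullback (pullback.snd y m) (pullback.snd z m) ⟶ W.left :=
      pullback.lift (pullback.fst (pullback.snd y m) (pullback.snd z m) ≫ pullback.fst y m)
        (pullback.snd (pullback.snd y m) (pullback.snd z m) ≫ pullback.fst z m)
        (by rw [Category.assoc, pullback.condition, Category.assoc, pullback.condition, pullback.condition_assoc])
    have hP : IsPullback θ w₂ w m := isPullback_prod m y z
    have hP₀ := (IsPullback.of_hasPullback w₂ i₂).paste_horiz hP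
    rw [hu] at hP₀
    let e : pullback w₂ i₂ ≅ pullback w i := hP₀.isoPullback
    obtain ⟨G, G', hG, hG', hGG, hpre⟩ := hlift (e.inv.base ⁻¹' S) (hS.preimage e.inv.continuous)
    have hθ : ∀ v, U.ι (w (θ v)) ∈ U₁ := fun v => hle₂ (by
      have e1 : (θ ≫ w) ≫ U.ι = w₂ ≫ U₂.ι := by rw [hP.w, Category.assoc, Scheme.homOfLE_ι]
      rw [← Scheme.Hom.comp_apply w, ← Scheme.Hom.comp_apply, ← Category.assoc, e1, Scheme.Hom.comp_apply]
      exact Subtype.prop _)
    refine ⟨θ.base ⁻¹' G, ⟨⟨?_⟩, hG.preimage θ.continuous⟩, Set.ext fun x => ?_⟩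
    · rw [show (θ.base ⁻¹' G)ᶜ = θ.base ⁻¹' G' from Set.ext fun v => (hGG _ (hθ v)).symm]
      exact hG'.preimage θ.continuous
    · have h1 : (pullback.fst w i) (e.hom x) = θ (pullback.fst w₂ i₂ x) := by
        rw [← Scheme.Hom.comp_apply, ← Scheme.Hom.comp_apply]
        exact congrArg (fun t : pullback w₂ i₂ ⟶ W.left => t x) hP₀.isoPullback_hom_fst
      have h2 : e.inv (e.hom x) = x := by
        rw [← Scheme.Hom.comp_apply, e.hom_inv_id]
        rfl
      refine Iff.trans ?_ ((Set.ext_iff.1 hpre (e.hom x)).trans (iff_of_eq (congrArg (· ∈ S) h2)))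
      exact (iff_of_eq (congrArg (· ∈ G) h1)).symm
  · obtain ⟨U₂, hle, hZ₂, hmeet⟩ := exists_shrink (f := f) U
    obtain ⟨i₂, hu, hmeet'⟩ := exists_factor hle i hi (fun p hfp hp => hZ₂ p hfp hp) hmeet
    refine ⟨U₂, hle, i₂, hu, ?_⟩
    haveI := Pi1X.restrict_faithful i₂ hmeet'
    let E := MorphismProperty.Over.pullbackComp (P := FEt.prop) (Q := ⊤) i₂ ((Spec (CommRingCat.of A)).homOfLE hle) i hu.symm
    refine (FEt.restrict i₂).map_injective ?_
    rw [← cancel_epi (E.hom.app Y)]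
    exact (E.hom.naturality φ).symm.trans ((congrArg (· ≫ E.hom.app Z) hφψ).trans (E.hom.naturality ψ))

end Groth.Agent.Pi1Rig

end
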