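import Groth.Agent.Pi1Rig.Formal
import Groth.Agent.Pi1Rig.Main

/-!
# Idempotents near the divisor
-/

set_option autoImplicit false
set_option linter.unusedSectionVars false
set_option linter.style.haveILetI false
set_option backward.isDefEq.respectTransparency false
universe u

open IsLocalRing

noncomputable section

namespace Groth.Agent.Pi1Rig

open Groth.Agent Groth.Agent.Pi1Alg

variable {A : Type u} [CommRing A] {ι : Type} [Fintype ι] {h : ι → A} {f : A} {C : Type u} [CommRing C] [Algebra A C]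

/-- The idempotent formal section of an idempotent modulo `f`. -/
theorem exists_idem_FS (e₀ : C0 h C) (he₀ : ∀ j, ∃ y, e₀ j * e₀ j - e₀ j = f • y)
    (hd₀ : ∀ j k, ∃ y, d0 h C e₀ j k = f • y) :
    ∃ s : FS h f C, s * s = s ∧ ev h f C s = Ideal.Quotient.mk _ e₀ := by
  let F : C0 h C → C0 h C := fun e => 3 * e ^ 2 - 2 * e ^ 3
  let s : ℕ → C0 h C := fun k => F^[k] e₀
  have hsucc : ∀ k, s (k + 1) = F (s k) := fun k => Function.iterate_succ_apply' F k e₀
  let ε : C0 h C := algebraMap A (C0 h C) f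
  have h1 : ∀ k, ε ^ (k + 1) ∣ s k * s k - s k := by
    intro k
    induction k with
    | zero =>
      choose y hy using he₀
      refine ⟨y, funext fun j => ?_⟩
      show e₀ j * e₀ j - e₀ j = _
      rw [hy j, Algebra.smul_def, pow_one]
      rfl
    | succ k ih =>
      refine dvd_trans (pow_dvd_pow ε (show k + 1 + 1 ≤ 2 * (k + 1) by omega)) ?_
      rw [hsucc, show F (s k) * F (s k) - F (s k) =
        (s k * s k - s k) ^ 2 * (4 * (s k) ^ 2 - 4 * s k - 3) by simp only [F]; ring, two_mul, pow_add, pow_two]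
      exact dvd_mul_of_dvd_left (mul_dvd_mul ih ih) _
  have hdiff : ∀ k, ε ^ (k + 1) ∣ s (k + 1) - s k := fun k => by
    rw [hsucc, show F (s k) - s k = (s k * s k - s k) * (1 - 2 * s k) by simp only [F]; ring]
    exact dvd_mul_of_dvd_left (h1 k) _
  have hd1 : ∀ k j l, ∃ y, d0 h C (s k) j l = f • y := by
    intro k
    induction k with
    | zero => exact hd₀
    | succ k ih =>
      intro j l
      obtain ⟨y, hy⟩ := ih j l
      obtain ⟨w, hw⟩ := hdiff k
      refine ⟨y + f ^ k • d0 h C w j l, ?_⟩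
      rw [show s (k + 1) = s k + f ^ (k + 1) • w by rw [Algebra.smul_def, map_pow, ← hw, add_sub_cancel],
        map_add, map_smul, Pi.add_apply, Pi.add_apply, Pi.smul_apply, Pi.smul_apply, hy, pow_succ', mul_smul, smul_add]
  have hmem : (fun n => Ideal.Quotient.mk (J h f C n) (s n)) ∈ FS h f C := by
    refine (mem_FS h f C).2 ⟨fun n => ?_, fun n => ⟨s n, rfl, fun j l => d0_dvd h f C (fun j => ?_) (hd1 n) j l⟩⟩
    · rw [cut_mk, Ideal.Quotient.mk_eq_mk_iff_sub_mem, J, Ideal.mem_span_singleton]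
      exact hdiff n
    · obtain ⟨y, hy⟩ := smul_iff_dvd.2 (show algebraMap A (C0 h C) (f ^ (n + 1)) ∣ s n * s n - s n by
        rw [map_pow]; exact h1 n)
      exact ⟨y j, congrFun hy j⟩
  refine ⟨⟨_, hmem⟩, Subtype.ext (funext fun n => ?_), rfl⟩
  show Ideal.Quotient.mk (J h f C n) (s n) * Ideal.Quotient.mk (J h f C n) (s n) = Ideal.Quotient.mk (J h f C n) (s n)
  rw [← map_mul, Ideal.Quotient.mk_eq_mk_iff_sub_mem, J, Ideal.mem_span_singleton]
  exact h1 n

theorem exists_div {x : A} (z : L C x) : ∃ y : L C x, x • y = z :=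
  (((Module.End.isUnit_iff _).1 (units_of_dvd C dvd_rfl (⟨x, 1, pow_one x⟩ : Submonoid.powers x))).2 z)

theorem smul_inj {x y : A} (hxy : x ∣ y) {a b : L C y} (e : x • a = x • b) : a = b :=
  pow_injective C hxy 1 (by simpa using e)

theorem mk_eq_zero_of_killed {x a : A} (ha : a ∣ x) {c : C} (hc : a • c = 0) : mk C x c = 0 :=
  smul_inj ha (by rw [← map_smul, hc, map_zero, smul_zero])

/-- Descent of an idempotent formal section to the neighbourhood. -/
theorem exists_idem_of_killers (a : ι → A) {B : Type u} [CommRing B] [Algebra A B] (τ : C →ₐ[A] B)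
    (e : B →ₐ[A] Lv h f C 0) (he : ∀ c, e (τ c) = Ideal.Quotient.mk _ (Φ h C c))
    (hsur : ∀ j, ∀ s : B, ∃ c, a j • s = τ c) (hker : ∀ j, ∀ c, τ c = 0 → a j • c = 0)
    (s : B) (hs : s * s = s) (e₀ : C0 h C) (hs₀ : e s = Ideal.Quotient.mk _ e₀) :
    ∃ v : C0 (fun j => a j * h j) C, v ∈ H0 (fun j => a j * h j) C ∧ v * v = v ∧
      ∀ j, ∃ w, v j - res C (dvd_snd (a j) (h j)) (e₀ j) = f • w := by
  choose c hc using fun j => hsur j s
  have hτ : ∀ j, τ (h j • c j) = (a j * h j) • s := fun j => by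
    rw [map_smul, ← hc, smul_smul, mul_comm]
  choose v hv using fun j => exists_div (mk C (a j * h j) (h j • c j))
  refine ⟨v, (mem_H0 _ C).2 fun j k => ?_, funext fun j => ?_, fun j => ?_⟩
  · let Y := (a j * h j) * (a k * h k)
    refine smul_inj (dvd_refl Y) ?_
    show Y • res C (dvd_fst (a j * h j) (a k * h k)) (v j) = Y • res C (dvd_snd (a j * h j) (a k * h k)) (v k)
    have e1 : Y • res C (dvd_fst (a j * h j) (a k * h k)) (v j) = mk C Y ((a k * h k) • h j • c j) := by
      refine ((mul_smul (a j * h j) (a k * h k) _).trans (smul_comm _ _ _)).trans ?_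
      rw [← map_smul _ (a j * h j), hv, res_mk, map_smul]
      simp only [map_smul]
      rfl
    have e2 : Y • res C (dvd_snd (a j * h j) (a k * h k)) (v k) = mk C Y ((a j * h j) • h k • c k) := by
      refine (mul_smul (a j * h j) (a k * h k) _).trans ?_
      rw [← map_smul _ (a k * h k), hv, res_mk, map_smul]
      simp only [map_smul]
      rfl
    rw [e1, e2, ← sub_eq_zero, ← map_sub]
    refine mk_eq_zero_of_killed ((dvd_mul_right (a j) (h j)).trans (dvd_mul_right _ _)) (hker j _ ?_)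
    rw [map_sub, map_smul, hτ, map_smul, hτ, smul_smul, smul_smul, mul_comm, sub_self]
  · refine sub_eq_zero.1 (smul_inj (dvd_refl (a j * h j)) (smul_inj (dvd_refl (a j * h j)) ?_))
    show (a j * h j) • (a j * h j) • (v j * v j - v j) = (a j * h j) • (a j * h j) • 0
    rw [smul_zero, smul_zero, smul_sub, smul_sub, ← smul_mul_assoc, ← mul_smul_comm, hv, ← mk_mul, ← map_smul,
      ← map_sub]
    refine mk_eq_zero_of_killed (dvd_mul_right (a j) (h j)) (hker j _ ?_)
    rw [map_sub, map_mul, map_smul τ (a j * h j), hτ, smul_mul_smul_comm, hs, smul_smul, sub_self]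
  · have h0 := he (h j • c j)
    rw [hτ, map_smul, hs₀, ← Ideal.Quotient.mkₐ_eq_mk A, ← map_smul, Ideal.Quotient.mkₐ_eq_mk,
      Ideal.Quotient.mk_eq_mk_iff_sub_mem, J_zero] at h0
    obtain ⟨w, hw⟩ := h0
    obtain ⟨w', hw'⟩ := exists_div (res C (dvd_snd (a j) (h j)) (w j))
    refine ⟨-w', smul_inj (dvd_refl (a j * h j)) ?_⟩
    show (a j * h j) • (v j - res C (dvd_snd (a j) (h j)) (e₀ j)) = (a j * h j) • f • -w'
    rw [smul_comm, smul_neg, hw', smul_sub, hv, ← map_smul (res C (dvd_snd (a j) (h j))), smul_neg,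
      ← map_smul, ← show (a j * h j) • e₀ j - Φ h C (h j • c j) j = f • w j from congrFun hw j, map_sub,
      show Φ h C (h j • c j) j = mk C (h j) (h j • c j) from rfl, res_mk, neg_sub]

variable [IsNoetherianRing A]

/-- Idempotents modulo `f` come from idempotents near the divisor. -/
theorem exists_idem_near [IsAdicComplete (Ideal.span {f}) A] [Module.Finite A C]
    (hr1 : ∀ j, IsSMulRegular (L C (h j)) f) (hr2 : ∀ j k, IsSMulRegular (L C (h j * h k)) f)
    (hfin : Module.Finite A (H0 h (C ⧸ (Ideal.span {algebraMap A C f}).restrictScalars A)))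
    (e₀ : C0 h C) (he₀ : ∀ j, ∃ y, e₀ j * e₀ j - e₀ j = f • y) (hd₀ : ∀ j k, ∃ y, d0 h C e₀ j k = f • y) :
    ∃ a : ι → A, (∀ j, ∃ (b : A) (k : ℕ), a j = h j ^ k + f * b) ∧
      ∃ v : C0 (fun j => a j * h j) C, v ∈ H0 (fun j => a j * h j) C ∧ v * v = v ∧
        ∀ j, ∃ w, v j - res C (dvd_snd (a j) (h j)) (e₀ j) = f • w := by
  haveI := FS_finite hr1 hr2 hfin
  obtain ⟨s, hs, hs₀⟩ := exists_idem_FS e₀ he₀ hd₀
  choose a b k ha hsur hker using exists_killers (C := C) hr1 hr2
  exact ⟨a, fun j => ⟨b j, k j, ha j⟩,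
    exists_idem_of_killers (B := FS h f C) a (τF h f C) (ev h f C) (fun _ => rfl) hsur hker s hs e₀ hs₀⟩

variable [IsLocalRing A]

/-- Finiteness of the sections on the punctured divisor. -/
theorem finite_H0_quot [Module.Finite A C] (hrad : (Ideal.span (Set.range h) ⊔ Ideal.span {f}).radical = maximalIdeal A)
    (hret : ∀ j, ∃ (p : ℕ) (σ : C →ₗ[A] (Fin p → A)) (ρ : (Fin p → A) →ₗ[A] C) (b : ℕ), ∀ c, ρ (σ c) = h j ^ b • c)
    (h1 : Module.Finite A (LocCoh.H (maximalIdeal A) 1 (A ⧸ Ideal.span {f}))) :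
    Module.Finite A (H0 h (C ⧸ (Ideal.span {algebraMap A C f}).restrictScalars A)) := by
  let g : Option ι → A := fun o => o.elim f h
  have hidl : (idl g).radical = (maximalIdeal A).radical := by
    rw [(maximalIdeal.isMaximal A).isPrime.radical, ← hrad]
    congr 1
    refine le_antisymm (Ideal.span_le.2 ?_) (sup_le (Ideal.span_le.2 ?_) ((Ideal.span_singleton_le_iff_mem _).2
      (Ideal.subset_span ⟨none, rfl⟩)))
    · rintro _ ⟨o, rfl⟩
      cases o with
      | none => exact Ideal.mem_sup_right (Ideal.mem_span_singleton_self f)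
      | some j => exact Ideal.mem_sup_left (Ideal.subset_span ⟨j, rfl⟩)
    · rintro _ ⟨j, rfl⟩
      exact Ideal.subset_span ⟨some j, rfl⟩
  let T := A ⧸ Ideal.span {f}
  let Q := C ⧸ (Ideal.span {algebraMap A C f}).restrictScalars A
  haveI : Module.Finite A (LocCoh.H (idl g) 1 T) :=
    haveI := h1
    Module.Finite.equiv (((localCohomology.isoOfSameRadical hidl.symm 1).app (ModuleCat.of A T)).toLinearEquiv)
  haveI := finite_H0 g T inferInstance
  have hf0 : ∀ q : Q, f • q = 0 := fun q => by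
    obtain ⟨c, rfl⟩ := Submodule.Quotient.mk_surjective _ q
    rw [← Submodule.Quotient.mk_smul, Submodule.Quotient.mk_eq_zero]
    exact Ideal.mem_span_singleton'.2 ⟨c, by rw [Algebra.smul_def, mul_comm]⟩
  have hLS : LS g Q T := fun o => by
    cases o with
    | none => exact ⟨0, 0, 0, 1, fun q => by simp [g, hf0]⟩
    | some j =>
      obtain ⟨p, σ, ρ, b, hb⟩ := hret j
      let πT : (Fin p → A) →ₗ[A] (Fin p → T) :=
        LinearMap.pi fun i => (Ideal.Quotient.mkₐ A (Ideal.span {f})).toLinearMap ∘ₗ LinearMap.proj i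
      have hσ : (Ideal.span {algebraMap A C f}).restrictScalars A ≤ LinearMap.ker (πT ∘ₗ σ) := by
        intro c hc
        obtain ⟨d, rfl⟩ := Ideal.mem_span_singleton'.1 hc
        refine funext fun i => ?_
        show Ideal.Quotient.mk (Ideal.span {f}) (σ (d * algebraMap A C f) i) = 0
        rw [mul_comm, ← Algebra.smul_def, map_smul, Pi.smul_apply, Ideal.Quotient.eq_zero_iff_mem]
        exact Ideal.mul_mem_right _ _ (Ideal.mem_span_singleton_self f)
      let ρT : (Fin p → T) →ₗ[A] Q := ∑ i,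
        (Submodule.liftQ (Ideal.span {f}) (LinearMap.toSpanSingleton A Q (Submodule.Quotient.mk (ρ (Pi.single i 1))))
          (fun x hx => by
            obtain ⟨d, rfl⟩ := Ideal.mem_span_singleton'.1 hx
            rw [LinearMap.mem_ker, LinearMap.toSpanSingleton_apply, mul_smul, hf0, smul_zero])) ∘ₗ LinearMap.proj i
      refine ⟨p, Submodule.liftQ _ (πT ∘ₗ σ) hσ, ρT, b, fun q => ?_⟩
      obtain ⟨c, rfl⟩ := Submodule.Quotient.mk_surjective _ q
      have hρ : ∀ v, ρT (πT v) = Submodule.Quotient.mk (ρ v) := fun v => by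
        rw [LinearMap.sum_apply]
        conv_rhs => rw [← Finset.univ_sum_single v]
        rw [map_sum, ← Submodule.mkQ_apply (p := (Ideal.span {algebraMap A C f}).restrictScalars A), map_sum]
        refine Finset.sum_congr rfl fun i _ => ?_
        show v i • (Submodule.Quotient.mk (ρ (Pi.single i 1)) : Q) = (Submodule.Quotient.mk (ρ (Pi.single i (v i))) : Q)
        rw [← Submodule.Quotient.mk_smul, ← map_smul, ← Pi.single_smul, smul_eq_mul, mul_one]
      show ρT (πT (σ c)) = h j ^ b • Submodule.Quotient.mk c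
      rw [hρ, hb]
      rfl
  haveI := LS.finite_H0 g hLS
  have hzero : ∀ (x : A), f ∣ x → ∀ z : L Q x, z = 0 := fun x hx z => by
    obtain ⟨n, m, hm⟩ := exists_mk Q z
    refine pow_injective Q dvd_rfl n ((hm.trans ((mk_eq_zero Q).2 ⟨1, ?_⟩)).trans (smul_zero _).symm)
    obtain ⟨d, rfl⟩ := hx
    rw [pow_one, mul_comm, mul_smul, hf0, smul_zero]
  let E : H0 h Q →ₗ[A] C0 g Q := LinearMap.pi fun o => match o with
    | none => 0
    | some j => LinearMap.proj j ∘ₗ (H0 h Q).subtype
  have hE : ∀ z, E z ∈ H0 g Q := fun z => by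
    rw [mem_H0]
    intro o o'
    rcases o with - | j
    · exact (hzero _ (dvd_mul_right f _) _).trans (hzero _ (dvd_mul_right f _) _).symm
    rcases o' with - | k
    · exact (hzero _ (dvd_mul_left f _) _).trans (hzero _ (dvd_mul_left f _) _).symm
    exact (mem_H0 h Q).1 z.2 j k
  exact Module.Finite.of_injective (LinearMap.codRestrict _ E hE) fun a b hab => Subtype.ext (funext fun j =>
    congrFun (congrArg Subtype.val hab) (some j))

end Groth.Agent.Pi1Rig

end
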