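import Groth.Agent.Pi1Rig.Idem
import Groth.Agent.Pi1Alg.Patch
import Mathlib.RingTheory.Spectrum.Prime.Topology

/-!
# Clopen subsets of the part of a spectrum off the closed fibre
-/

set_option autoImplicit false
set_option linter.unusedSectionVars false
set_option backward.isDefEq.respectTransparency false
set_option backward.isDefEq.respectTransparency.types false
universe u

open PrimeSpectrum

noncomputable section

namespace Groth.Agent.Pi1Rig

open Groth.Agent Groth.Agent.Pi1Alg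

variable {A : Type u} [CommRing A] {ι : Type} (g : ι → A) (f : A) (C : Type u) [CommRing C] [Algebra A C]

/-- The union of the charts. -/
def OSet : Set (PrimeSpectrum C) := {p | ∃ j, algebraMap A C (g j) ∉ p.asIdeal}

/-- The divisor. -/
def ZSet : Set (PrimeSpectrum C) := {p | algebraMap A C f ∈ p.asIdeal}

/-- The chart of an element. -/
abbrev ch (x : A) : PrimeSpectrum (Loc C x) → PrimeSpectrum C := PrimeSpectrum.comap (algebraMap C (Loc C x))

theorem ch_openEmbedding (x : A) : Topology.IsOpenEmbedding (ch C x) :=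
  PrimeSpectrum.localization_away_isOpenEmbedding (Loc C x) (algebraMap A C x)

theorem ch_range (x : A) : Set.range (ch C x) = (basicOpen (algebraMap A C x) : Set (PrimeSpectrum C)) :=
  PrimeSpectrum.localization_away_comap_range (Loc C x) (algebraMap A C x)

theorem mem_range_ch {x : A} {p : PrimeSpectrum C} : p ∈ Set.range (ch C x) ↔ algebraMap A C x ∉ p.asIdeal := by
  rw [ch_range]; rfl

theorem ch_comap {x y : A} (h : x ∣ y) (Q : PrimeSpectrum (Loc C y)) :
    ch C x (PrimeSpectrum.comap (resL C h).toRingHom Q) = ch C y Q := by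
  show PrimeSpectrum.comap _ (PrimeSpectrum.comap _ Q) = _
  rw [← PrimeSpectrum.comap_comp_apply]
  congr 1
  exact (resL C h).comp_algebraMap

variable {f C}

theorem mem_Z_ch {x : A} (c : A) (P : PrimeSpectrum (Loc C x)) :
    algebraMap A C c ∈ (ch C x P).asIdeal ↔ algebraMap A (Loc C x) c ∈ P.asIdeal := by
  show algebraMap C (Loc C x) (algebraMap A C c) ∈ P.asIdeal ↔ _
  rw [← IsScalarTower.algebraMap_apply]

/-- Idempotents modulo `c` cutting out a set. -/
theorem exists_family (c : A) (D U U' : Set (PrimeSpectrum C)) (hU : IsOpen U) (hU' : IsOpen U')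
    (hD : ∀ p ∈ OSet g C, algebraMap A C c ∈ p.asIdeal → (p ∈ U ↔ p ∈ D) ∧ (p ∈ U' ↔ p ∉ D)) :
    ∃ a : C0 g C, (∀ j, ∃ y, a j * a j - a j = c • y) ∧ (∀ j k, ∃ y, d0 g C a j k = c • y) ∧
      ∀ j (P : PrimeSpectrum (Loc C (g j))), algebraMap A (Loc C (g j)) c ∈ P.asIdeal →
        (locEquiv C (g j) (a j) ∉ P.asIdeal ↔ ch C (g j) P ∈ D) := by
  classical
  have hO : ∀ j (P : PrimeSpectrum (Loc C (g j))), ch C (g j) P ∈ OSet g C := fun j P =>
    ⟨j, (mem_range_ch C).1 ⟨P, rfl⟩⟩
  -- the charts modulo `c`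
  let q (x : A) := Ideal.Quotient.mk (Ideal.span {algebraMap A (Loc C x) c})
  have hq : ∀ (x : A) (r : PrimeSpectrum (Loc C x ⧸ Ideal.span {algebraMap A (Loc C x) c})),
      algebraMap A (Loc C x) c ∈ (PrimeSpectrum.comap (q x) r).asIdeal := fun x r => by
    show q x _ ∈ r.asIdeal
    rw [Ideal.Quotient.eq_zero_iff_mem.2 (Ideal.mem_span_singleton_self _)]
    exact zero_mem _
  have hlift : ∀ (x : A) (P : PrimeSpectrum (Loc C x)), algebraMap A (Loc C x) c ∈ P.asIdeal →
      ∃ r, PrimeSpectrum.comap (q x) r = P := fun x P hP => by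
    have h : P ∈ Set.range (PrimeSpectrum.comap (q x)) := by
      rw [range_comap_of_surjective _ _ Ideal.Quotient.mk_surjective, Ideal.mk_ker, mem_zeroLocus,
        SetLike.coe_subset_coe, Ideal.span_singleton_le_iff_mem]
      exact hP
    exact h
  have hchart : ∀ j, ∃ a : Loc C (g j), q (g j) a * q (g j) a = q (g j) a ∧
      ∀ r, q (g j) a ∉ r.asIdeal ↔ ch C (g j) (PrimeSpectrum.comap (q (g j)) r) ∈ D := fun j => by
    let π := fun r => ch C (g j) (PrimeSpectrum.comap (q (g j)) r)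
    have hc : Continuous π := (PrimeSpectrum.continuous_comap _).comp (PrimeSpectrum.continuous_comap _)
    have hiff : ∀ r, (π r ∈ U ↔ π r ∈ D) ∧ (π r ∈ U' ↔ π r ∉ D) := fun r =>
      hD _ (hO _ _) ((mem_Z_ch c _).2 (hq _ r))
    have hcl : IsClopen (π ⁻¹' D) := by
      refine ⟨⟨?_⟩, ?_⟩
      · rw [show (π ⁻¹' D)ᶜ = π ⁻¹' U' from Set.ext fun r => (hiff r).2.symm]
        exact hU'.preimage hc
      · rw [show π ⁻¹' D = π ⁻¹' U from Set.ext fun r => (hiff r).1.symm]
        exact hU.preimage hc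
    obtain ⟨e, he, heq⟩ := PrimeSpectrum.isClopen_iff.1 hcl
    obtain ⟨a, rfl⟩ := Ideal.Quotient.mk_surjective e
    exact ⟨a, he, fun r => (Set.ext_iff.1 heq r).symm⟩
  choose a ha haD using hchart
  refine ⟨fun j => (locEquiv C (g j)).symm (a j), fun j => ?_, fun j k => ?_, fun j P hP => ?_⟩
  · obtain ⟨y, hy⟩ : algebraMap A (Loc C (g j)) c ∣ a j * a j - a j := by
      rw [← Ideal.mem_span_singleton, ← Ideal.Quotient.eq_zero_iff_mem, map_sub, map_mul, sub_eq_zero]
      exact ha j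
    refine ⟨(locEquiv C (g j)).symm y, ?_⟩
    rw [← map_mul, ← map_sub, ← map_smul, hy, Algebra.smul_def]
  · obtain ⟨y, hy⟩ : algebraMap A (Loc C (g j * g k)) c ∣
        resL C (dvd_fst (g j) (g k)) (a j) - resL C (dvd_snd (g j) (g k)) (a k) := by
      rw [← Ideal.mem_span_singleton, ← Ideal.Quotient.eq_zero_iff_mem, map_sub, sub_eq_zero]
      have hres : ∀ (i : ι) (h : g i ∣ g j * g k) (r),
          (q (g j * g k) (resL C h (a i)) ∉ r.asIdeal ↔ ch C (g j * g k) (PrimeSpectrum.comap (q (g j * g k)) r) ∈ D) :=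
        fun i h r => by
          let P := PrimeSpectrum.comap (q (g j * g k)) r
          have hP : algebraMap A (Loc C (g i)) c ∈ (PrimeSpectrum.comap (resL C h).toRingHom P).asIdeal := by
            show (resL C h) (algebraMap A (Loc C (g i)) c) ∈ P.asIdeal
            rw [← AlgHom.restrictScalars_apply A, AlgHom.commutes]
            exact hq _ r
          obtain ⟨r', hr'⟩ := hlift _ _ hP
          have h1 := haD i r'
          rw [hr', ch_comap] at h1
          rw [← h1]
          show _ ↔ a i ∉ (PrimeSpectrum.comap (q (g i)) r').asIdeal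
          rw [hr']
          rfl
      have hidem : ∀ (i : ι) (h : g i ∣ g j * g k), IsIdempotentElem (q (g j * g k) (resL C h (a i))) := fun i h => by
        have h0 := ha i
        rw [← map_mul, Ideal.Quotient.mk_eq_mk_iff_sub_mem, Ideal.mem_span_singleton] at h0
        have h2 := map_dvd ((resL C h).restrictScalars A) h0
        rw [AlgHom.commutes, AlgHom.restrictScalars_apply, map_sub (resL C h), map_mul (resL C h)] at h2
        show _ * _ = _
        rw [← map_mul, Ideal.Quotient.mk_eq_mk_iff_sub_mem, Ideal.mem_span_singleton]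
        exact h2
      exact basicOpen_injOn_isIdempotentElem (hidem _ _) (hidem _ _) (TopologicalSpace.Opens.ext (Set.ext fun r =>
        (hres j _ r).trans (hres k _ r).symm))
    refine ⟨(locEquiv C (g j * g k)).symm y, (locEquiv C (g j * g k)).injective ?_⟩
    rw [d0_apply, map_sub, map_smul, ← resL_res, ← resL_res, AlgEquiv.apply_symm_apply, AlgEquiv.apply_symm_apply,
      AlgEquiv.apply_symm_apply, hy, Algebra.smul_def]
  · obtain ⟨r, rfl⟩ := hlift _ P hP
    rw [AlgEquiv.apply_symm_apply]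
    exact haD j r

variable (f C)

/-- Clopen subsets meet the divisor. -/
def TopInj : Prop :=
  ∀ D U U' : Set (PrimeSpectrum C), IsOpen U → IsOpen U' →
    (∀ p ∈ OSet g C, (p ∈ U ↔ p ∈ D) ∧ (p ∈ U' ↔ p ∉ D)) → (∀ p ∈ D, p ∈ OSet g C → p ∉ ZSet f C) →
      ∀ p ∈ D, p ∉ OSet g C

/-- Clopen subsets of the divisor extend. -/
def TopLift : Prop :=
  ∀ D U U' : Set (PrimeSpectrum C), IsOpen U → IsOpen U' →
    (∀ p ∈ OSet g C, p ∈ ZSet f C → (p ∈ U ↔ p ∈ D) ∧ (p ∈ U' ↔ p ∉ D)) →
      ∃ E E' : Set (PrimeSpectrum C), IsOpen E ∧ IsOpen E' ∧ (∀ p ∈ OSet g C, p ∈ E' ↔ p ∉ E) ∧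
        ∀ p ∈ OSet g C, p ∈ ZSet f C → (p ∈ E ↔ p ∈ D)

variable {f C}

theorem topInj_of_idemInj (hI : IdemInj g f C) : TopInj g f C := by
  intro D U U' hU hU' hD hDZ
  rintro p hp hpO
  obtain ⟨a, ha1, ha2, ha3⟩ := exists_family g 0 D U U' hU hU' fun p hp _ => hD p hp
  have hH : a ∈ H0 g C := LinearMap.mem_ker.2 (funext fun j => funext fun k => by
    obtain ⟨y, hy⟩ := ha2 j k
    rw [hy, zero_smul]
    rfl)
  have hidem : a * a = a := funext fun j => by
    obtain ⟨y, hy⟩ := ha1 j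
    rw [zero_smul] at hy
    exact sub_eq_zero.1 hy
  have hmod : ∀ j, ∃ y, a j = f • y := fun j => by
    let J : Ideal (Loc C (g j)) := Ideal.span {algebraMap A (Loc C (g j)) f}
    have hnil : IsNilpotent (Ideal.Quotient.mk J (locEquiv C (g j) (a j))) := by
      rw [nilpotent_iff_mem_prime]
      intro r hr
      let P : PrimeSpectrum (Loc C (g j)) := ⟨r.comap (Ideal.Quotient.mk J), hr.comap _⟩
      have hfP : algebraMap A (Loc C (g j)) f ∈ P.asIdeal := by
        show Ideal.Quotient.mk J _ ∈ r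
        rw [Ideal.Quotient.eq_zero_iff_mem.2 (Ideal.mem_span_singleton_self _)]
        exact zero_mem _
      have h1 := ha3 j P (by rw [map_zero]; exact zero_mem _)
      by_contra hne
      exact hDZ _ (h1.1 hne) ⟨j, (mem_range_ch C).1 ⟨P, rfl⟩⟩ ((mem_Z_ch f P).2 hfP)
    have h0 : Ideal.Quotient.mk J (locEquiv C (g j) (a j)) = 0 := by
      refine eq_of_isNilpotent_sub_of_isIdempotentElem ?_ IsIdempotentElem.zero (by rwa [sub_zero])
      show _ * _ = _
      rw [← map_mul, ← map_mul, show a j * a j = a j from congrFun hidem j]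
    rw [Ideal.Quotient.eq_zero_iff_mem, Ideal.mem_span_singleton] at h0
    obtain ⟨y, hy⟩ := h0
    exact ⟨(locEquiv C (g j)).symm y, (locEquiv C (g j)).injective (by
      rw [map_smul, AlgEquiv.apply_symm_apply, hy, Algebra.smul_def])⟩
  choose y hy using hmod
  have h0 : a = 0 := hI a 0 hH (zero_mem _) hidem (mul_zero _) ⟨y, by rw [sub_zero]; exact funext hy⟩
  obtain ⟨j, hj⟩ := hpO
  obtain ⟨P, rfl⟩ := (mem_range_ch C).2 hj
  refine ((ha3 j P (by rw [map_zero]; exact zero_mem _)).2 hp) ?_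
  rw [h0, Pi.zero_apply, map_zero]
  exact zero_mem _

/-- The clopen set of an idempotent section. -/
theorem exists_extend_of_idem {D : Set (PrimeSpectrum C)} {a e : C0 g C}
    (ha3 : ∀ j (P : PrimeSpectrum (Loc C (g j))), algebraMap A (Loc C (g j)) f ∈ P.asIdeal →
        (locEquiv C (g j) (a j) ∉ P.asIdeal ↔ ch C (g j) P ∈ D))
    (heH : e ∈ H0 g C) (hee : e * e = e) {y : C0 g C} (hy : e - a = f • y) :
    ∃ E E' : Set (PrimeSpectrum C), IsOpen E ∧ IsOpen E' ∧ (∀ p ∈ OSet g C, p ∈ E' ↔ p ∉ E) ∧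
      ∀ p ∈ OSet g C, p ∈ ZSet f C → (p ∈ E ↔ p ∈ D) := by
  let b : ∀ j, Loc C (g j) := fun j => locEquiv C (g j) (e j)
  let E := ⋃ j, ch C (g j) '' (basicOpen (b j) : Set (PrimeSpectrum (Loc C (g j))))
  let E' := ⋃ j, ch C (g j) '' (basicOpen (1 - b j) : Set (PrimeSpectrum (Loc C (g j))))
  have hb : ∀ j, b j * (1 - b j) = 0 := fun j => by
    rw [mul_sub, mul_one, ← map_mul, show e j * e j = e j from congrFun hee j, sub_self]
  have hbP : ∀ j (P : PrimeSpectrum (Loc C (g j))), 1 - b j ∉ P.asIdeal ↔ b j ∈ P.asIdeal := fun j P =>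
    ⟨fun h => (P.2.mem_or_mem (show b j * (1 - b j) ∈ P.asIdeal by rw [hb]; exact zero_mem _)).resolve_right h,
      fun h h' => P.2.ne_top ((Ideal.eq_top_iff_one _).2 (by simpa using P.asIdeal.add_mem h' h))⟩
  have hsame : ∀ j k (P : PrimeSpectrum (Loc C (g j))) (P' : PrimeSpectrum (Loc C (g k))),
      ch C (g j) P = ch C (g k) P' → (b j ∈ P.asIdeal ↔ b k ∈ P'.asIdeal) := fun j k P P' heq => by
    obtain ⟨Q, hQ⟩ := (mem_range_ch C (x := g j * g k) (p := ch C (g j) P)).2 (by
      rw [map_mul]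
      intro h
      rcases (ch C (g j) P).2.mem_or_mem h with h' | h'
      · exact (mem_range_ch C).1 ⟨P, rfl⟩ h'
      · exact (mem_range_ch C).1 ⟨P', heq.symm⟩ h')
    have h1 : PrimeSpectrum.comap (resL C (dvd_fst (g j) (g k))).toRingHom Q = P :=
      (ch_openEmbedding C (g j)).injective ((ch_comap C _ Q).trans hQ)
    have h2 : PrimeSpectrum.comap (resL C (dvd_snd (g j) (g k))).toRingHom Q = P' :=
      (ch_openEmbedding C (g k)).injective ((ch_comap C _ Q).trans (hQ.trans heq))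
    have h3 : resL C (dvd_fst (g j) (g k)) (b j) = resL C (dvd_snd (g j) (g k)) (b k) := by
      rw [resL_res, resL_res, (mem_H0 g C).1 heH j k]
    rw [← h1, ← h2]
    show resL C (dvd_fst (g j) (g k)) (b j) ∈ Q.asIdeal ↔ resL C (dvd_snd (g j) (g k)) (b k) ∈ Q.asIdeal
    rw [h3]
  refine ⟨E, E', isOpen_iUnion fun j => (ch_openEmbedding C _).isOpenMap _ (basicOpen _).2,
    isOpen_iUnion fun j => (ch_openEmbedding C _).isOpenMap _ (basicOpen _).2, ?_, ?_⟩
  · rintro p ⟨j, hj⟩
    obtain ⟨P, rfl⟩ := (mem_range_ch C).2 hj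
    constructor
    · rintro hp' hp
      obtain ⟨k, Q, hQ, hQe⟩ := Set.mem_iUnion.1 hp'
      obtain ⟨l, R, hR, hRe⟩ := Set.mem_iUnion.1 hp
      exact hR ((hsame l j R P hRe).2 ((hsame k j Q P hQe).1 ((hbP k Q).1 hQ)))
    · intro hp
      refine Set.mem_iUnion.2 ⟨j, P, (hbP j P).2 ?_, rfl⟩
      by_contra h
      exact hp (Set.mem_iUnion.2 ⟨j, P, h, rfl⟩)
  · rintro p ⟨j, hj⟩ hpZ
    obtain ⟨P, rfl⟩ := (mem_range_ch C).2 hj
    have hfP := (mem_Z_ch f P).1 hpZ
    rw [← ha3 j P hfP]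
    have hiff : b j ∈ P.asIdeal ↔ locEquiv C (g j) (a j) ∈ P.asIdeal := by
      have h : b j - locEquiv C (g j) (a j) ∈ P.asIdeal := by
        rw [← map_sub, show e j - a j = f • y j from congrFun hy j, map_smul, Algebra.smul_def]
        exact Ideal.mul_mem_right _ _ hfP
      exact ⟨fun h' => by simpa using P.asIdeal.sub_mem h' h, fun h' => by simpa using P.asIdeal.add_mem h h'⟩
    constructor
    · intro hp
      obtain ⟨k, Q, hQ, hQe⟩ := Set.mem_iUnion.1 hp
      exact fun h => hQ ((hsame k j Q P hQe).2 (hiff.2 h))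
    · exact fun h => Set.mem_iUnion.2 ⟨j, P, fun h' => h (hiff.1 h'), rfl⟩

theorem topLift_of_idemLift (hL : IdemLift g f C) : TopLift g f C := by
  intro D U U' hU hU' hD
  obtain ⟨a, ha1, ha2, ha3⟩ := exists_family g f D U U' hU hU' hD
  obtain ⟨e, heH, hee, y, hy⟩ := hL a ha1 ha2
  exact exists_extend_of_idem g ha3 heH hee hy

end Groth.Agent.Pi1Rig

end
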