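import Groth.Agent.Pi1Rig.Hull
import Groth.Agent.Pi1Rig.Clopen
import Groth.Agent.S2664
import Groth.Agent.S0377
import Groth.Agent.S1721
import Groth.Agent.FlatLoc6.EquidimCat
import Groth.Agent.Cat15.Order
import Groth.Agent.DimFormula.Basic
import Groth.Agent.H1CohPush.Suff

/-!
# The punctured divisor in the spectrum of a finite domain is connected
-/

set_option autoImplicit false
set_option linter.unusedSectionVars false
set_option linter.style.haveILetI false
set_option backward.isDefEq.respectTransparency false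
universe u

open CategoryTheory CategoryTheory.Limits IsLocalRing

noncomputable section

namespace Groth.Agent.Pi1Rig

open Groth.Agent Groth.Agent.Pi1Alg

variable {A : Type u} [CommRing A] [IsNoetherianRing A] [IsLocalRing A]

/-- Maximal ideals of a finite domain have height the dimension of the base. -/
theorem height_maximal {E : Type u} [CommRing E] [IsDomain E] [Algebra A E] [Module.Finite A E]
    (hd : ∃ ω : Dual.D A, Dual.IsDualizing A ω) (q : Ideal E) [q.IsMaximal] :
    (q.height : WithBot ℕ∞) = ringKrullDim (A ⧸ RingHom.ker (algebraMap A E)) := by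
  obtain ⟨ω, hω⟩ := hd
  let p := RingHom.ker (algebraMap A E)
  haveI : p.IsPrime := RingHom.ker_isPrime _
  let A₀ := A ⧸ p
  haveI : IsDomain A₀ := Ideal.Quotient.isDomain p
  haveI : IsLocalRing A₀ := IsLocalRing.of_surjective' (Ideal.Quotient.mk p) Ideal.Quotient.mk_surjective
  letI : Algebra A₀ E := (RingHom.kerLift (algebraMap A E)).toAlgebra
  haveI : IsScalarTower A A₀ E := IsScalarTower.of_algebraMap_eq fun a => rfl
  haveI : Module.Finite A₀ E := Module.Finite.of_restrictScalars_finite A A₀ E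
  haveI : FaithfulSMul A₀ E := (faithfulSMul_iff_algebraMap_injective A₀ E).2 (RingHom.kerLift_injective (algebraMap A E))
  have hm : q.under A₀ = maximalIdeal A₀ :=
    IsLocalRing.eq_maximalIdeal (Ideal.isMaximal_comap_of_isIntegral_of_isMaximal q)
  have hu := H1CohPush.isUniversallyCatenary_quotient (S1721.result A ω hω) p
  have hu' : CAlg.IsUniversallyCatenary (Localization.AtPrime (q.under A₀)) := by
    haveI := hu.1
    refine ⟨IsLocalization.isNoetherianRing (q.under A₀).primeCompl _ inferInstance, fun S _ _ hS => ?_⟩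
    let e : A₀ ≃ₐ[A₀] Localization.AtPrime (q.under A₀) := IsLocalization.atUnits A₀ (q.under A₀).primeCompl
      fun x hx => by
        have : x ∉ maximalIdeal A₀ := fun h => hx (hm ▸ h)
        exact not_not.1 fun h => this (IsLocalRing.mem_maximalIdeal _ |>.2 h)
    letI : Algebra A₀ S := ((algebraMap (Localization.AtPrime (q.under A₀)) S).comp e.toRingEquiv.toRingHom).toAlgebra
    haveI : IsScalarTower A₀ (Localization.AtPrime (q.under A₀)) S := IsScalarTower.of_algebraMap_eq fun a => by
      show _ = algebraMap _ S (algebraMap A₀ _ a)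
      rw [← e.commutes a]
      rfl
    haveI : Module.Finite A₀ (Localization.AtPrime (q.under A₀)) := Module.Finite.equiv e.toLinearEquiv
    exact hu.2 S (Algebra.FiniteType.trans (S := Localization.AtPrime (q.under A₀)) inferInstance hS)
  have h := (DimFormula.dimension_formula (A := A₀) (B := E) ⟨q, inferInstance⟩).2 hu'
  rw [SecFin.fd_eq_zero_of_finite A₀ q, SecFin.fd_eq_zero_of_finite A₀ (⊥ : Ideal E), Nat.cast_zero, add_zero,
    add_zero] at h
  rw [(⟨q, inferInstance⟩ : PrimeSpectrum E).height_eq_orderHeight, h,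
    ← PrimeSpectrum.height_eq_orderHeight]
  show ((q.under A₀).height : WithBot ℕ∞) = _
  rw [hm, IsLocalRing.maximalIdeal_height_eq_ringKrullDim]

/-- Chains above a prime in a catenary domain. -/
theorem height_le_height_add_krullDim_Icc {E : Type u} [CommRing E] [IsDomain E] [IsNoetherianRing E]
    (hE : CAlg.IsCatenary E) {p q : PrimeSpectrum E} (hpq : p ≤ q) :
    (q.asIdeal.height : WithBot ℕ∞) ≤ (p.asIdeal.height : WithBot ℕ∞) + Order.krullDim (Set.Icc p q) := by
  let M := q.asIdeal.primeCompl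
  let Lq := Localization.AtPrime q.asIdeal
  haveI : IsNoetherianRing Lq := IsLocalization.isNoetherianRing M Lq inferInstance
  have hdisj : Disjoint (M : Set E) p.asIdeal := Set.disjoint_left.2 fun x hx hx' => hx (hpq hx')
  haveI hp' : (p.asIdeal.map (algebraMap E Lq)).IsPrime :=
    IsLocalization.isPrime_of_isPrime_disjoint M Lq p.asIdeal p.2 hdisj
  let p' : PrimeSpectrum Lq := ⟨p.asIdeal.map (algebraMap E Lq), hp'⟩
  have hp'c : PrimeSpectrum.comap (algebraMap E Lq) p' = p :=
    PrimeSpectrum.ext (IsLocalization.comap_map_of_isPrime_disjoint M Lq p.2 hdisj)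
  have hmono : StrictMono (PrimeSpectrum.comap (algebraMap E Lq)) := fun a b hab =>
    lt_of_le_of_ne (Ideal.comap_mono hab.le) fun e => hab.ne (PrimeSpectrum.localization_comap_injective Lq M e)
  haveI : IsDomain Lq := IsLocalization.isDomain_localization (Ideal.primeCompl_le_nonZeroDivisors q.asIdeal)
  have heq : EGA4.IsEquidim Lq := fun r hr => by
    rw [IsDomain.minimalPrimes_eq_singleton_bot, Set.mem_singleton_iff] at hr
    subst hr
    exact ringKrullDim_eq_of_ringEquiv (RingEquiv.quotientBot _)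
  have hsum := FlatLoc6.height_add_ringKrullDim_quotient heq (Cat15.isCatenary_localization M hE) p'.asIdeal
  rw [← IsLocalization.AtPrime.ringKrullDim_eq_height q.asIdeal Lq, ← hsum]
  refine add_le_add (WithBot.coe_le_coe.2 ?_) ?_
  · conv_rhs => rw [← hp'c]
    rw [p'.height_eq_orderHeight, PrimeSpectrum.height_eq_orderHeight]
    exact Order.height_le_height_apply_of_strictMono _ hmono _
  · let π := Ideal.Quotient.mk p'.asIdeal
    refine Order.krullDim_le_of_strictMono (fun r => ⟨PrimeSpectrum.comap (algebraMap E Lq) (PrimeSpectrum.comap π r),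
      ?_, ?_⟩) fun a b hab => ?_
    · refine hp'c.symm.le.trans (hmono.monotone (show p'.asIdeal ≤ r.asIdeal.comap π from ?_))
      exact Ideal.mk_ker.symm.le.trans (Ideal.ker_le_comap π)
    · have : PrimeSpectrum.comap π r ≤ IsLocalRing.closedPoint Lq :=
        IsLocalRing.le_maximalIdeal (PrimeSpectrum.comap π r).2.ne_top
      refine (hmono.monotone this).trans (le_of_eq (PrimeSpectrum.ext ?_))
      exact IsLocalization.AtPrime.under_maximalIdeal Lq q.asIdeal
    · exact hmono (lt_of_le_of_ne (Ideal.comap_mono hab.le) fun e =>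
        hab.ne (PrimeSpectrum.comap_injective_of_surjective π Ideal.Quotient.mk_surjective e))

variable {f : A}

/-- Connectedness for a domain satisfying (S_2). -/
theorem preconnected_of_S2 (hf : f ∈ maximalIdeal A) (hd : ∃ ω : Dual.D A, Dual.IsDualizing A ω)
    [IsAdicComplete (Ideal.span {f}) A] {E : Type u} [CommRing E] [IsDomain E] [Algebra A E] [Module.Finite A E]
    (hS : LocCoh.HasSk 2 E E) (hfE : algebraMap A E f ≠ 0)
    (hdim : (3 : WithBot ℕ∞) ≤ ringKrullDim (A ⧸ RingHom.ker (algebraMap A E))) :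
    _root_.IsPreconnected {P : PrimeSpectrum E | algebraMap A E f ∈ P.asIdeal ∧
      PrimeSpectrum.comap (algebraMap A E) P ≠ IsLocalRing.closedPoint A} := by
  haveI : IsNoetherianRing E := IsNoetherianRing.of_finite A E
  obtain ⟨ω, hω⟩ := hd
  haveI : Algebra.EssFiniteType A E := inferInstance
  have hdE := S0377.result A ω hω E
  have hcat : CAlg.IsCatenary E := (S1721.result A ω hω).2 E inferInstance
  obtain ⟨r, g, hg⟩ := Submodule.fg_iff_exists_fin_generating_family.1 (IsNoetherian.noetherian (maximalIdeal A))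
  let gE : Fin r → E := fun j => algebraMap A E (g j)
  let fE : E := algebraMap A E f
  have hidl : idl gE = (maximalIdeal A).map (algebraMap A E) := by
    refine Eq.trans ?_ (congrArg (Ideal.map (algebraMap A E)) hg)
    rw [Ideal.submodule_span_eq, Ideal.map_span, ← Set.range_comp]
    rfl
  have hfI : fE ∈ idl gE := hidl ▸ Ideal.mem_map_of_mem _ hf
  haveI : IsAdicComplete (Ideal.span {fE}) E := by
    haveI := AdicLib.isAdicComplete_of_finite (Ideal.span {f}) E
    have h := (IsAdicComplete.map_algebraMap_iff (S := E) (I := Ideal.span {f}) (M := E)).2 ‹_›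
    rwa [Ideal.map_span, Set.image_singleton] at h
  have hfj : fE ∈ Ideal.jacobson (⊥ : Ideal E) :=
    IsAdicComplete.le_jacobson_bot (Ideal.span {fE}) (Ideal.mem_span_singleton_self fE)
  -- the low local cohomology
  obtain ⟨J, hJ, hkill⟩ := exists_ideal_kills hdE (idl gE) (Ideal.span {fE})
    (((Ideal.span_singleton_le_iff_mem _).2 hfI).trans Ideal.le_radical) 2 fun p q hp hq hpq => by
      rw [Ideal.span_singleton_le_iff_mem] at hp
      have hfq : fE ∈ q.asIdeal := hq hfI
      have hlt : p < q := lt_of_le_of_ne hpq fun e => hp (e ▸ hfq)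
      have hqc : q.asIdeal.comap (algebraMap A E) = maximalIdeal A :=
        ((maximalIdeal.isMaximal A).eq_of_le (q.asIdeal.comap (algebraMap A E) |> fun _ =>
          (PrimeSpectrum.comap (algebraMap A E) q).2.ne_top) (Ideal.map_le_iff_le_comap.1 (hidl ▸ hq))).symm
      haveI : q.asIdeal.IsMaximal := Ideal.isMaximal_of_isIntegral_of_isMaximal_comap q.asIdeal
        (hqc ▸ maximalIdeal.isMaximal A)
      have h3 : (3 : WithBot ℕ∞) ≤ (p.asIdeal.height : WithBot ℕ∞) + Order.krullDim (Set.Icc p q) :=
        (hdim.trans_eq (height_maximal ⟨ω, hω⟩ q.asIdeal).symm).trans (height_le_height_add_krullDim_Icc hcat hpq)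
      have hdep := (FlatLoc6.hasSk_self_iff 2).1 hS p.asIdeal
      rw [← FlatLoc6.depth_self_atPrime] at hdep
      rcases le_or_gt (2 : ℕ∞) p.asIdeal.height with h2 | h2
      · refine lt_of_lt_of_le (by norm_num : ((2 : ℕ) : WithBot ℕ∞) < 2 + 1) (add_le_add ?_ (one_le_krullDim_Icc hlt))
        exact WithBot.coe_le_coe.2 ((le_min le_rfl h2).trans hdep)
      · refine lt_of_lt_of_le (by norm_num : ((2 : ℕ) : WithBot ℕ∞) < 3) (h3.trans (add_le_add ?_ le_rfl))
        exact WithBot.coe_le_coe.2 ((le_min (by exact_mod_cast h2.le) le_rfl).trans hdep)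
  obtain ⟨n, hn⟩ := hJ (Ideal.mem_span_singleton_self fE)
  have hA : ∀ z ∈ H0 gE E, fE ^ n • z ∈ LinearMap.range (Φ gE E) := fun z hz =>
    smul_H0_mem_range gE E (fun x => hkill 1 (by norm_num) _ hn x) hz
  have hLS : LS gE E E := fun j =>
    ⟨1, LinearMap.pi fun _ => LinearMap.id, LinearMap.proj 0, 0, fun c => by simp⟩
  have hT : TopLift gE fE E := topLift_of_idemLift gE (idemLift gE E hA hLS hfj (Ideal.le_radical hfI)
    fun c hc => smul_Z1_mem_B1 gE E (fun x => hkill 2 le_rfl _ hn x) hc)
  -- connectedness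
  have hO : ∀ P : PrimeSpectrum E,
      PrimeSpectrum.comap (algebraMap A E) P ≠ IsLocalRing.closedPoint A → P ∈ OSet gE E := fun P hP => by
    by_contra hne
    refine hP (PrimeSpectrum.ext ((maximalIdeal.isMaximal A).eq_of_le
      (PrimeSpectrum.comap (algebraMap A E) P).2.ne_top ?_).symm)
    refine Ideal.map_le_iff_le_comap.1 (hidl ▸ Ideal.span_le.2 ?_)
    rintro _ ⟨j, rfl⟩
    by_contra hj
    exact hne ⟨j, hj⟩
  let η : PrimeSpectrum E := ⟨⊥, Ideal.isPrime_bot⟩
  have hηO : η ∈ OSet gE E := hO η fun h => hfE (Ideal.mem_bot.1 (show fE ∈ η.asIdeal from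
    (congrArg (fun P : PrimeSpectrum A => f ∈ P.asIdeal) h).mpr hf))
  have hgen : ∀ (V : Set (PrimeSpectrum E)), IsOpen V → ∀ P ∈ V, η ∈ V := fun V hV P hP =>
    ((PrimeSpectrum.le_iff_specializes η P).1 (bot_le (a := P.asIdeal))).mem_open hV hP
  intro u v hu hv huv hne₁ hne₂
  by_contra hdis
  rw [Set.not_nonempty_iff_eq_empty] at hdis
  obtain ⟨E₁, E₂, hE₁, hE₂, hEE, hED⟩ := hT u u v hu hv fun P hP hPZ => by
    have hmem : P ∈ {P : PrimeSpectrum E | algebraMap A E f ∈ P.asIdeal ∧
        PrimeSpectrum.comap (algebraMap A E) P ≠ IsLocalRing.closedPoint A} := by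
      refine ⟨hPZ, fun hc => ?_⟩
      obtain ⟨j, hj⟩ := hP
      exact hj (show g j ∈ (PrimeSpectrum.comap (algebraMap A E) P).asIdeal by
        rw [hc]; exact hg.le (Submodule.subset_span ⟨j, rfl⟩))
    refine ⟨Iff.rfl, fun h1 h2 => ?_, fun h => (huv hmem).resolve_left h⟩
    exact Set.eq_empty_iff_forall_notMem.1 hdis P ⟨hmem, h2, h1⟩
  by_cases hη : η ∈ E₁
  · obtain ⟨P, hP, hPv⟩ := hne₂
    have hPO := hO P hP.2
    refine Set.eq_empty_iff_forall_notMem.1 hdis P ⟨hP, (hED P hPO hP.1).1 ?_, hPv⟩
    by_contra h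
    exact (hEE η hηO).1 (hgen E₂ hE₂ P ((hEE P hPO).2 h)) hη
  · obtain ⟨P, hP, hPu⟩ := hne₁
    exact hη (hgen E₁ hE₁ P ((hED P (hO P hP.2) hP.1).2 hPu))

/-- Connectedness for a finite domain. -/
theorem preconnected_divisor (hf : f ∈ maximalIdeal A) (hd : ∃ ω : Dual.D A, Dual.IsDualizing A ω)
    [IsAdicComplete (Ideal.span {f}) A] (C : Type u) [CommRing C] [IsDomain C] [Algebra A C] [Module.Finite A C]
    (hfC : algebraMap A C f ≠ 0) (hdim : (3 : WithBot ℕ∞) ≤ ringKrullDim (A ⧸ RingHom.ker (algebraMap A C))) :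
    _root_.IsPreconnected {P : PrimeSpectrum C | algebraMap A C f ∈ P.asIdeal ∧
      PrimeSpectrum.comap (algebraMap A C) P ≠ IsLocalRing.closedPoint A} := by
  haveI : IsNoetherianRing C := IsNoetherianRing.of_finite A C
  obtain ⟨ω, hω⟩ := hd
  obtain ⟨B, hB, hBfin⟩ := heightOneHullFinite_of_dualizing (C := C) (S0377.result A ω hω C)
  haveI := hBfin
  haveI : Module.Finite A B := Module.Finite.trans C B
  have hinj : Function.Injective (algebraMap C B) := fun a b h =>
    IsFractionRing.injective C (FractionRing C) (congrArg Subtype.val h)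
  have hcomp : algebraMap A B = (algebraMap C B).comp (algebraMap A C) := IsScalarTower.algebraMap_eq A C B
  have hker : RingHom.ker (algebraMap A B) = RingHom.ker (algebraMap A C) := by
    rw [hcomp, RingHom.ker_comp_of_injective _ hinj]
  haveI : FaithfulSMul C B := (faithfulSMul_iff_algebraMap_injective C B).2 hinj
  have hsurj : Function.Surjective (PrimeSpectrum.comap (algebraMap C B)) :=
    Algebra.IsIntegral.comap_surjective C B
  have h2 := preconnected_of_S2 (E := B) hf ⟨ω, hω⟩ (S2664.result C B hB)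
    (fun h => hfC (hinj (by rw [← RingHom.comp_apply, ← hcomp, h, map_zero]))) (hker ▸ hdim)
  have himg := h2.image _ (PrimeSpectrum.continuous_comap (algebraMap C B)).continuousOn
  have hset : PrimeSpectrum.comap (algebraMap C B) '' {P : PrimeSpectrum B | algebraMap A B f ∈ P.asIdeal ∧
      PrimeSpectrum.comap (algebraMap A B) P ≠ IsLocalRing.closedPoint A} = {P : PrimeSpectrum C |
      algebraMap A C f ∈ P.asIdeal ∧ PrimeSpectrum.comap (algebraMap A C) P ≠ IsLocalRing.closedPoint A} := by
    ext P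
    constructor
    · rintro ⟨Q, ⟨hQf, hQ⟩, rfl⟩
      rw [hcomp, RingHom.comp_apply] at hQf
      rw [hcomp, PrimeSpectrum.comap_comp_apply] at hQ
      exact ⟨hQf, hQ⟩
    · rintro ⟨hPf, hP⟩
      obtain ⟨Q, rfl⟩ := hsurj P
      refine ⟨Q, ⟨?_, ?_⟩, rfl⟩
      · rw [hcomp, RingHom.comp_apply]
        exact hPf
      · rw [hcomp, PrimeSpectrum.comap_comp_apply]
        exact hP
  rwa [hset] at himg

end Groth.Agent.Pi1Rig

end
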