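import Groth.Agent.Pi1Rig.Germ
import Groth.Agent.Pi1Rig.Connected

/-!
# Clopen subsets of the divisor extend when the components are large
-/

set_option autoImplicit false
set_option linter.unusedSectionVars false
set_option linter.style.haveILetI false
set_option backward.isDefEq.respectTransparency false
set_option backward.isDefEq.respectTransparency.types false
universe u

open CategoryTheory CategoryTheory.Limits AlgebraicGeometry IsLocalRing

noncomputable section

namespace Groth.Agent.Pi1Rig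

open Groth.Agent Groth.Agent.Pi1Alg Groth.Agent.Pi1Ext Groth.Agent.Pi1Ext.RegPurity Groth.Agent.Pi1Ext.PuritySch

/-- Clopen subsets of a closed set extend near it when every component meets it in a connected set. -/
theorem exists_open_of_components {X : Type u} [TopologicalSpace X] [TopologicalSpace.NoetherianSpace X]
    {D D' : Set X} (hD : IsClosed D) (hD' : IsClosed D') (hdisj : Disjoint D D')
    (hconn : ∀ T ∈ irreducibleComponents X, _root_.IsPreconnected (T ∩ (D ∪ D'))) :
    ∃ B G G' : Set X, IsClosed B ∧ Disjoint B (D ∪ D') ∧ IsOpen G ∧ IsOpen G' ∧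
      (∀ v ∉ B, v ∈ G' ↔ v ∉ G) ∧ D ⊆ G ∧ Disjoint D' G := by
  let T₁ := {T ∈ irreducibleComponents X | (T ∩ D).Nonempty}
  let T₂ := {T ∈ irreducibleComponents X | ¬ (T ∩ D).Nonempty}
  have hfin := TopologicalSpace.NoetherianSpace.finite_irreducibleComponents (α := X)
  have hc₁ : IsClosed (⋃₀ T₁) := by
    rw [Set.sUnion_eq_biUnion]
    exact (hfin.subset fun T hT => hT.1).isClosed_biUnion fun T hT => isClosed_of_mem_irreducibleComponents T hT.1
  have hc₂ : IsClosed (⋃₀ T₂) := by
    rw [Set.sUnion_eq_biUnion]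
    exact (hfin.subset fun T hT => hT.1).isClosed_biUnion fun T hT => isClosed_of_mem_irreducibleComponents T hT.1
  have hmeet : ∀ T ∈ irreducibleComponents X, (T ∩ D).Nonempty → (T ∩ D').Nonempty → False := by
    intro T hT h1 h2
    obtain ⟨x, hx, hxD, hxD'⟩ := (isPreconnected_closed_iff.1 (hconn T hT)) D D' hD hD' Set.inter_subset_right
      (h1.mono fun x hx => ⟨⟨hx.1, Or.inl hx.2⟩, hx.2⟩) (h2.mono fun x hx => ⟨⟨hx.1, Or.inr hx.2⟩, hx.2⟩)
    exact Set.disjoint_left.1 hdisj hxD hxD'
  have hcov : ∀ x : X, ∃ T ∈ irreducibleComponents X, x ∈ T := fun x =>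
    ⟨irreducibleComponent x, irreducibleComponent_mem_irreducibleComponents x, mem_irreducibleComponent⟩
  refine ⟨⋃₀ T₁ ∩ ⋃₀ T₂, (⋃₀ T₂)ᶜ, (⋃₀ T₁)ᶜ, hc₁.inter hc₂, ?_, hc₂.isOpen_compl, hc₁.isOpen_compl, ?_, ?_, ?_⟩
  · rw [Set.disjoint_left]
    rintro x ⟨⟨T, hT, hxT⟩, ⟨T', hT', hxT'⟩⟩ (hx | hx)
    · exact hT'.2 ⟨x, hxT', hx⟩
    · exact hmeet T hT.1 hT.2 ⟨x, hxT, hx⟩
  · intro v hv
    simp only [Set.mem_compl_iff, not_not]
    refine ⟨fun h1 => ?_, fun h2 h1 => hv ⟨h1, h2⟩⟩
    obtain ⟨T, hT, hvT⟩ := hcov v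
    by_cases hTD : (T ∩ D).Nonempty
    · exact absurd ⟨T, ⟨hT, hTD⟩, hvT⟩ h1
    · exact ⟨T, ⟨hT, hTD⟩, hvT⟩
  · rintro x hx ⟨T, hT, hxT⟩
    exact hT.2 ⟨x, hxT, hx⟩
  · rw [Set.disjoint_left]
    intro x hx hxG
    obtain ⟨T, hT, hxT⟩ := hcov x
    by_cases hTD : (T ∩ D).Nonempty
    · exact hmeet T hT hTD ⟨x, hxT, hx⟩
    · exact hxG ⟨T, ⟨hT, hTD⟩, hxT⟩

variable {A : Type u} [CommRing A] [IsLocalRing A] [IsNoetherianRing A]
variable {U : (Spec (CommRingCat.of A)).Opens} {f : A}

/-- Clopen subsets of the divisor extend when the components off it have dimension at least three. -/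
theorem canLift_of_dim (hf : f ∈ maximalIdeal A) (hd : ∃ ω : Dual.D A, Dual.IsDualizing A ω)
    [IsAdicComplete (Ideal.span {f}) A]
    (hc : ∀ p : Ideal A, p ∈ minimalPrimes A → f ∉ p → (3 : WithBot ℕ∞) ≤ ringKrullDim (A ⧸ p))
    (hU : U ≤ FEt.puncturedSpec A)
    (hUf : ∀ p : PrimeSpectrum A, f ∈ p.asIdeal → p ∈ FEt.puncturedSpec A → p ∈ U) {X : Scheme.{u}}
    (i : X ⟶ (U : Scheme.{u})) [IsClosedImmersion i]
    (hi : Set.range i = {x | f ∈ (U.ι x : PrimeSpectrum A).asIdeal}) : CanLift f i := by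
  intro W S₀ hS₀
  obtain ⟨J, hJ⟩ := (PrimeSpectrum.isOpen_iff (R := A) U.1).1 U.2
  obtain ⟨r, h, hh⟩ := Submodule.fg_iff_exists_fin_generating_family.1 (IsNoetherian.noetherian (Ideal.span J))
  have hun : IsUnion U h := fun p => by
    have : p ∈ PrimeSpectrum.zeroLocus (Ideal.span (Set.range h) : Set A) ↔ p ∉ U := by
      rw [show Ideal.span (Set.range h) = Ideal.span J from hh, PrimeSpectrum.zeroLocus_span]
      exact (Set.ext_iff.1 hJ p).symm
    rw [PrimeSpectrum.zeroLocus_span, PrimeSpectrum.mem_zeroLocus] at this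
    rw [← not_not (a := p ∈ U), ← this, Set.range_subset_iff, not_forall]
    rfl
  obtain ⟨C, _, _, _, hC, k, hk, hkw, hrange⟩ := exists_model hun W
  haveI := hk
  have hko := k.isOpenEmbedding
  haveI : IsNoetherianRing C := IsNoetherianRing.of_finite A C
  haveI : TopologicalSpace.NoetherianSpace W.left := hko.isInducing.noetherianSpace
  let w : W.left ⟶ (U : Scheme.{u}) := W.hom
  haveI : IsFinite w := W.prop.1
  haveI : Etale w := W.prop.2
  have hpt : ∀ v, sp A C (k v) = U.ι (w v) := fun v => by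
    rw [← Scheme.Hom.comp_apply, hkw, Scheme.Hom.comp_apply]
    rfl
  let j₀ : pullback W.hom i ⟶ W.left := pullback.fst W.hom i
  haveI : IsClosedImmersion j₀ := MorphismProperty.pullback_fst _ _ ‹IsClosedImmersion i›
  have hj := j₀.isClosedEmbedding
  have hjr : ∀ v, v ∈ Set.range j₀ ↔ f ∈ (U.ι (w v) : PrimeSpectrum A).asIdeal := fun v => by
    rw [show Set.range j₀ = W.hom ⁻¹' Set.range i from Scheme.Pullback.range_fst _ _, hi]
    rfl
  have hgen : GeneralizingMap w.base := Flat.generalizingMap w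
  have hunion : j₀ '' S₀ ∪ j₀ '' S₀ᶜ = Set.range j₀ := by rw [← Set.image_union, Set.union_compl_self, Set.image_univ]
  obtain ⟨B, G, G', hB, hBD, hG, hG', hGG, hDG, hD'G⟩ := exists_open_of_components (hj.isClosedMap _ hS₀.isClosed)
    (hj.isClosedMap _ hS₀.compl.isClosed) (Set.disjoint_image_of_injective hj.injective disjoint_compl_right) fun T hT => by
      rw [hunion]
      obtain ⟨η, hη⟩ : ∃ η, IsGenericPoint η T :=
        QuasiSober.sober hT.1 (isClosed_of_mem_irreducibleComponents T hT)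
      have hηT : ∀ v, v ∈ T ↔ η ⤳ v := fun v => hη.specializes_iff_mem.symm
      have hηmax : ∀ v, v ⤳ η → η ⤳ v := fun v hv => by
        have hirr : IsIrreducible (closure ({v} : Set W.left)) := isIrreducible_singleton.closure
        have hle : T ⊆ closure {v} := by
          rw [← hη.def]
          exact hv.closure_subset
        exact (hηT v).1 ((hT.2 hirr hle) (subset_closure (Set.mem_singleton v)))
      by_cases hfη : f ∈ (U.ι (w η) : PrimeSpectrum A).asIdeal
      · rw [Set.inter_eq_left.2 fun v hv => ?_]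
        · exact hT.1.isPreirreducible.isPreconnected
        · exact ((hηT v).1 hv).mem_closed hj.isClosed_range ((hjr η).2 hfη)
      let p : PrimeSpectrum A := U.ι (w η)
      have hpmin : p.asIdeal ∈ minimalPrimes A := by
        refine ⟨⟨p.2, bot_le⟩, fun P hP hPp => ?_⟩
        let P' : PrimeSpectrum A := ⟨P, hP.1⟩
        have hspec : P' ⤳ p := (PrimeSpectrum.le_iff_specializes P' p).1 hPp
        have hP'U : P' ∈ U := hspec.mem_open U.2 (w η).2
        have hspec' : (⟨P', hP'U⟩ : (U : Scheme.{u})) ⤳ w η := U.ι.isOpenEmbedding.isInducing.specializes_iff.1 hspec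
        obtain ⟨v, hv, hve⟩ := hgen hspec'
        have : p ⤳ P' := by
          have h2 := ((hηmax v hv).map w.continuous).map U.ι.continuous
          rw [hve] at h2
          exact h2
        exact (PrimeSpectrum.le_iff_specializes p P').2 this
      let q : PrimeSpectrum C := k η
      let C' := C ⧸ q.asIdeal
      haveI : IsDomain C' := Ideal.Quotient.isDomain _
      haveI : Module.Finite A C' := Module.Finite.trans C C'
      have hker : RingHom.ker (algebraMap A C') = p.asIdeal := by
        rw [IsScalarTower.algebraMap_eq A C C', ← RingHom.comap_ker, Ideal.Quotient.algebraMap_eq, Ideal.mk_ker]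
        exact congrArg PrimeSpectrum.asIdeal (hpt η)
      have hconn := preconnected_divisor hf hd C' (fun h => hfη (hker.le h)) (hker.symm ▸ hc p.asIdeal hpmin hfη)
      have himg := hconn.image _ (PrimeSpectrum.continuous_comap (Ideal.Quotient.mk q.asIdeal)).continuousOn
      have hcl : ∀ P : PrimeSpectrum C, q.asIdeal ≤ P.asIdeal → ∃ Q, PrimeSpectrum.comap (Ideal.Quotient.mk q.asIdeal) Q = P :=
        fun P hP => by
          have : P ∈ Set.range (PrimeSpectrum.comap (Ideal.Quotient.mk q.asIdeal)) := by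
            rw [range_comap_of_surjective _ _ Ideal.Quotient.mk_surjective, Ideal.mk_ker, PrimeSpectrum.mem_zeroLocus]
            exact hP
          exact this
      have hset : PrimeSpectrum.comap (Ideal.Quotient.mk q.asIdeal) '' {P : PrimeSpectrum C' |
          algebraMap A C' f ∈ P.asIdeal ∧ PrimeSpectrum.comap (algebraMap A C') P ≠ IsLocalRing.closedPoint A} =
          k '' (T ∩ Set.range j₀) := by
        ext P
        constructor
        · rintro ⟨Q, ⟨hQf, hQ⟩, rfl⟩
          let P := PrimeSpectrum.comap (Ideal.Quotient.mk q.asIdeal) Q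
          have hPf : f ∈ (sp A C P : PrimeSpectrum A).asIdeal := hQf
          have hPp : (sp A C P : PrimeSpectrum A) ∈ FEt.puncturedSpec A := hQ
          obtain ⟨v, hv⟩ := (hrange P).1 ((hun _).1 (hUf _ hPf hPp))
          refine ⟨v, ⟨(hηT v).2 (hko.isInducing.specializes_iff.1 ?_), (hjr v).2 ?_⟩, hv⟩
          · rw [hv]
            exact (PrimeSpectrum.le_iff_specializes q P).1 (Ideal.mk_ker.symm.le.trans (Ideal.ker_le_comap _))
          · exact (congrArg (fun x : PrimeSpectrum A => f ∈ x.asIdeal) (hpt v)).mp (hv.symm ▸ hPf)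
        · rintro ⟨v, ⟨hvT, hvZ⟩, rfl⟩
          have hle : q.asIdeal ≤ (k v : PrimeSpectrum C).asIdeal :=
            (PrimeSpectrum.le_iff_specializes q (k v)).2 (((hηT v).1 hvT).map k.continuous)
          obtain ⟨Q, hQ⟩ := hcl _ hle
          refine ⟨Q, ⟨?_, ?_⟩, hQ⟩
          · have hvf : f ∈ (sp A C (k v) : PrimeSpectrum A).asIdeal :=
              (congrArg (fun x : PrimeSpectrum A => f ∈ x.asIdeal) (hpt v)).mpr ((hjr v).1 hvZ)
            rw [← hQ] at hvf
            exact hvf
          · intro hne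
            have hv' : (sp A C (k v) : PrimeSpectrum A) = IsLocalRing.closedPoint A := by rw [← hQ]; exact hne
            exact hU ((congrArg (· ∈ U) (hpt v)).mpr (w v).2) hv'
      rw [hset] at himg
      exact hko.isInducing.isPreconnected_image.1 himg
  rw [hunion] at hBD
  have hcw : IsClosed (w '' B) := w.isClosedMap _ hB
  let U₁ : (Spec (CommRingCat.of A)).Opens := U.ι ''ᵁ ⟨(w '' B)ᶜ, hcw.isOpen_compl⟩
  refine ⟨U₁, U.ι_image_le _, fun p hfp hp => ⟨⟨p, hp⟩, fun ⟨b, hb, hbe⟩ => ?_, rfl⟩, G, G', hG, hG',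
    fun v hv => hGG v fun hvB => ?_, Set.ext fun x => ?_⟩
  · exact Set.disjoint_left.1 hBD hb ((hjr b).2 (by rw [hbe]; exact hfp))
  · obtain ⟨y, hy, hye⟩ := hv
    exact hy ⟨v, hvB, (U.ι.isOpenEmbedding.injective hye).symm⟩
  · constructor
    · intro hx
      by_contra hxS
      exact Set.disjoint_left.1 hD'G ⟨x, hxS, rfl⟩ hx
    · exact fun hx => hDG ⟨x, hx, rfl⟩

end Groth.Agent.Pi1Rig

end
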