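import Groth.Agent.Pi1Rig.Converse
import Groth.Agent.Pi1Rig.Main

/-!
# Full faithfulness can be tested on the completion
-/

set_option autoImplicit false
set_option linter.unusedSectionVars false
set_option linter.style.haveILetI false
set_option backward.isDefEq.respectTransparency false
set_option backward.isDefEq.respectTransparency.types false
universe u

open CategoryTheory CategoryTheory.Limits AlgebraicGeometry IsLocalRing TensorProduct

noncomputable section

namespace Groth.Agent.Pi1Rig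

open Groth.Agent Groth.Agent.Pi1Alg Groth.Agent.Pi1Ext Groth.Agent.Pi1Ext.RegPurity Groth.Agent.Pi1Ext.PuritySch

variable {A : Type u} [CommRing A] {ι : Type} {g : ι → A} {f : A} {C : Type u} [CommRing C] [Algebra A C]

/-- Clopen statements pulled back along a chart. -/
theorem top_of_chart {W V : Type u} [TopologicalSpace W] [TopologicalSpace V] {k : W → PrimeSpectrum C}
    (hk : Topology.IsOpenEmbedding k) (hkr : ∀ p, p ∈ OSet g C ↔ p ∈ Set.range k) {j : V → W}
    (hj : Topology.IsClosedEmbedding j) (hjr : ∀ w, w ∈ Set.range j ↔ k w ∈ ZSet f C)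
    (hlift : ∀ S : Set V, IsClopen S → ∃ G : Set W, IsClopen G ∧ j ⁻¹' G = S)
    (hinj : ∀ G : Set W, IsClopen G → j ⁻¹' G = ∅ → G = ∅) : TopInj g f C ∧ TopLift g f C := by
  constructor
  · intro D U U' hU hU' hD hDZ p hp hpO
    have hkD : ∀ w, (k w ∈ U ↔ k w ∈ D) ∧ (k w ∈ U' ↔ k w ∉ D) := fun w => hD _ ((hkr _).2 ⟨w, rfl⟩)
    have hG : IsClopen (k ⁻¹' U) := by
      refine ⟨⟨?_⟩, hU.preimage hk.continuous⟩
      rw [show (k ⁻¹' U)ᶜ = k ⁻¹' U' from Set.ext fun w => (not_congr (hkD w).1).trans (hkD w).2.symm]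
      exact hU'.preimage hk.continuous
    have h0 : k ⁻¹' U = ∅ := hinj _ hG (Set.eq_empty_of_forall_notMem fun v hv =>
      hDZ _ ((hkD _).1.1 hv) ((hkr _).2 ⟨j v, rfl⟩) ((hjr _).1 ⟨v, rfl⟩))
    obtain ⟨w, rfl⟩ := (hkr p).1 hpO
    exact Set.eq_empty_iff_forall_notMem.1 h0 w ((hkD w).1.2 hp)
  · intro D U U' hU hU' hD
    have hkD : ∀ v, (k (j v) ∈ U ↔ k (j v) ∈ D) ∧ (k (j v) ∈ U' ↔ k (j v) ∉ D) := fun v =>
      hD _ ((hkr _).2 ⟨j v, rfl⟩) ((hjr _).1 ⟨v, rfl⟩)
    have hS : IsClopen ((k ∘ j) ⁻¹' U) := by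
      refine ⟨⟨?_⟩, hU.preimage (hk.continuous.comp hj.continuous)⟩
      rw [show ((k ∘ j) ⁻¹' U)ᶜ = (k ∘ j) ⁻¹' U' from Set.ext fun v => (not_congr (hkD v).1).trans (hkD v).2.symm]
      exact hU'.preimage (hk.continuous.comp hj.continuous)
    obtain ⟨G, hG, hGS⟩ := hlift _ hS
    refine ⟨k '' G, k '' Gᶜ, hk.isOpenMap _ hG.isOpen, hk.isOpenMap _ hG.compl.isOpen, fun p hp => ?_,
      fun p hp hpZ => ?_⟩
    · obtain ⟨w, rfl⟩ := (hkr p).1 hp
      rw [hk.injective.mem_set_image, hk.injective.mem_set_image]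
      rfl
    · obtain ⟨w, rfl⟩ := (hkr p).1 hp
      obtain ⟨v, rfl⟩ := (hjr w).2 hpZ
      rw [hk.injective.mem_set_image, ← (hkD v).1, show (j v ∈ G ↔ v ∈ (k ∘ j) ⁻¹' U) from hGS ▸ Iff.rfl]
      rfl

variable [IsLocalRing A] [IsNoetherianRing A] {A' : Type u} [CommRing A'] [Algebra A A']

theorem top_baseChange (hidl : Ideal.span (Set.range g) = maximalIdeal A) {X : Scheme.{u}}
    (i₀ : X ⟶ (FEt.puncturedSpec A : Scheme.{u})) [IsClosedImmersion i₀]
    (hr : Set.range i₀ = {x | f ∈ ((FEt.puncturedSpec A).ι x : PrimeSpectrum A).asIdeal})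
    [(FEt.restrict (pullback.fst (pullback.fst (FEt.puncturedSpec A).ι (sp A A')) i₀)).Full]
    [(FEt.restrict (pullback.fst (pullback.fst (FEt.puncturedSpec A).ι (sp A A')) i₀)).Faithful]
    [Module.Finite A C] (hC : EtOff A C) : TopInj g f (A' ⊗[A] C) ∧ TopLift g f (A' ⊗[A] C) := by
  let P := FEt.puncturedSpec A
  let b := sp A A'
  let π := pullback.fst P.ι b
  let i := pullback.fst π i₀
  let W : FEt.Cat (pullback P.ι b) := (FEt.restrict π).obj (obj C (prop_rest C hC))
  let T : Scheme.{u} := pullback (rest A C) π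
  let C' := A' ⊗[A] C
  let inc := Spec.map (CommRingCat.ofHom (Algebra.TensorProduct.includeRight : C →ₐ[A] C').toRingHom)
  have hpo : IsPullback inc (sp A' C') (sp A C) b :=
    (isPullback_SpecMap_of_isPushout _ _ _ _ (CommRingCat.isPushout_tensorProduct A A' C)).flip
  let a : T ⟶ Spec (CommRingCat.of C) := pullback.fst (rest A C) π ≫ pullback.fst (sp A C) P.ι
  have h1 : IsPullback a (pullback.snd (rest A C) π) (sp A C) (π ≫ P.ι) :=
    (IsPullback.of_hasPullback (rest A C) π).paste_horiz (IsPullback.of_hasPullback (sp A C) P.ι)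
  have hcond : π ≫ P.ι = pullback.snd P.ι b ≫ b := pullback.condition
  rw [hcond] at h1
  let k : T ⟶ Spec (CommRingCat.of C') := hpo.lift a (pullback.snd (rest A C) π ≫ pullback.snd P.ι b)
    (by rw [Category.assoc]; exact h1.w)
  have hk : IsPullback k (pullback.snd (rest A C) π) (sp A' C') (pullback.snd P.ι b) :=
    IsPullback.of_right (h₁₂ := inc) (h₂₂ := b) (by rw [hpo.lift_fst]; exact h1) (hpo.lift_snd _ _ _) hpo
  haveI : IsOpenImmersion k := MorphismProperty.of_isPullback (P := @IsOpenImmersion) hk.flip inferInstance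
  have hkf : k ≫ sp A C' = pullback.snd (rest A C) π ≫ π ≫ P.ι := by
    rw [show sp A C' = sp A' C' ≫ b from by
      rw [← Spec.map_comp, ← CommRingCat.ofHom_comp, ← IsScalarTower.algebraMap_eq], reassoc_of% hk.w, hcond]
  have hkr : ∀ p : PrimeSpectrum C', p ∈ OSet g C' ↔ p ∈ Set.range k := fun p => by
    rw [mem_OSet_iff g hidl]
    constructor
    · intro hp
      have hmem : (sp A' C' p : Spec (CommRingCat.of A')) ∈ Set.range (pullback.snd P.ι b) := by
        rw [IsOpenImmersion.range_pullbackSnd, Scheme.Opens.opensRange_ι]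
        show b (sp A' C' p) ∈ P
        rw [← Scheme.Hom.comp_apply, ← Spec.map_comp, ← CommRingCat.ofHom_comp, ← IsScalarTower.algebraMap_eq]
        exact hp
      obtain ⟨u, hu⟩ := hmem
      obtain ⟨t, ht, -⟩ := Scheme.Pullback.exists_preimage_pullback (f := sp A' C') (g := pullback.snd P.ι b) p u hu.symm
      refine ⟨hk.isoPullback.inv t, ?_⟩
      rw [← Scheme.Hom.comp_apply, hk.isoPullback_inv_fst, ht]
    · rintro ⟨v, rfl⟩
      show (sp A C' (k v) : PrimeSpectrum A) ≠ _
      rw [← Scheme.Hom.comp_apply, hkf, ← Category.assoc, Scheme.Hom.comp_apply]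
      exact ((pullback.snd (rest A C) π ≫ π) v).2
  haveI : IsClosedImmersion i := MorphismProperty.pullback_fst _ _ ‹_›
  haveI : IsClosedImmersion (pullback.fst (pullback.snd (rest A C) π) i) := MorphismProperty.pullback_fst _ _ ‹_›
  refine top_of_chart (W := T) (V := ↥(pullback W.hom i)) k.isOpenEmbedding hkr
    (pullback.fst (pullback.snd (rest A C) π) i).isClosedEmbedding (fun v => ?_)
    (fun S hS => lift_clopen (π ≫ P.ι) i W hS)
    (fun G hG h0 => clopen_inj (π ≫ P.ι) i W hG h0)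
  rw [Scheme.Pullback.range_fst]
  show pullback.snd (rest A C) π v ∈ Set.range i ↔ f ∈ (sp A C' (k v) : PrimeSpectrum A).asIdeal
  rw [show Set.range i = π ⁻¹' Set.range i₀ from Scheme.Pullback.range_fst _ _, hr, ← Scheme.Hom.comp_apply, hkf]
  rfl

theorem ff_of_completion [HenselianRing A (Ideal.span {f})]
    (h : (FEt.restrict (pullback.fst (pullback.fst (FEt.puncturedSpec A).ι (Spec.map (CommRingCat.ofHom (algebraMap A (AdicCompletion (IsLocalRing.maximalIdeal A) A))))) (pullback.fst (FEt.puncturedSpec A).ι (Spec.map (CommRingCat.ofHom (Ideal.Quotient.mk (Ideal.span {f}))))))).Full ∧ (FEt.restrict (pullback.fst (pullback.fst (FEt.puncturedSpec A).ι (Spec.map (CommRingCat.ofHom (algebraMap A (AdicCompletion (IsLocalRing.maximalIdeal A) A))))) (pullback.fst (FEt.puncturedSpec A).ι (Spec.map (CommRingCat.ofHom (Ideal.Quotient.mk (Ideal.span {f}))))))).Faithful) :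
    (FEt.restrict (pullback.fst (FEt.puncturedSpec A).ι (Spec.map (CommRingCat.ofHom (Ideal.Quotient.mk (Ideal.span {f})))))).Full ∧ (FEt.restrict (pullback.fst (FEt.puncturedSpec A).ι (Spec.map (CommRingCat.ofHom (Ideal.Quotient.mk (Ideal.span {f})))))).Faithful := by
  obtain ⟨hfull, hfaith⟩ := h
  haveI := LC.Canon.isNoetherianRing_completion (R := A)
  haveI := LC.Canon.faithfullyFlat_completion (R := A)
  obtain ⟨r, g, hg⟩ := exists_gens A
  haveI : IsClosedImmersion (Spec.map (CommRingCat.ofHom (Ideal.Quotient.mk (Ideal.span {f})))) :=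
    IsClosedImmersion.spec_of_surjective _ Ideal.Quotient.mk_surjective
  haveI : IsClosedImmersion (pullback.fst (FEt.puncturedSpec A).ι (Spec.map (CommRingCat.ofHom (Ideal.Quotient.mk (Ideal.span {f}))))) :=
    MorphismProperty.pullback_fst _ _ ‹_›
  refine ff_hypersurface g hg f fun C _ _ _ hC => ?_
  obtain ⟨hi, hl⟩ := top_baseChange (A' := AdicCompletion (maximalIdeal A) A) (g := g) (f := f) (C := C) hg _
    (range_fst_quotient f) hC
  exact ⟨topInj_descend g f C hi, topLift_descend g f C (fun n a' => by rw [hg]; exact completion_surj A n a') hg hl⟩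

end Groth.Agent.Pi1Rig

end
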