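import Groth.Agent.Pi1Rig.Sch
import Groth.Agent.HensCouple7.Gamma
import Mathlib.RingTheory.Etale.Pi
import Groth.Agent.WLocalLib.EtaleProd

/-!
# Clopen subsets from full faithfulness
-/

set_option autoImplicit false
set_option linter.unusedSectionVars false
set_option linter.style.haveILetI false
set_option backward.isDefEq.respectTransparency false
set_option backward.isDefEq.respectTransparency.types false
universe u

open CategoryTheory CategoryTheory.Limits AlgebraicGeometry IsLocalRing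

noncomputable section

namespace Groth.Agent.Pi1Rig

open Groth.Agent Groth.Agent.Pi1Alg Groth.Agent.Pi1Ext Groth.Agent.Pi1Ext.RegPurity Groth.Agent.Pi1Ext.PuritySch

variable {A : Type u} [CommRing A] {X S : Scheme.{u}} (s : S ⟶ Spec (CommRingCat.of A))

theorem prop_prod : FEt.prop (sp A (A × A)) :=
  fet_sp_iff.2 ⟨inferInstance, Groth.Agent.WLocalLib.etale_prod⟩

/-- The trivial double cover. -/
def dbl : FEt.Cat S :=
  MorphismProperty.Over.mk ⊤ (pullback.snd (sp A (A × A)) s) (MorphismProperty.pullback_snd _ _ prop_prod)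

/-- The first sheet. -/
def sheet : Set (Spec (CommRingCat.of (A × A))) := ((PrimeSpectrum.basicOpen ((1, 0) : A × A) : TopologicalSpace.Opens (PrimeSpectrum (A × A))) : Set (PrimeSpectrum (A × A)))

theorem preimage_sheet {Y : Scheme.{u}} (φ : CommRingCat.of (A × A) ⟶ Γ(Y, ⊤)) :
    (Y.toSpecΓ ≫ Spec.map φ) ⁻¹' sheet (A := A) = (Y.basicOpen (φ ((1, 0) : A × A)) : Set Y) := by
  rw [← Scheme.toSpecΓ_preimage_basicOpen]
  rfl

/-- Maps to the double cover from idempotents. -/
theorem exists_map_of_isClopen {Y : Scheme.{u}} (y : Y ⟶ Spec (CommRingCat.of A)) {G : Set Y} (hG : IsClopen G) :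
    ∃ m : Y ⟶ Spec (CommRingCat.of (A × A)), m ≫ sp A (A × A) = y ∧ m ⁻¹' sheet (A := A) = G := by
  obtain ⟨e, he, heG⟩ := HensCouple7.exists_idempotent_of_isClopen hG
  let σ : A →+* Γ(Y, ⊤) := ((Scheme.ΓSpecIso (CommRingCat.of A)).inv ≫ y.appTop).hom
  let φ : A × A →+* Γ(Y, ⊤) :=
    { toFun := fun p => σ p.1 * e + σ p.2 * (1 - e)
      map_one' := by simp
      map_zero' := by simp
      map_add' := fun p q => by simp only [Prod.fst_add, Prod.snd_add, map_add]; ring
      map_mul' := fun p q => by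
        simp only [Prod.fst_mul, Prod.snd_mul, map_mul]
        linear_combination (-(σ p.1 * σ q.1) - σ p.2 * σ q.2 + σ p.1 * σ q.2 + σ p.2 * σ q.1) * he }
  refine ⟨Y.toSpecΓ ≫ Spec.map (CommRingCat.ofHom φ), ?_, ?_⟩
  · have h : CommRingCat.ofHom (algebraMap A (A × A)) ≫ CommRingCat.ofHom φ =
        (Scheme.ΓSpecIso (CommRingCat.of A)).inv ≫ y.appTop := by
      refine CommRingCat.hom_ext (RingHom.ext fun a => ?_)
      show σ a * e + σ a * (1 - e) = σ a
      ring
    rw [Category.assoc, ← Spec.map_comp, h, Spec.map_comp, ← Category.assoc, ← Scheme.toSpecΓ_naturality, Category.assoc,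
      ← SpecMap_ΓSpecIso_hom, ← Spec.map_comp, Iso.inv_hom_id, Spec.map_id, Category.comp_id]
  · rw [preimage_sheet, ← heG]
    congr 1
    show (Y.basicOpen (σ (1 : A) * e + σ (0 : A) * (1 - e)) : Y.Opens) = _
    simp

theorem map_ext_of_sheet {Y : Scheme.{u}} {m m' : Y ⟶ Spec (CommRingCat.of (A × A))}
    (h : m ≫ sp A (A × A) = m' ≫ sp A (A × A)) (hs : m ⁻¹' sheet (A := A) = m' ⁻¹' sheet (A := A)) : m = m' := by
  let R := CommRingCat.of (A × A)
  have hm : ∀ n : Y ⟶ Spec R, Y.toSpecΓ ≫ Spec.map ((Scheme.ΓSpecIso R).inv ≫ n.appTop) = n := fun n => by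
    rw [Spec.map_comp, ← Category.assoc, ← Scheme.toSpecΓ_naturality, Category.assoc,
      ← SpecMap_ΓSpecIso_hom, ← Spec.map_comp, Iso.inv_hom_id, Spec.map_id, Category.comp_id]
  let a := ((Scheme.ΓSpecIso R).inv ≫ m.appTop).hom
  let b := ((Scheme.ΓSpecIso R).inv ≫ m'.appTop).hom
  have hsc : ∀ x : A, a (algebraMap A (A × A) x) = b (algebraMap A (A × A) x) := fun x => by
    have h2 := congrArg Scheme.Hom.appTop h
    rw [Scheme.Hom.comp_appTop, Scheme.Hom.comp_appTop] at h2
    have h3 := congrArg ((Scheme.ΓSpecIso (CommRingCat.of A)).inv ≫ ·) h2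
    simp only [← Scheme.ΓSpecIso_inv_naturality_assoc] at h3
    exact ConcreteCategory.congr_hom h3 x
  have he : a (1, 0) = b (1, 0) := by
    refine HensCouple7.eq_of_basicOpen_eq ?_ ?_ ?_
    · rw [← map_mul]; congr 1; exact Prod.ext (one_mul 1) (zero_mul 0)
    · rw [← map_mul]; congr 1; exact Prod.ext (one_mul 1) (zero_mul 0)
    · rw [← hm m, ← hm m', preimage_sheet, preimage_sheet] at hs
      exact hs
  have hab : ∀ p, a p = b p := fun p => by
    have hp : p = algebraMap A (A × A) p.1 * (1, 0) + algebraMap A (A × A) p.2 * (1 - (1, 0)) := by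
      obtain ⟨x, y⟩ := p
      refine Prod.ext ?_ ?_
      · show x = x * 1 + y * (1 - 1)
        ring
      · show y = x * 0 + y * (1 - 0)
        ring
    rw [hp]
    simp only [map_add, map_mul, map_sub, map_one, hsc, he]
  rw [← hm m, ← hm m']
  congr 2
  exact CommRingCat.hom_ext (RingHom.ext hab)

variable {s}

/-- The set of a morphism to the double cover. -/
def setOf' {W : FEt.Cat S} (h : W ⟶ dbl s) : Set W.left :=
  (h.left ≫ pullback.fst (sp A (A × A)) s) ⁻¹' sheet (A := A)

variable (s)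

theorem exists_hom {W : FEt.Cat S} {G : Set W.left} (hG : IsClopen G) : ∃ h : W ⟶ dbl s, setOf' h = G := by
  obtain ⟨m, hm, hmG⟩ := exists_map_of_isClopen (W.hom ≫ s) hG
  refine ⟨MorphismProperty.Over.homMk (pullback.lift m W.hom hm) (pullback.lift_snd _ _ _), ?_⟩
  show (pullback.lift m W.hom hm ≫ pullback.fst _ _) ⁻¹' sheet (A := A) = G
  rw [pullback.lift_fst, hmG]

theorem isClopen_setOf {W : FEt.Cat S} (h : W ⟶ dbl s) : IsClopen (setOf' h) := by
  refine IsClopen.preimage ⟨?_, (PrimeSpectrum.basicOpen ((1, 0) : A × A)).2⟩ (Scheme.Hom.continuous (h.left ≫ pullback.fst (sp A (A × A)) s))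
  refine ⟨?_⟩
  have : ((PrimeSpectrum.basicOpen ((1, 0) : A × A) : Set (PrimeSpectrum (A × A))))ᶜ =
      PrimeSpectrum.basicOpen ((0, 1) : A × A) := by
    ext p
    simp only [Set.mem_compl_iff, SetLike.mem_coe, PrimeSpectrum.mem_basicOpen, not_not]
    constructor
    · intro h1 h2
      exact p.2.ne_top ((Ideal.eq_top_iff_one _).2 (by simpa [Prod.mk_add_mk, Prod.one_eq_mk] using p.asIdeal.add_mem h1 h2))
    · intro h
      exact (p.2.mem_or_mem (show ((1, 0) : A × A) * (0, 1) ∈ p.asIdeal by rw [Prod.mk_mul_mk, one_mul, zero_mul]; exact zero_mem _)).resolve_right h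
  show IsOpen ((PrimeSpectrum.basicOpen ((1, 0) : A × A) : Set (PrimeSpectrum (A × A))))ᶜ
  rw [this]
  exact (PrimeSpectrum.basicOpen _).2

theorem hom_ext_of_setOf {W : FEt.Cat S} {h h' : W ⟶ dbl s} (e : setOf' h = setOf' h') : h = h' := by
  have hw : ∀ k : W ⟶ dbl s, k.left ≫ pullback.snd (sp A (A × A)) s = W.hom := fun k => MorphismProperty.Over.w k
  refine MorphismProperty.Over.Hom.ext (pullback.hom_ext (map_ext_of_sheet ?_ e) ((hw h).trans (hw h').symm))
  rw [Category.assoc, Category.assoc, pullback.condition, ← Category.assoc, hw, ← Category.assoc, hw]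

variable (i : X ⟶ S)

theorem setOf_restrict {W : FEt.Cat S} (h : W ⟶ dbl s) :
    (((FEt.restrict i).map h).left ≫ pullback.fst (dbl s).hom i ≫ pullback.fst (sp A (A × A)) s) ⁻¹' sheet (A := A) =
      pullback.fst W.hom i ⁻¹' setOf' h := by
  have : ((FEt.restrict i).map h).left ≫ pullback.fst (dbl s).hom i = pullback.fst W.hom i ≫ h.left :=
    pullback.lift_fst _ _ _
  rw [reassoc_of% this, setOf', ← Set.preimage_comp]
  rfl

include s in
theorem lift_clopen [(FEt.restrict i).Full] (W : FEt.Cat S) {C : Set ↥(pullback W.hom i)} (hC : IsClopen C) :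
    ∃ G : Set W.left, IsClopen G ∧ pullback.fst W.hom i ⁻¹' G = C := by
  obtain ⟨m, hm, hmC⟩ := exists_map_of_isClopen (pullback.snd W.hom i ≫ i ≫ s) hC
  let ψ : (FEt.restrict i).obj W ⟶ (FEt.restrict i).obj (dbl s) :=
    MorphismProperty.Over.homMk (pullback.lift (pullback.lift m (pullback.snd W.hom i ≫ i)
      (by rw [hm, Category.assoc])) (pullback.snd W.hom i) (pullback.lift_snd _ _ _)) (pullback.lift_snd _ _ _)
  obtain ⟨h, hh⟩ := (FEt.restrict i).map_surjective ψ
  refine ⟨setOf' h, isClopen_setOf s h, ?_⟩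
  have he : ψ.left ≫ pullback.fst (dbl s).hom i ≫ pullback.fst (sp A (A × A)) s = m := by
    simp [ψ, dbl]
  rw [← setOf_restrict, hh, he]
  exact hmC

include s in
theorem clopen_inj [(FEt.restrict i).Faithful] (W : FEt.Cat S) {G : Set W.left} (hG : IsClopen G)
    (h0 : pullback.fst W.hom i ⁻¹' G = ∅) : G = ∅ := by
  obtain ⟨h, rfl⟩ := exists_hom s hG
  obtain ⟨h', hh'⟩ := exists_hom s (W := W) (G := ∅) isClopen_empty
  rw [← hh']
  congr 1
  refine (FEt.restrict i).map_injective (MorphismProperty.Over.Hom.ext (pullback.hom_ext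
    (pullback.hom_ext (map_ext_of_sheet ?_ ?_) ?_) ?_))
  · have hw : ∀ k : W ⟶ dbl s, k.left ≫ pullback.snd (sp A (A × A)) s = W.hom := fun k => MorphismProperty.Over.w k
    have hk : ∀ k : W ⟶ dbl s, (((FEt.restrict i).map k).left ≫ pullback.fst (dbl s).hom i) ≫
        pullback.fst (sp A (A × A)) s ≫ sp A (A × A) = pullback.fst W.hom i ≫ W.hom ≫ s := fun k => by
      rw [show ((FEt.restrict i).map k).left ≫ pullback.fst (dbl s).hom i = pullback.fst W.hom i ≫ k.left from
        pullback.lift_fst _ _ _, Category.assoc, pullback.condition, ← Category.assoc k.left, hw]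
    rw [Category.assoc, Category.assoc]
    exact (hk h).trans (hk h').symm
  · rw [Category.assoc, Category.assoc, setOf_restrict, setOf_restrict, h0, hh', Set.preimage_empty]
  · have hw : ∀ k : W ⟶ dbl s, k.left ≫ pullback.snd (sp A (A × A)) s = W.hom := fun k => MorphismProperty.Over.w k
    have hk : ∀ k : W ⟶ dbl s, (((FEt.restrict i).map k).left ≫ pullback.fst (dbl s).hom i) ≫
        pullback.snd (sp A (A × A)) s = pullback.fst W.hom i ≫ W.hom := fun k => by
      rw [show ((FEt.restrict i).map k).left ≫ pullback.fst (dbl s).hom i = pullback.fst W.hom i ≫ k.left from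
        pullback.lift_fst _ _ _, Category.assoc, hw]
    exact (hk h).trans (hk h').symm
  · exact (MorphismProperty.Over.w ((FEt.restrict i).map h)).trans (MorphismProperty.Over.w ((FEt.restrict i).map h')).symm

end Groth.Agent.Pi1Rig

end
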