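import Groth.Agent.H1EssEt.Unram
import Mathlib.RingTheory.Smooth.Fiber
import Mathlib.RingTheory.Etale.Locus

/-!
# Étaleness at primes
-/

set_option autoImplicit false
set_option linter.style.haveILetI false
set_option linter.unusedSectionVars false
universe u

open TensorProduct

noncomputable section

namespace Groth.Agent.Pi1Rig

/-- Unramified extensions of normal domains are étale. -/
theorem etaleAt_of_unramified (N E : Type u) [CommRing N] [IsDomain N] [IsIntegrallyClosed N] [IsNoetherianRing N]
    [CommRing E] [IsDomain E] [Algebra N E] [Algebra.FiniteType N E]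
    (hinj : Function.Injective (algebraMap N E)) (q : Ideal E) [q.IsPrime] [Algebra.IsUnramifiedAt N q] :
    Algebra.IsEtaleAt N q := by
  obtain ⟨f, hf, H⟩ := Algebra.exists_unramified_of_isUnramifiedAt (R := N) q
  haveI := H
  let S := Localization.Away f
  have hf0 : f ≠ 0 := fun h => hf (h ▸ q.zero_mem)
  haveI : IsDomain S := IsLocalization.isDomain_localization (powers_le_nonZeroDivisors_of_noZeroDivisors hf0)
  haveI : Algebra.FinitePresentation N E := Algebra.FinitePresentation.of_finiteType.mp inferInstance
  haveI : Algebra.FiniteType N S := Algebra.FiniteType.trans ‹Algebra.FiniteType N E› (IsLocalization.finiteType_of_monoid_fg (Submonoid.powers f) _)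
  haveI : Module.Flat N S := Module.flat_of_isLocalized_maximal (R := N) (M := S) S
    (fun P _ => Localization.AtPrime P) (fun P _ => (IsScalarTower.toAlgHom S S (Localization.AtPrime P)).toLinearMap)
    fun P _ => by
      haveI : IsDomain (Localization.AtPrime P) := IsLocalization.isDomain_localization P.primeCompl_le_nonZeroDivisors
      haveI : Algebra.FormallyUnramified S (Localization.AtPrime P) := Algebra.FormallyUnramified.of_isLocalization P.primeCompl
      haveI : Algebra.FormallyUnramified N (Localization.AtPrime P) := Algebra.FormallyUnramified.comp N S _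
      haveI : Algebra.EssFiniteType N (Localization.AtPrime P) := Algebra.EssFiniteType.comp N S _
      refine H1EssEt.flat_of_formallyUnramified_normal N (Localization.AtPrime P) ?_
      rw [IsScalarTower.algebraMap_eq N S (Localization.AtPrime P), IsScalarTower.algebraMap_eq N E S, RingHom.coe_comp,
        RingHom.coe_comp]
      exact (IsLocalization.injective _ P.primeCompl_le_nonZeroDivisors).comp
        ((IsLocalization.injective S (powers_le_nonZeroDivisors_of_noZeroDivisors hf0)).comp hinj)
  haveI : Algebra.FinitePresentation N S := Algebra.FinitePresentation.of_finiteType.mp inferInstance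
  haveI : Algebra.Etale N S := Algebra.Etale.of_formallyUnramified_of_flat
  change (⟨q, inferInstance⟩ : PrimeSpectrum E) ∈ Algebra.etaleLocus N E
  exact (Algebra.basicOpen_subset_etaleLocus_iff_etale (R := N) (f := f)).mpr inferInstance hf

attribute [local instance] Algebra.TensorProduct.rightAlgebra

/-- Étaleness at a prime is stable under base change. -/
theorem etaleAt_baseChange {A B : Type u} [CommRing A] [CommRing B] [Algebra A B] [Algebra.FinitePresentation A B]
    (A' : Type u) [CommRing A'] [Algebra A A'] (P : Ideal (A' ⊗[A] B)) [P.IsPrime]
    [Algebra.IsEtaleAt A (P.comap (Algebra.TensorProduct.includeRight (R := A) (A := A') (B := B)))] :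
    Algebra.IsEtaleAt A' P := by
  obtain ⟨f, hf, H⟩ := Algebra.exists_etale_of_isEtaleAt (R := A)
    (P.comap (Algebra.TensorProduct.includeRight (R := A) (A := A') (B := B)))
  haveI := H
  let T := A' ⊗[A] B
  let S := Localization.Away f
  let X := S ⊗[B] T
  letI : Algebra A' X := ((algebraMap T X).comp (algebraMap A' T)).toAlgebra
  haveI : IsScalarTower A' T X := IsScalarTower.of_algebraMap_eq fun _ => rfl
  haveI : IsScalarTower A T X := IsScalarTower.of_algebraMap_eq fun a => by
    rw [IsScalarTower.algebraMap_apply A B T, ← IsScalarTower.algebraMap_apply B T X]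
    exact IsScalarTower.algebraMap_apply A B X a
  haveI : IsScalarTower A A' X := IsScalarTower.of_algebraMap_eq fun a => by
    rw [IsScalarTower.algebraMap_apply A T X, IsScalarTower.algebraMap_apply A A' T]
    rfl
  haveI : Algebra.IsPushout A B A' T := Algebra.IsPushout.symm inferInstance
  haveI : Algebra.IsPushout A S A' X := (Algebra.IsPushout.comp_iff (R := A) (S := B) (R' := A') (S' := T) (T := S) (T' := X)).2 inferInstance
  haveI : Algebra.IsPushout A A' S X := Algebra.IsPushout.symm inferInstance
  haveI : Algebra.Etale A' X := Algebra.Etale.of_equiv (Algebra.IsPushout.equiv A A' S X)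
  let g : T := Algebra.TensorProduct.includeRight f
  haveI : IsLocalization.Away g X := by
    have := (inferInstance : IsLocalization (Algebra.algebraMapSubmonoid T (Submonoid.powers f)) X)
    rwa [Algebra.algebraMapSubmonoid_powers] at this
  haveI : Algebra.Etale A' (Localization.Away g) :=
    Algebra.Etale.of_equiv ((IsLocalization.algEquiv (Submonoid.powers g) X (Localization.Away g)).restrictScalars A')
  haveI : Algebra.FinitePresentation A' T := inferInstance
  change (⟨P, inferInstance⟩ : PrimeSpectrum T) ∈ Algebra.etaleLocus A' T
  exact (Algebra.basicOpen_subset_etaleLocus_iff_etale (R := A') (f := g)).mpr inferInstance hf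

end Groth.Agent.Pi1Rig

end
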