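import Groth.Agent.Pi1Alg.Descend
import Groth.Agent.H1N0.Basic

/-!
# Finite normal algebras over a pure normal local ring
-/

set_option autoImplicit false
set_option linter.style.haveILetI false
set_option linter.unusedSectionVars false
set_option backward.isDefEq.respectTransparency false
set_option backward.isDefEq.respectTransparency.types false
universe u

open CategoryTheory CategoryTheory.Limits AlgebraicGeometry IsLocalRing TensorProduct

noncomputable section

namespace Groth.Agent.Pi1Rig

open Groth.Agent Groth.Agent.Pi1Ext Groth.Agent.Pi1Ext.RegPurity Groth.Agent.Pi1Ext.PuritySch Groth.Agent.Pi1Alg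

variable {A : Type u} [CommRing A] [IsLocalRing A] [IsNoetherianRing A]

/-- Isomorphic covers of the punctured spectrum have isomorphic algebras away from any element of
the maximal ideal. -/
theorem exists_algEquiv_away {B C : Type u} [CommRing B] [Algebra A B] [CommRing C] [Algebra A C]
    {hB : FEt.prop (rest A B)} {hC : FEt.prop (rest A C)} (e : obj B hB ≅ obj C hC) {g : A}
    (hg : g ∈ maximalIdeal A) :
    Nonempty (Localization.Away g ⊗[A] B ≃ₐ[Localization.Away g] Localization.Away g ⊗[A] C) := by
  let Ag := Localization.Away g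
  have key : ∀ (R : Type u) [CommRing R] [Algebra A R],
      IsPullback (pullback.fst (rest A R) (ρ hg) ≫ pullback.fst (sp A R) (FEt.puncturedSpec A).ι)
        (pullback.snd (rest A R) (ρ hg)) (sp A R) (sp A Ag) := fun R _ _ => by
    have := (IsPullback.of_hasPullback (rest A R) (ρ hg)).paste_horiz
      (IsPullback.of_hasPullback (sp A R) (FEt.puncturedSpec A).ι)
    rwa [ρ_ι] at this
  let s : ∀ (R : Type u) [CommRing R] [Algebra A R],
      Spec (CommRingCat.of (Ag ⊗[A] R)) ≅ pullback (rest A R) (ρ hg) := fun R _ _ =>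
    (pullbackSpecIso' A Ag R).symm ≪≫ (key R).flip.isoPullback.symm
  have hs : ∀ (R : Type u) [CommRing R] [Algebra A R],
      (s R).hom ≫ pullback.snd (rest A R) (ρ hg) = sp Ag (Ag ⊗[A] R) := fun R _ _ => by
    rw [← (key R).flip.isoPullback_hom_fst]
    simp only [s, Iso.trans_hom, Iso.symm_hom, Category.assoc, Iso.inv_hom_id_assoc]
    exact (Iso.inv_comp_eq _).2 (pullbackSpecIso_hom_fst' A Ag R).symm
  let l : pullback (sp A B) (FEt.puncturedSpec A).ι ≅ pullback (sp A C) (FEt.puncturedSpec A).ι :=
    (MorphismProperty.Over.forget _ _ _ ⋙ Over.forget _).mapIso e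
  have hl : l.hom ≫ rest A C = rest A B := MorphismProperty.Over.w e.hom
  let m : pullback (rest A B) (ρ hg) ≅ pullback (rest A C) (ρ hg) :=
    asIso (pullback.map (rest A B) (ρ hg) (rest A C) (ρ hg) l.hom (𝟙 _) (𝟙 _)
      (by rw [Category.comp_id]; exact hl.symm) (by simp))
  have hm : m.hom ≫ pullback.snd (rest A C) (ρ hg) = pullback.snd (rest A B) (ρ hg) := by
    simp only [m, asIso_hom, pullback.lift_snd, Category.comp_id]
  let t : Spec (CommRingCat.of (Ag ⊗[A] B)) ≅ Spec (CommRingCat.of (Ag ⊗[A] C)) := s B ≪≫ m ≪≫ (s C).symm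
  have ht : t.hom ≫ sp Ag (Ag ⊗[A] C) = sp Ag (Ag ⊗[A] B) := by
    rw [← hs C, ← hs B]
    simp only [t, Iso.trans_hom, Iso.symm_hom, Category.assoc, Iso.inv_hom_id_assoc, hm]
  let φ : CommRingCat.of (Ag ⊗[A] C) ≅ CommRingCat.of (Ag ⊗[A] B) :=
    { hom := Spec.preimage t.hom
      inv := Spec.preimage t.inv
      hom_inv_id := Spec.map_injective (by rw [Spec.map_comp, Spec.map_preimage, Spec.map_preimage, t.inv_hom_id, Spec.map_id])
      inv_hom_id := Spec.map_injective (by rw [Spec.map_comp, Spec.map_preimage, Spec.map_preimage, t.hom_inv_id, Spec.map_id]) }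
  have hφ : CommRingCat.ofHom (algebraMap Ag (Ag ⊗[A] C)) ≫ φ.hom = CommRingCat.ofHom (algebraMap Ag (Ag ⊗[A] B)) :=
    Spec.map_injective (by rw [Spec.map_comp, Spec.map_preimage]; exact ht)
  exact ⟨(AlgEquiv.ofRingEquiv (f := φ.commRingCatIsoToRingEquiv)
    fun a => ConcreteCategory.congr_hom hφ a).symm⟩

/-- Over a pure normal local ring a finite normal algebra, étale off the closed point, is étale. -/
theorem etale_of_pure [IsDomain A] [IsIntegrallyClosed A] (hne : ¬ IsField A) (hP : FEt.PurityHolds A)
    (C : Type u) [CommRing C] [IsDomain C] [IsIntegrallyClosed C] [Algebra A C] [Module.Finite A C]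
    (hinj : Function.Injective (algebraMap A C)) (hC : EtOff A C) : Algebra.Etale A C := by
  obtain ⟨Y, ⟨eY⟩⟩ := hP.mem_essImage (obj C (prop_rest C hC))
  obtain ⟨B, _, _, hfin, het, ⟨eB⟩⟩ := exists_algebra_model Y
  haveI := hfin
  haveI := het
  have hB : FEt.prop (rest A B) := MorphismProperty.pullback_snd _ _ (fet_sp_iff.2 ⟨hfin, het⟩)
  let e : obj B hB ≅ obj C (prop_rest C hC) := (FEt.restrict (FEt.puncturedSpec A).ι).mapIso eB ≪≫ eY
  obtain ⟨g, hg, hg0⟩ := Submodule.exists_mem_ne_zero_of_ne_bot
    (fun h => hne (IsLocalRing.isField_iff_maximalIdeal_eq.2 h))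
  obtain ⟨θ⟩ := exists_algEquiv_away e hg
  let Ag := Localization.Away g
  let L := FractionRing C
  haveI : FaithfulSMul A C := (faithfulSMul_iff_algebraMap_injective A C).2 hinj
  have hgL : IsUnit (algebraMap A L g) := isUnit_iff_ne_zero.2 (by
    rw [IsScalarTower.algebraMap_apply A C L]
    exact (map_ne_zero_iff _ (IsFractionRing.injective C L)).2 ((map_ne_zero_iff _ hinj).2 hg0))
  let ψ : Ag →ₐ[A] L := IsLocalization.liftAlgHom (M := Submonoid.powers g) (S := Ag) (f := Algebra.ofId A L)
    (fun y => by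
      obtain ⟨_, n, rfl⟩ := y
      simpa using hgL.pow n)
  let T : Ag ⊗[A] C →ₐ[A] L := Algebra.TensorProduct.lift ψ (IsScalarTower.toAlgHom A C L) fun _ _ => Commute.all _ _
  have hspan : ∀ (R : Type u) [CommRing R] [Algebra A R] (z : Ag ⊗[A] R),
      ∃ (n : ℕ) (r : R), g ^ n • z = (1 : Ag) ⊗ₜ[A] r := fun R _ _ z => by
    induction z using TensorProduct.induction_on with
    | zero => exact ⟨0, 0, by simp⟩
    | tmul a r =>
      obtain ⟨⟨b, ⟨_, n, rfl⟩⟩, hb⟩ := IsLocalization.surj (Submonoid.powers g) a
      refine ⟨n, b • r, ?_⟩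
      rw [TensorProduct.smul_tmul', Algebra.smul_def, mul_comm, hb, Algebra.algebraMap_eq_smul_one,
        TensorProduct.smul_tmul]
    | add x y hx hy =>
      obtain ⟨n, r, hr⟩ := hx
      obtain ⟨m, s, hs⟩ := hy
      refine ⟨n + m, g ^ m • r + g ^ n • s, ?_⟩
      rw [TensorProduct.tmul_add, TensorProduct.tmul_smul, TensorProduct.tmul_smul, ← hr, ← hs, smul_add, pow_add,
        mul_smul, mul_smul, smul_comm (g ^ m)]
  have hgK : ∀ n, IsUnit (algebraMap A L g ^ n) := fun n => hgL.pow n
  have hT : Function.Injective T := by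
    refine (injective_iff_map_eq_zero T).2 fun z hz => ?_
    obtain ⟨n, c, hc⟩ := hspan C z
    have h1 : T ((1 : Ag) ⊗ₜ[A] c) = 0 := by rw [← hc, map_smul, hz, smul_zero]
    simp only [T, Algebra.TensorProduct.lift_tmul, map_one, one_mul] at h1
    have h2 : c = 0 := IsFractionRing.injective C L (h1.trans (map_zero _).symm)
    rw [h2, TensorProduct.tmul_zero] at hc
    have hu : IsUnit (algebraMap A (Ag ⊗[A] C) g) := by
      rw [IsScalarTower.algebraMap_apply A Ag (Ag ⊗[A] C)]
      exact (IsLocalization.Away.algebraMap_isUnit g).map _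
    have h3 : algebraMap A (Ag ⊗[A] C) (g ^ n) * z = 0 := (Algebra.smul_def (g ^ n) z).symm.trans hc
    rw [map_pow] at h3
    exact (hu.pow n).mul_right_eq_zero.1 h3
  have hι : Function.Injective (fun b : B => (1 : Ag) ⊗ₜ[A] b) :=
    Algebra.TensorProduct.includeRight_injective (IsLocalization.injective Ag (M := Submonoid.powers g)
      (powers_le_nonZeroDivisors_of_noZeroDivisors hg0))
  let ΨB : B →ₐ[A] L := T.comp ((θ.toAlgHom.restrictScalars A).comp Algebra.TensorProduct.includeRight)
  have hΨ : Function.Injective ΨB := fun x y h => hι (θ.injective (hT h))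
  have hmem : ∀ b, ∃ c, algebraMap C L c = ΨB b := fun b =>
    IsIntegrallyClosed.isIntegral_iff.1 (((Algebra.IsIntegral.isIntegral (R := A) b).map ΨB).tower_top (A := C))
  choose f hf using hmem
  let Φ : B →ₐ[A] C :=
    { toFun := f
      map_one' := IsFractionRing.injective C L (by rw [hf, map_one, map_one])
      map_mul' := fun x y => IsFractionRing.injective C L (by rw [hf, map_mul, map_mul, hf, hf])
      map_zero' := IsFractionRing.injective C L (by rw [hf, map_zero, map_zero])
      map_add' := fun x y => IsFractionRing.injective C L (by rw [hf, map_add, map_add, hf, hf])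
      commutes' := fun a => IsFractionRing.injective C L (by
        rw [hf, AlgHom.commutes, ← IsScalarTower.algebraMap_apply]) }
  have hΦ : Function.Injective Φ := fun x y h => hΨ (by
    rw [← hf x, ← hf y]
    exact congrArg (algebraMap C L) h)
  have haway : ∀ c : C, ∃ (n : ℕ) (b : B), g ^ n • c = Φ b := fun c => by
    obtain ⟨n, b, hb⟩ := hspan B (θ.symm ((1 : Ag) ⊗ₜ[A] c))
    refine ⟨n, b, IsFractionRing.injective C L ?_⟩
    show _ = algebraMap C L (f b)
    rw [hf]
    show algebraMap C L (g ^ n • c) = T ((θ.toAlgHom.restrictScalars A) ((1 : Ag) ⊗ₜ[A] b))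
    rw [← hb, map_smul (θ.toAlgHom.restrictScalars A), map_smul T]
    show _ = g ^ n • T (θ (θ.symm _))
    rw [θ.apply_symm_apply]
    simp [T, Algebra.smul_def, ← IsScalarTower.algebraMap_apply]
  haveI : IsDomain B := Function.Injective.isDomain Φ.toRingHom hΦ
  haveI : IsNoetherianRing B := IsNoetherianRing.of_finite A B
  haveI : IsIntegrallyClosed B := IsIntegrallyClosed.of_localization_maximal fun Q _ _ =>
    (H1N0.normal_of_etale (A := A) Q ⟨IsLocalization.isDomain_localization (Q.under A).primeCompl_le_nonZeroDivisors,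
      isIntegrallyClosed_of_isLocalization _ (Q.under A).primeCompl (Q.under A).primeCompl_le_nonZeroDivisors⟩).2
  have hsurj : Function.Surjective Φ := fun c => by
    letI : Algebra B C := Φ.toRingHom.toAlgebra
    haveI : IsScalarTower A B C := IsScalarTower.of_algebraMap_eq fun a => (Φ.commutes a).symm
    haveI : FaithfulSMul B C := (faithfulSMul_iff_algebraMap_injective B C).2 hΦ
    obtain ⟨n, b, hb⟩ := haway c
    let K := FractionRing B
    letI : Algebra K L := FractionRing.liftAlgebra B L
    let x : K := algebraMap B K b / algebraMap B K (algebraMap A B g ^ n)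
    have hne' : algebraMap A B g ^ n ≠ 0 := pow_ne_zero n fun h => hg0 (hinj (by
      rw [map_zero, ← Φ.commutes, h, map_zero]))
    have hx : algebraMap K L x = algebraMap C L c := by
      have h1 : algebraMap B L b = algebraMap B L (algebraMap A B g ^ n) * algebraMap C L c := by
        rw [IsScalarTower.algebraMap_apply B C L, IsScalarTower.algebraMap_apply B C L, ← map_mul]
        refine congrArg (algebraMap C L) ?_
        show Φ b = Φ (algebraMap A B g ^ n) * c
        rw [map_pow Φ, Φ.commutes, ← hb, Algebra.smul_def, map_pow]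
      rw [map_div₀, ← IsScalarTower.algebraMap_apply, ← IsScalarTower.algebraMap_apply, h1,
        mul_div_cancel_left₀]
      rw [IsScalarTower.algebraMap_apply B C L]
      exact (map_ne_zero_iff _ (IsFractionRing.injective C L)).2 ((map_ne_zero_iff _ hΦ).2 hne')
    have hint : IsIntegral B (algebraMap C L c) :=
      ((Algebra.IsIntegral.isIntegral (R := A) c).map (IsScalarTower.toAlgHom A C L)).tower_top
    rw [← hx] at hint
    obtain ⟨y, hy⟩ := IsIntegrallyClosed.isIntegral_iff.1
      ((isIntegral_algHom_iff (IsScalarTower.toAlgHom B K L) (algebraMap K L).injective).1 hint)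
    refine ⟨y, IsFractionRing.injective C L ?_⟩
    rw [← hx, ← hy, ← IsScalarTower.algebraMap_apply, IsScalarTower.algebraMap_apply B C L]
    rfl
  exact Algebra.Etale.of_equiv (AlgEquiv.ofBijective Φ ⟨hΦ, hsurj⟩)

end Groth.Agent.Pi1Rig

end
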