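import Groth.Agent.CplFib6.CplFinite
import Groth.Agent.CplFib6.Excellent
import Groth.Agent.FlatLoc6.GeomComp
import Groth.Agent.FlatLoc6.BaseChangeEss
import Groth.Agent.Pi1Rig.EtAtLib
import Groth.Agent.Pi1Rig.PureEtale
import Groth.Agent.CAlgMisc.TorsionFree

/-!
# Unramifiedness from purity of the completion
-/

set_option autoImplicit false
set_option linter.style.haveILetI false
set_option linter.unusedSectionVars false
universe u

open IsLocalRing TensorProduct

noncomputable section

namespace Groth.Agent.Pi1Rig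

open Groth.Agent Groth.Agent.CplFib6

section Abstract

attribute [local instance] Algebra.TensorProduct.rightAlgebra

variable (A B D : Type u) [CommRing A] [CommRing B] [CommRing D] [IsLocalRing A] [IsNoetherianRing A]
  [IsLocalRing D] [IsNoetherianRing D] [Algebra A B] [Module.Finite A B] [Algebra A D] [Algebra B D]
  [IsScalarTower A B D] [Module.Flat B D]

/-- If `D` is dense over the finite algebra `B`, it is a flat quotient of `B ⊗ Â`. -/
theorem exists_presentation [Algebra (EGA4.Cpl A) D] [IsScalarTower A (EGA4.Cpl A) D]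
    (hle : (maximalIdeal A).map (algebraMap A D) ≤ maximalIdeal D)
    (hdense : ∀ d : D, ∃ b : B, d - algebraMap B D b ∈ (maximalIdeal A).map (algebraMap A D)) :
    ∃ _ : Algebra (B ⊗[A] EGA4.Cpl A) D, IsScalarTower B (B ⊗[A] EGA4.Cpl A) D ∧
      Function.Surjective (algebraMap (B ⊗[A] EGA4.Cpl A) D) ∧ Module.Flat (B ⊗[A] EGA4.Cpl A) D ∧ Module.Finite (EGA4.Cpl A) D ∧
      ∀ c : EGA4.Cpl A, algebraMap (B ⊗[A] EGA4.Cpl A) D ((1 : B) ⊗ₜ[A] c) = algebraMap (EGA4.Cpl A) D c := by
  let T0 := EGA4.Cpl A
  let m := maximalIdeal A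
  haveI := FlatLoc6.isNoetherianRing_cpl A
  haveI := FlatLoc6.isLocalRing_cpl A
  haveI := isAdicComplete_cpl A
  have hmax : maximalIdeal T0 = m.map (algebraMap A T0) :=
    AdicCompletion.maximalIdeal_eq_map_of_fg (IsNoetherian.noetherian _)
  have ha : (maximalIdeal T0).map (algebraMap T0 D) = m.map (algebraMap A D) := by
    rw [hmax, Ideal.map_map, ← IsScalarTower.algebraMap_eq]
  let Φ : B ⊗[A] T0 →ₐ[A] D :=
    Algebra.TensorProduct.lift (IsScalarTower.toAlgHom A B D) (IsScalarTower.toAlgHom A T0 D)
      fun _ _ => Commute.all _ _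
  letI : Algebra (B ⊗[A] T0) D := Φ.toRingHom.toAlgebra
  haveI : IsScalarTower B (B ⊗[A] T0) D := IsScalarTower.of_algebraMap_eq fun b => by
    show _ = Φ (b ⊗ₜ[A] 1)
    simp [Φ]
  -- finiteness
  let a := (maximalIdeal T0).map (algebraMap T0 D)
  let f : B →ₗ[A] D ⧸ a := (Ideal.Quotient.mkₐ A a).toLinearMap ∘ₗ (IsScalarTower.toAlgHom A B D).toLinearMap
  haveI : Module.Finite A (D ⧸ a) := Module.Finite.of_surjective f fun y => by
    obtain ⟨d, rfl⟩ := Ideal.Quotient.mk_surjective y
    obtain ⟨b, hb⟩ := hdense d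
    refine ⟨b, (Ideal.Quotient.eq.mpr ?_).symm⟩
    show d - algebraMap B D b ∈ (maximalIdeal T0).map (algebraMap T0 D)
    rw [ha]
    exact hb
  haveI : Module.Finite T0 (D ⧸ a) := Module.Finite.of_restrictScalars_finite A T0 _
  haveI : Module.Finite T0 D := RingHom.finite_algebraMap.1
    (CohenLib.finite_of_complete (algebraMap T0 D) (maximalIdeal T0) (ha.le.trans hle)
      (RingHom.finite_algebraMap.2 (inferInstance : Module.Finite T0 (D ⧸ a))))
  -- surjectivity
  have hsurj : Function.Surjective (algebraMap (B ⊗[A] T0) D) := by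
    let M : Submodule T0 D := Submodule.span T0 (Set.range (algebraMap B D))
    have hM : ⊤ ≤ M := by
      refine Submodule.le_of_le_smul_of_le_jacobson_bot Module.Finite.fg_top
        (maximalIdeal_le_jacobson (⊥ : Ideal T0)) fun d _ => ?_
      obtain ⟨b, hb⟩ := hdense d
      refine Submodule.mem_sup.mpr ⟨_, Submodule.subset_span ⟨b, rfl⟩, d - algebraMap B D b, ?_, add_sub_cancel _ _⟩
      rw [Ideal.smul_top_eq_map, Submodule.restrictScalars_mem, ha]
      exact hb
    intro d
    induction hM (Submodule.mem_top : d ∈ ⊤) using Submodule.span_induction with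
    | mem y hy =>
      obtain ⟨b, rfl⟩ := hy
      exact ⟨algebraMap B _ b, (IsScalarTower.algebraMap_apply _ _ _ _).symm⟩
    | zero => exact ⟨0, map_zero _⟩
    | add y z _ _ hy hz =>
      obtain ⟨y', rfl⟩ := hy
      obtain ⟨z', rfl⟩ := hz
      exact ⟨y' + z', map_add _ _ _⟩
    | smul c y _ hy =>
      obtain ⟨y', rfl⟩ := hy
      refine ⟨(1 : B) ⊗ₜ[A] c * y', ?_⟩
      rw [map_mul, Algebra.smul_def]
      congr 1
      show Φ ((1 : B) ⊗ₜ[A] c) = _
      simp [Φ]
  -- flatness
  haveI : IsNoetherianRing (B ⊗[A] T0) := by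
    haveI : IsNoetherianRing (T0 ⊗[A] B) := IsNoetherianRing.of_finite T0 _
    exact isNoetherianRing_of_ringEquiv _ (Algebra.TensorProduct.comm A T0 B).toRingEquiv
  refine ⟨inferInstance, inferInstance, hsurj, ?_, inferInstance, fun c => by show Φ ((1 : B) ⊗ₜ[A] c) = _; simp [Φ]; rfl⟩
  refine FlatLoc6.flat_of_dense (A := B) (m.map (algebraMap A B)) (fun n r => ?_) ?_
  · have hJ : ((m.map (algebraMap A B)) ^ n).map (algebraMap B (B ⊗[A] T0)) =
        (m ^ n).map (algebraMap A (B ⊗[A] T0)) := by
      rw [← Ideal.map_pow, Ideal.map_map, ← IsScalarTower.algebraMap_eq]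
    rw [hJ]
    induction r using TensorProduct.induction_on with
    | zero => exact ⟨0, by simp⟩
    | tmul b x =>
      obtain ⟨c, hc⟩ := exists_sub_mem_pow A n x
      refine ⟨c • b, ?_⟩
      have h1 : b ⊗ₜ[A] x - algebraMap B (B ⊗[A] T0) (c • b) =
          (b ⊗ₜ[A] (1 : T0)) *
            (Algebra.TensorProduct.includeRight (R := A) (A := B) (x - algebraMap A T0 c)) := by
        rw [Algebra.TensorProduct.includeRight_apply, Algebra.TensorProduct.tmul_mul_tmul, mul_one, one_mul,
          tmul_sub, Algebra.algebraMap_eq_smul_one c, ← smul_tmul]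
        rfl
      rw [h1]
      refine Ideal.mul_mem_left _ _ ?_
      have h2 := Ideal.mem_map_of_mem
        (Algebra.TensorProduct.includeRight (R := A) (A := B) (B := T0)).toRingHom hc
      rw [Ideal.map_map, show (Algebra.TensorProduct.includeRight (R := A) (A := B) (B := T0)).toRingHom.comp
        (algebraMap A T0) = algebraMap A (B ⊗[A] T0) from
        (Algebra.TensorProduct.includeRight (R := A) (A := B) (B := T0)).comp_algebraMap] at h2
      exact h2
    | add y z hy hz =>
      obtain ⟨b, hb⟩ := hy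
      obtain ⟨c, hc⟩ := hz
      refine ⟨b + c, ?_⟩
      rw [map_add, add_sub_add_comm]
      exact add_mem hb hc
  · rw [Ideal.map_map, ← IsScalarTower.algebraMap_eq]
    exact hle.trans (maximalIdeal_le_jacobson _)

end Abstract

/-- The completion of an excellent normal local ring is a normal domain. -/
theorem normal_cpl (R : Type u) [CommRing R] [IsLocalRing R] [IsNoetherianRing R] [IsDomain R]
    [IsIntegrallyClosed R] (h : CAlg.IsRegularHom R (EGA4.Cpl R)) :
    IsDomain (EGA4.Cpl R) ∧ IsIntegrallyClosed (EGA4.Cpl R) := by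
  haveI := FlatLoc6.isNoetherianRing_cpl R
  haveI := FlatLoc6.isLocalRing_cpl R
  have hn := FlatLoc6.normal_of_isNormalHom _ _ (FlatLoc6.isNormalHom_of_isRegularHom _ _ h)
    (fun q _ => ⟨IsLocalization.isDomain_localization q.primeCompl_le_nonZeroDivisors,
      isIntegrallyClosed_of_isLocalization _ q.primeCompl q.primeCompl_le_nonZeroDivisors⟩)
  obtain ⟨h1, h2⟩ := hn (maximalIdeal (EGA4.Cpl R))
  haveI := h1
  haveI := h2
  let e : EGA4.Cpl R ≃+* Localization.AtPrime (maximalIdeal (EGA4.Cpl R)) :=
    (IsLocalization.atUnits (EGA4.Cpl R) (maximalIdeal (EGA4.Cpl R)).primeCompl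
      fun a ha => IsLocalRing.notMem_maximalIdeal.1 ha).toRingEquiv
  exact ⟨e.injective.isDomain e.toRingHom, IsIntegrallyClosed.of_equiv e.symm⟩

/-- The completion map is bijective on residue fields. -/
theorem residueField_bijective (R : Type u) [CommRing R] [IsLocalRing R] [IsNoetherianRing R]
    [IsLocalRing (EGA4.Cpl R)] [IsLocalHom (algebraMap R (EGA4.Cpl R))] :
    Function.Bijective (ResidueField.map (algebraMap R (EGA4.Cpl R))) := by
  refine ⟨RingHom.injective _, fun x => ?_⟩
  obtain ⟨y, rfl⟩ := residue_surjective x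
  obtain ⟨a, ha⟩ := exists_sub_mem_pow R 1 y
  refine ⟨residue R a, ?_⟩
  rw [ResidueField.map_residue, eq_comm, ← sub_eq_zero, ← map_sub, residue_eq_zero_iff,
    AdicCompletion.maximalIdeal_eq_map_of_fg (IsNoetherian.noetherian (maximalIdeal R))]
  simpa using ha

variable {A B : Type u} [CommRing A] [IsDomain A] [IsIntegrallyClosed A] [IsLocalRing A] [IsNoetherianRing A]
  [CommRing B] [IsDomain B] [IsIntegrallyClosed B] [Algebra A B] [Module.Finite A B]

/-- A prime over the closed point is unramified if the completion is pure and the smaller primes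
are unramified. -/
theorem unramified_of_pure (hA : CAlg.IsRegularHom A (EGA4.Cpl A)) (hB : CAlg.IsGRing B)
    [IsLocalRing (EGA4.Cpl A)] (hne : ¬ IsField (EGA4.Cpl A)) (hP : FEt.PurityHolds (EGA4.Cpl A))
    (hinj : Function.Injective (algebraMap A B)) (q : Ideal B) [q.IsPrime]
    (hq : q.comap (algebraMap A B) = maximalIdeal A)
    (hlow : ∀ (q' : Ideal B) [q'.IsPrime], q' < q → Algebra.IsUnramifiedAt A q') :
    Algebra.IsUnramifiedAt A q := by
  haveI : IsNoetherianRing B := IsNoetherianRing.of_finite A B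
  haveI : Algebra.FinitePresentation A B := Algebra.FinitePresentation.of_finiteType.mp inferInstance
  haveI : FaithfulSMul A B := (faithfulSMul_iff_algebraMap_injective A B).2 hinj
  let Bq := Localization.AtPrime q
  haveI : IsNoetherianRing Bq := IsLocalization.isNoetherianRing q.primeCompl _ inferInstance
  haveI : IsDomain Bq := IsLocalization.isDomain_localization q.primeCompl_le_nonZeroDivisors
  haveI : IsIntegrallyClosed Bq := isIntegrallyClosed_of_isLocalization _ q.primeCompl q.primeCompl_le_nonZeroDivisors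
  haveI hloc : IsLocalHom (algebraMap A Bq) := ⟨fun a ha => by
    by_contra hna
    rw [IsScalarTower.algebraMap_apply A B Bq] at ha
    refine (IsLocalization.AtPrime.isUnit_to_map_iff Bq q _).1 ha ?_
    show a ∈ q.comap (algebraMap A B)
    rw [hq]
    exact hna⟩
  let D := EGA4.Cpl Bq
  let T0 := EGA4.Cpl A
  haveI := FlatLoc6.isNoetherianRing_cpl A
  haveI : IsLocalRing D := FlatLoc6.isLocalRing_cpl Bq
  haveI : IsNoetherianRing D := FlatLoc6.isNoetherianRing_cpl Bq
  haveI := FlatLoc6.faithfullyFlat_cpl Bq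
  obtain ⟨hT0d, hT0n⟩ := normal_cpl A hA
  obtain ⟨hDd, hDn⟩ := normal_cpl Bq (hB.2 q)
  haveI := hT0d
  haveI := hT0n
  haveI := hDd
  haveI := hDn
  haveI : IsScalarTower A B D := IsScalarTower.of_algebraMap_eq fun a => by
    rw [IsScalarTower.algebraMap_apply A Bq D, IsScalarTower.algebraMap_apply A B Bq,
      ← IsScalarTower.algebraMap_apply B Bq D]
  haveI : Module.Flat B D := Module.Flat.trans B Bq D
  obtain ⟨_, _⟩ := exists_cplMap A Bq
  haveI : IsScalarTower A T0 D := ‹IsScalarTower A (EGA4.Cpl A) (EGA4.Cpl Bq)›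
  have hmD : maximalIdeal D = (maximalIdeal Bq).map (algebraMap Bq D) :=
    AdicCompletion.maximalIdeal_eq_map_of_fg (IsNoetherian.noetherian _)
  have hle : (maximalIdeal A).map (algebraMap A D) ≤ maximalIdeal D := by
    rw [IsScalarTower.algebraMap_eq A Bq D, ← Ideal.map_map, hmD]
    exact Ideal.map_mono (((local_hom_TFAE (algebraMap A Bq)).out 0 2).mp hloc)
  obtain ⟨N, hN⟩ := Ideal.exists_pow_le_of_le_radical_of_fg
    ((le_radical_map_atPrime (C := A) q).trans_eq (by rw [hq])) (IsNoetherian.noetherian _)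
  have hdense : ∀ d : D, ∃ b : B, d - algebraMap B D b ∈ (maximalIdeal A).map (algebraMap A D) := fun d => by
    obtain ⟨z, hz⟩ := exists_sub_mem_pow Bq N d
    obtain ⟨b, hb⟩ := exists_dense_atPrime (A := A) (Bp := Bq) q.primeCompl z
    refine ⟨b, ?_⟩
    have hb' := Ideal.mem_map_of_mem (algebraMap Bq D) hb
    rw [Ideal.map_map, ← IsScalarTower.algebraMap_eq, map_sub, ← IsScalarTower.algebraMap_apply] at hb'
    have hz' : d - algebraMap Bq D z ∈ (maximalIdeal A).map (algebraMap A D) := by
      rw [IsScalarTower.algebraMap_eq A Bq D, ← Ideal.map_map]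
      exact Ideal.map_mono hN hz
    simpa using add_mem hz' hb'
  obtain ⟨i, ht, hsurj, hflat, hfin, hcompat⟩ := exists_presentation A B D hle hdense
  haveI := hfin
  let T := T0 ⊗[A] B
  let Φ : T →+* D := (algebraMap (B ⊗[A] T0) D).comp (Algebra.TensorProduct.comm A T0 B).toRingEquiv.toRingHom
  letI : Algebra T D := Φ.toAlgebra
  haveI : Module.Flat T D := RingHom.flat_algebraMap_iff.1
    (RingHom.Flat.comp (RingHom.Flat.of_bijective (Algebra.TensorProduct.comm A T0 B).bijective)
      (RingHom.flat_algebraMap_iff.2 hflat))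
  haveI : IsScalarTower T0 T D := IsScalarTower.of_algebraMap_eq (R := T0) (S := T) (A := D) fun c => by
    show _ = algebraMap (B ⊗[A] T0) D (Algebra.TensorProduct.comm A T0 B (c ⊗ₜ 1))
    rw [Algebra.TensorProduct.comm_tmul]
    exact (hcompat c).symm
  have hsurjT : Function.Surjective (algebraMap T D) :=
    hsurj.comp (Algebra.TensorProduct.comm A T0 B).surjective
  have hBT : ∀ b, algebraMap T D (Algebra.TensorProduct.includeRight b) = algebraMap B D b := fun b => by
    show algebraMap (B ⊗[A] T0) D (Algebra.TensorProduct.comm A T0 B (1 ⊗ₜ b)) = _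
    rw [Algebra.TensorProduct.comm_tmul]
    exact (IsScalarTower.algebraMap_apply B (B ⊗[A] T0) D b).symm
  haveI : IsNoetherianRing T := IsNoetherianRing.of_finite T0 T
  haveI : Algebra.FinitePresentation T D := Algebra.FinitePresentation.of_finiteType.mp
    (Algebra.FiniteType.of_surjective (Algebra.ofId T D) hsurjT)
  haveI : Algebra.FormallyUnramified T D := Algebra.FormallyUnramified.of_surjective (Algebra.ofId T D) hsurjT
  haveI : Algebra.Etale T D := Algebra.Etale.of_formallyUnramified_of_flat
  haveI : Algebra.FinitePresentation T0 D := Algebra.FinitePresentation.of_finiteType.mp inferInstance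
  have hinjD : Function.Injective (algebraMap T0 D) := by
    haveI : Module.IsTorsionFree A B := Module.isTorsionFree_iff_algebraMap_injective.2 hinj
    obtain ⟨n, f, hf⟩ := CAlgMisc.exists_injective_free A B
    haveI := FlatLoc6.faithfullyFlat_cpl A
    let F : T →ₗ[T0] Fin n → T0 := (TensorProduct.piScalarRight A T0 T0 (Fin n)).toLinearMap ∘ₗ f.baseChange T0
    have hF : Function.Injective F := (TensorProduct.piScalarRight A T0 T0 (Fin n)).injective.comp
      (Module.Flat.lTensor_preserves_injective_linearMap f hf)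
    refine (injective_iff_map_eq_zero _).2 fun c hc => by_contra fun hc0 => ?_
    have hreg : IsSMulRegular T (algebraMap T0 T c) := fun x y h => hF <| funext fun i => by
      have h' : F (c • x) = F (c • y) := congrArg F ((algebraMap_smul T c x).symm.trans (h.trans (algebraMap_smul T c y)))
      rw [map_smul, map_smul] at h'
      exact mul_left_cancel₀ hc0 (congrFun h' i)
    have h1 := (hreg.of_flat (S := D)).eq_iff.1 (show algebraMap T D (algebraMap T0 T c) • (1 : D) = algebraMap T D (algebraMap T0 T c) • (0 : D) by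
      rw [← IsScalarTower.algebraMap_apply, hc, zero_smul, zero_smul])
    exact one_ne_zero h1
  have hoff : Pi1Ext.RegPurity.EtOff T0 D := fun g hg => by
    unfold Pi1Ext.RegPurity.EtAway
    rw [← Algebra.basicOpen_subset_etaleLocus_iff_etale]
    intro p hp
    let P : Ideal T := p.asIdeal.comap (algebraMap T D)
    let q' : Ideal B := P.comap (Algebra.TensorProduct.includeRight (R := A) (A := T0) (B := B))
    have hq' : q' = p.asIdeal.comap (algebraMap B D) := by
      ext b
      show algebraMap T D (Algebra.TensorProduct.includeRight b) ∈ p.asIdeal ↔ _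
      rw [hBT]
      rfl
    have hpne : p.asIdeal ≠ maximalIdeal D := fun h => hp (by
      show algebraMap T0 D g ∈ p.asIdeal
      rw [h]
      have := Ideal.mem_map_of_mem (algebraMap T0 D) hg
      rw [AdicCompletion.maximalIdeal_eq_map_of_fg (IsNoetherian.noetherian (maximalIdeal A)), Ideal.map_map,
        ← IsScalarTower.algebraMap_eq] at this
      exact hle this)
    have hle' : q' ≤ q := by
      rw [hq', IsScalarTower.algebraMap_eq B Bq D, ← Ideal.comap_comap]
      exact (Ideal.comap_mono (le_maximalIdeal (Ideal.IsPrime.ne_top inferInstance))).trans_eq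
        (Localization.AtPrime.under_maximalIdeal (I := q))
    have hlt : q' < q := lt_of_le_of_ne hle' fun h => hpne <| le_antisymm (le_maximalIdeal p.2.ne_top) (by
      refine hmD.le.trans ?_
      have e : maximalIdeal Bq = q.map (algebraMap B Bq) := Localization.AtPrime.map_eq_maximalIdeal.symm
      refine (Ideal.map_mono e.le).trans ?_
      rw [Ideal.map_map, ← IsScalarTower.algebraMap_eq, Ideal.map_le_iff_le_comap, ← hq']
      exact h.ge)
    haveI : q'.IsPrime := inferInstance
    haveI := hlow q' hlt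
    haveI := etaleAt_of_unramified A B hinj q'
    haveI : Algebra.IsEtaleAt T0 P := etaleAt_baseChange T0 P
    haveI : Algebra.IsEtaleAt T p.asIdeal :=
      Set.eq_univ_iff_forall.1 (Algebra.etaleLocus_eq_univ_iff_etale.2 inferInstance) p
    haveI : p.asIdeal.LiesOver P := ⟨rfl⟩
    exact Algebra.IsEtaleAt.comp P p.asIdeal
  haveI := etale_of_pure hne hP D hinjD hoff
  haveI : IsLocalHom (algebraMap T0 D) := ((local_hom_TFAE (algebraMap T0 D)).out 0 2).mpr (by
    rw [AdicCompletion.maximalIdeal_eq_map_of_fg (IsNoetherian.noetherian (maximalIdeal A)), Ideal.map_map,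
      ← IsScalarTower.algebraMap_eq]
    exact hle)
  have hmap : (maximalIdeal T0).map (algebraMap T0 D) = maximalIdeal D :=
    Algebra.FormallyUnramified.map_maximalIdeal
  haveI : Algebra.IsSeparable (ResidueField T0) (ResidueField D) := inferInstance
  haveI : IsLocalHom (algebraMap A T0) := ((local_hom_TFAE (algebraMap A T0)).out 0 2).mpr
    (AdicCompletion.maximalIdeal_eq_map_of_fg (IsNoetherian.noetherian _)).ge
  haveI : IsLocalHom (algebraMap Bq D) := ((local_hom_TFAE (algebraMap Bq D)).out 0 2).mpr hmD.ge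
  let e₁ := RingEquiv.ofBijective _ (residueField_bijective A)
  let e₂ := RingEquiv.ofBijective _ (residueField_bijective Bq)
  haveI : Algebra.EssFiniteType A Bq := Algebra.EssFiniteType.comp A B Bq
  refine (Algebra.FormallyUnramified.iff_map_maximalIdeal_eq (R := A) (S := Bq)).2 ⟨?_, ?_⟩
  · refine Algebra.IsSeparable.of_equiv_equiv e₁.symm e₂.symm ?_
    refine RingHom.ext fun x => e₂.injective ?_
    obtain ⟨a, ha⟩ := residue_surjective (e₁.symm x)
    show e₂ (algebraMap (ResidueField A) (ResidueField Bq) (e₁.symm x)) = e₂ (e₂.symm (algebraMap _ _ x))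
    rw [e₂.apply_symm_apply, ← ha]
    have hx : x = e₁ (residue A a) := by rw [ha, e₁.apply_symm_apply]
    rw [hx]
    show residue D (algebraMap Bq D (algebraMap A Bq a)) = residue D (algebraMap T0 D (algebraMap A T0 a))
    rw [← IsScalarTower.algebraMap_apply, ← IsScalarTower.algebraMap_apply]
  · apply le_antisymm (((local_hom_TFAE (algebraMap A Bq)).out 0 2).mp hloc)
    intro z hz
    have h2 : algebraMap Bq D z ∈ maximalIdeal D := hmD.ge (Ideal.mem_map_of_mem _ hz)
    rw [← hmap, AdicCompletion.maximalIdeal_eq_map_of_fg (IsNoetherian.noetherian (maximalIdeal A)), Ideal.map_map,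
      ← IsScalarTower.algebraMap_eq, IsScalarTower.algebraMap_eq A Bq D, ← Ideal.map_map, ← Ideal.mem_comap,
      Ideal.comap_map_eq_self_of_faithfullyFlat] at h2
    exact h2

end Groth.Agent.Pi1Rig

end
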