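import Groth.Agent.S1711
import Groth.Agent.S1721
import Groth.Agent.FlatLoc6.EquidimCat
import Groth.Agent.Alg6.LocLoc
import Groth.Prelude.Def_Pi1
import Mathlib.Algebra.Homology.LocalCohomology
import Mathlib.RingTheory.Ideal.Height

/-!
# Annihilation of low local cohomology by a power of `f`
-/

set_option autoImplicit false
set_option linter.unusedSectionVars false
set_option linter.style.haveILetI false
set_option backward.isDefEq.respectTransparency false
universe u

open CategoryTheory CategoryTheory.Limits IsLocalRing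

noncomputable section

namespace Groth.Agent.Pi1Rig

variable {A : Type u} [CommRing A] [IsLocalRing A] [IsNoetherianRing A]

theorem zeroLocus_subset_iff (J : Ideal A) :
    PrimeSpectrum.zeroLocus (J : Set A) ⊆ {IsLocalRing.closedPoint A} ↔ maximalIdeal A ≤ J.radical := by
  constructor
  · intro h
    rw [Ideal.radical_eq_sInf]
    refine le_sInf fun P ⟨hJ, hP⟩ => ?_
    exact (congrArg PrimeSpectrum.asIdeal (h (show (⟨P, hP⟩ : PrimeSpectrum A) ∈ _ from hJ))).ge
  · intro h p hp
    refine PrimeSpectrum.ext ((maximalIdeal.isMaximal A).eq_of_le p.2.ne_top ?_).symm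
    exact h.trans ((Ideal.radical_mono hp).trans p.2.radical.le)

/-- Local cohomology at the closed point. -/
theorem nonempty_HT_iso (i : ℕ) :
    Nonempty (localCohomology (maximalIdeal A) i ≅
      localCohomology.ofDiagram.{u, u} (Dual2.idealsInDiagram ({IsLocalRing.closedPoint A} : Set (PrimeSpectrum A))) i) := by
  let T : Set (PrimeSpectrum A) := {IsLocalRing.closedPoint A}
  let F : localCohomology.SelfLERadical (maximalIdeal A) ⥤ Dual2.IdealsIn T :=
    ObjectProperty.ιOfLE fun J hJ => (zeroLocus_subset_iff J).2 hJ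
  let G : Dual2.IdealsIn T ⥤ localCohomology.SelfLERadical (maximalIdeal A) :=
    ObjectProperty.ιOfLE fun J hJ => (zeroLocus_subset_iff J).1 hJ
  haveI : F.IsEquivalence := (CategoryTheory.Equivalence.mk F G (Iso.refl _) (Iso.refl _)).isEquivalence_functor
  exact ⟨(localCohomology.isoSelfLERadical (maximalIdeal A) i).symm ≪≫
    (localCohomology.isoOfFinal.{u, u, u} F (Dual2.idealsInDiagram T) i)⟩

theorem two_lt_depth_add_dim_of_S2 (hA : ∃ ω : Dual.D A, Dual.IsDualizing A ω) {f : A} (hf : f ∈ maximalIdeal A)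
    (hS : LocCoh.HasSk 2 (Localization.Away f) (Localization.Away f))
    (hdim : ∀ p : Ideal A, p ∈ minimalPrimes A → f ∉ p → (3 : WithBot ℕ∞) ≤ ringKrullDim (A ⧸ p))
    (p : Ideal A) [p.IsPrime] (hfp : f ∉ p) :
    (2 : WithBot ℕ∞) <
      (LocCoh.depth (Localization.AtPrime p) (Localization.AtPrime p) : WithBot ℕ∞) + ringKrullDim (A ⧸ p) := by
  let Af := Localization.Away f
  let Ap := Localization.AtPrime p
  have hdisj : Disjoint (Submonoid.powers f : Set A) p := by
    rw [Set.disjoint_left]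
    rintro _ ⟨n, rfl⟩ h
    exact hfp (Ideal.IsPrime.mem_of_pow_mem ‹_› n h)
  let P := p.map (algebraMap A Af)
  haveI hP : P.IsPrime := IsLocalization.isPrime_of_isPrime_disjoint (Submonoid.powers f) Af p ‹_› hdisj
  have hPc : P.comap (algebraMap A Af) = p :=
    IsLocalization.comap_map_of_isPrime_disjoint (Submonoid.powers f) Af ‹_› hdisj
  haveI : IsLocalization.AtPrime (Localization.AtPrime P) p := by
    have := IsLocalization.isLocalization_isLocalization_atPrime_isLocalization (Submonoid.powers f)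
      (T := Localization.AtPrime P) P
    exact (congrArg (fun q : {q : Ideal A // q.IsPrime} => haveI := q.2; IsLocalization.AtPrime (Localization.AtPrime P) q.1)
      (Subtype.ext hPc : (⟨P.comap (algebraMap A Af), inferInstance⟩ : {q : Ideal A // q.IsPrime}) = ⟨p, inferInstance⟩)).mp this
  let e : Localization.AtPrime P ≃ₐ[A] Ap := IsLocalization.algEquiv p.primeCompl _ _
  let l : Localization.AtPrime P ≃ₗ[Localization.AtPrime P] LocalizedModule P.primeCompl Af :=
    (IsLocalizedModule.linearEquiv P.primeCompl (Algebra.linearMap Af (Localization.AtPrime P))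
      (LocalizedModule.mkLinearMap P.primeCompl Af)).extendScalarsOfIsLocalization P.primeCompl _
  have h := hS P
  rw [← Module.supportDim_eq_of_equiv l, Module.supportDim_self_eq_ringKrullDim,
    ringKrullDim_eq_of_ringEquiv e.toRingEquiv] at h
  have hd : LocCoh.depth (Localization.AtPrime P) (LocalizedModule P.primeCompl Af) = LocCoh.depth Ap Ap :=
    (Alg6.depth_eq_of_semilinear (RingHom.id _) Function.surjective_id l.symm.toAddEquiv fun r x => map_smul l.symm r x).trans
      (Alg6.depth_eq_of_semilinear e.toRingEquiv.toRingHom e.surjective e.toRingEquiv.toAddEquiv fun r x => map_mul e r x)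
  rw [hd] at h
  have hht : ringKrullDim Ap = ((p.height : ℕ∞) : WithBot ℕ∞) := IsLocalization.AtPrime.ringKrullDim_eq_height p Ap
  rw [hht] at h
  have hne : p ≠ maximalIdeal A := fun e => hfp (e ▸ hf)
  have h1 : (1 : WithBot ℕ∞) ≤ ringKrullDim (A ⧸ p) := by
    haveI : IsDomain (A ⧸ p) := Ideal.Quotient.isDomain p
    by_contra hlt
    have : ringKrullDim (A ⧸ p) ≤ 0 := by
      rcases eq_or_ne (ringKrullDim (A ⧸ p)) ⊥ with hb | hb
      · exact hb ▸ bot_le
      obtain ⟨d, hd'⟩ := WithBot.ne_bot_iff_exists.1 hb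
      rw [← hd'] at hlt ⊢
      exact WithBot.coe_le_coe.2 (ENat.lt_one_iff_eq_zero.1 (not_le.1 fun h' => hlt (WithBot.coe_le_coe.2 h'))).le
    haveI : Ring.KrullDimLE 0 (A ⧸ p) := Ring.krullDimLE_iff.2 this
    exact hne ((IsLocalRing.eq_maximalIdeal (Ideal.Quotient.maximal_of_isField p
      (Ring.KrullDimLE.isField_of_isReduced (R := A ⧸ p)))))
  rcases le_or_gt 2 (p.height : ℕ∞) with h2 | h2
  · have h3 : ((2 : ℕ) : WithBot ℕ∞) ≤ (LocCoh.depth Ap Ap : WithBot ℕ∞) :=
      le_trans (le_min le_rfl (WithBot.coe_le_coe.2 h2)) h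
    calc (2 : WithBot ℕ∞) < 2 + 1 := by norm_num
      _ ≤ _ := add_le_add h3 h1
  · -- height at most one
    obtain ⟨q, hq, hqp⟩ := Ideal.exists_minimalPrimes_le (bot_le : (⊥ : Ideal A) ≤ p)
    haveI : q.IsPrime := hq.1.1
    have h3 := hdim q hq fun hfq => hfp (hqp hfq)
    haveI : IsDomain (A ⧸ q) := Ideal.Quotient.isDomain q
    haveI : IsLocalRing (A ⧸ q) := IsLocalRing.of_surjective' (Ideal.Quotient.mk q) Ideal.Quotient.mk_surjective
    obtain ⟨ω, hω⟩ := hA
    have hcat : CAlg.IsCatenary (A ⧸ q) := (S1721.result A ω hω).2 (A ⧸ q) inferInstance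
    have heq : EGA4.IsEquidim (A ⧸ q) := fun r hr => by
      rw [IsDomain.minimalPrimes_eq_singleton_bot, Set.mem_singleton_iff] at hr
      subst hr
      exact ringKrullDim_eq_of_ringEquiv (RingEquiv.quotientBot _)
    haveI : (p.map (Ideal.Quotient.mk q)).IsPrime :=
      Ideal.map_isPrime_of_surjective Ideal.Quotient.mk_surjective (Ideal.mk_ker.le.trans hqp)
    have hsum := FlatLoc6.height_add_ringKrullDim_quotient heq hcat (p.map (Ideal.Quotient.mk q))
    rw [ringKrullDim_eq_of_ringEquiv (DoubleQuot.quotQuotEquivQuotOfLE hqp)] at hsum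
    have hle : (p.map (Ideal.Quotient.mk q)).height ≤ p.height := by
      let P₁ : PrimeSpectrum (A ⧸ q) := ⟨p.map (Ideal.Quotient.mk q), inferInstance⟩
      have hP₁ : PrimeSpectrum.comap (Ideal.Quotient.mk q) P₁ = ⟨p, ‹_›⟩ := PrimeSpectrum.ext (by
        show (p.map (Ideal.Quotient.mk q)).comap _ = p
        rw [Ideal.comap_map_of_surjective' _ Ideal.Quotient.mk_surjective, Ideal.mk_ker, sup_eq_left.2 hqp])
      show (P₁.asIdeal).height ≤ (⟨p, ‹_›⟩ : PrimeSpectrum A).asIdeal.height
      rw [P₁.height_eq_orderHeight, PrimeSpectrum.height_eq_orderHeight, ← hP₁]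
      exact Order.height_le_height_apply_of_strictMono (PrimeSpectrum.comap (Ideal.Quotient.mk q)) (fun a b hab => lt_of_le_of_ne (Ideal.comap_mono hab.le)
        fun h => hab.ne (PrimeSpectrum.comap_injective_of_surjective _ Ideal.Quotient.mk_surjective h)) P₁
    have hp1 : p.height ≤ 1 := by
      rwa [show (2 : ℕ∞) = 1 + 1 from rfl, ENat.lt_add_one_iff ENat.one_ne_top] at h2
    have h4 : (3 : WithBot ℕ∞) ≤ ((p.height : ℕ∞) : WithBot ℕ∞) + ringKrullDim (A ⧸ p) :=
      le_trans h3 (hsum.ge.trans (add_le_add (WithBot.coe_le_coe.2 hle) le_rfl))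
    have h5 : ((p.height : ℕ∞) : WithBot ℕ∞) ≤ (LocCoh.depth Ap Ap : WithBot ℕ∞) := by
      refine le_trans (le_min ?_ le_rfl) h
      exact (WithBot.coe_le_coe.2 (hp1.trans (by norm_num : (1 : ℕ∞) ≤ 2)) : _)
    calc (2 : WithBot ℕ∞) < 3 := by norm_num
      _ ≤ _ := h4.trans (add_le_add h5 le_rfl)

/-- The interval up to the closed point. -/
theorem krullDim_Icc_closedPoint (p : PrimeSpectrum A) :
    Order.krullDim (Set.Icc p (IsLocalRing.closedPoint A)) = ringKrullDim (A ⧸ p.asIdeal) := by
  rw [ringKrullDim_quotient]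
  refine Order.krullDim_eq_of_orderIso (OrderIso.setCongr _ _ ?_)
  ext q
  exact ⟨fun h => PrimeSpectrum.mem_zeroLocus _ _ |>.2 h.1, fun h => ⟨h, IsLocalRing.le_maximalIdeal q.2.ne_top⟩⟩

theorem kills_of_dualizing (hA : ∃ ω : Dual.D A, Dual.IsDualizing A ω) {f : A} (hf : f ∈ maximalIdeal A) (s : ℕ)
    (hc : ∀ p : Ideal A, ∀ _ : p.IsPrime, f ∉ p → (s : WithBot ℕ∞) <
      (LocCoh.depth (Localization.AtPrime p) (Localization.AtPrime p) : WithBot ℕ∞) + ringKrullDim (A ⧸ p))
    (i : ℕ) (hi : i ≤ s) : ∃ n : ℕ, ∀ x : LocCoh.H (maximalIdeal A) i A, f ^ n • x = 0 := by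
  let T : Set (PrimeSpectrum A) := {IsLocalRing.closedPoint A}
  let T' : Set (PrimeSpectrum A) := PrimeSpectrum.zeroLocus {f}
  have hT : StableUnderSpecialization T := fun x y hxy (hx : x = _) => by
    subst hx
    exact ((IsLocalRing.specializes_closedPoint y).antisymm hxy).eq.symm ▸ rfl
  have hT' : StableUnderSpecialization T' := (PrimeSpectrum.isClosed_zeroLocus _).stableUnderSpecialization
  have hTT' : T ⊆ T' := by
    rintro _ rfl
    exact (PrimeSpectrum.mem_zeroLocus _ _).2 (Set.singleton_subset_iff.2 hf)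
  obtain ⟨J, hJ, hkill⟩ := (S1711.result A hA T T' hT hT' hTT' s A).2 (fun p q hp hq _ => by
    rw [show q = IsLocalRing.closedPoint A from hq, krullDim_Icc_closedPoint]
    have hfp : f ∉ p.asIdeal := fun h => hp ((PrimeSpectrum.mem_zeroLocus _ _).2 (Set.singleton_subset_iff.2 h))
    let l : Localization.AtPrime p.asIdeal ≃ₗ[Localization.AtPrime p.asIdeal] LocalizedModule p.asIdeal.primeCompl A :=
      (IsLocalizedModule.linearEquiv p.asIdeal.primeCompl (Algebra.linearMap A (Localization.AtPrime p.asIdeal))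
        (LocalizedModule.mkLinearMap p.asIdeal.primeCompl A)).extendScalarsOfIsLocalization p.asIdeal.primeCompl _
    rw [Alg6.depth_eq_of_semilinear (RingHom.id _) Function.surjective_id l.symm.toAddEquiv fun r x => map_smul l.symm r x]
    exact hc p.asIdeal p.2 hfp)
  obtain ⟨n, hn⟩ : f ∈ J.radical := by
    rw [← PrimeSpectrum.vanishingIdeal_zeroLocus_eq_radical]
    exact (PrimeSpectrum.mem_vanishingIdeal _ _).2 fun p hp => Set.singleton_subset_iff.1 (hJ hp)
  obtain ⟨eF⟩ := nonempty_HT_iso (A := A) i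
  let e := (eF.app (ModuleCat.of A A)).toLinearEquiv
  exact ⟨n, fun x => e.injective (by rw [map_smul, hkill i hi _ hn, map_zero])⟩

end Groth.Agent.Pi1Rig

end
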