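import Groth.Agent.Pi1Rig.Main
import Groth.Agent.Pi1Rig.Dualizing

/-!
# The hypotheses with a dualizing complex
-/

set_option autoImplicit false
universe u

open IsLocalRing

namespace Groth.Agent.Pi1Rig

theorem kills_of_cond {A : Type u} [CommRing A] [IsNoetherianRing A] [IsLocalRing A] {f : A}
    (hf : f ∈ maximalIdeal A) (hd : ∃ ω : Dual.D A, Dual.IsDualizing A ω)
    (hc : ((LocCoh.HasSk 2 (Localization.Away f) (Localization.Away f) ∧
        ∀ p : Ideal A, p ∈ minimalPrimes A → f ∉ p → (3 : WithBot ℕ∞) ≤ ringKrullDim (A ⧸ p)) ∨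
      (∀ p : Ideal A, ∀ _ : p.IsPrime, f ∉ p →
        (2 : WithBot ℕ∞) < (LocCoh.depth (Localization.AtPrime p) (Localization.AtPrime p) : WithBot ℕ∞) + ringKrullDim (A ⧸ p)))) :
    Kills f 1 ∧ Kills f 2 := by
  have h : ∀ p : Ideal A, ∀ _ : p.IsPrime, f ∉ p →
      (2 : WithBot ℕ∞) < (LocCoh.depth (Localization.AtPrime p) (Localization.AtPrime p) : WithBot ℕ∞) + ringKrullDim (A ⧸ p) := by
    rcases hc with ⟨hS, hdim⟩ | h
    · exact fun p _ hp => two_lt_depth_add_dim_of_S2 hd hf hS hdim p hp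
    · exact h
  exact ⟨kills_of_dualizing hd hf 2 h 1 (by norm_num), kills_of_dualizing hd hf 2 h 2 le_rfl⟩

end Groth.Agent.Pi1Rig
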