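import Groth.Agent.Pi1Alg.Descend

/-!
# Finite schemes over a local ring from the punctured spectrum and the completion
-/

set_option autoImplicit false
set_option linter.unusedSectionVars false
set_option linter.style.haveILetI false
set_option backward.isDefEq.respectTransparency false
set_option backward.isDefEq.respectTransparency.types false
universe u

open CategoryTheory CategoryTheory.Limits AlgebraicGeometry IsLocalRing TensorProduct

noncomputable section

namespace Groth.Agent.Pi1Rig

open Groth.Agent Groth.Agent.Pi1Ext Groth.Agent.Pi1Ext.RegPurity Groth.Agent.Pi1Ext.PuritySch Groth.Agent.Pi1Alg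

variable {A : Type u} [CommRing A] [IsLocalRing A]

/-- Pullback along equal maps. -/
def pullbackCongrIso {X Y : Scheme.{u}} {f g : X ⟶ Y} (h : f = g) (Z : Over Y) :
    (Over.pullback f).obj Z ≅ (Over.pullback g).obj Z :=
  Over.isoMk (pullback.congrHom rfl h) (by simp)

section Chart

variable (A) (R : Type u) [CommRing R] [Algebra A R] {g : A} (hg : g ∈ maximalIdeal A)

theorem isPullback_chart :
    IsPullback (pullback.fst (rest A R) (ρ hg) ≫ pullback.fst (sp A R) (FEt.puncturedSpec A).ι)
      (pullback.snd (rest A R) (ρ hg)) (sp A R) (sp A (Localization.Away g)) := by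
  have := (IsPullback.of_hasPullback (rest A R) (ρ hg)).paste_horiz
    (IsPullback.of_hasPullback (sp A R) (FEt.puncturedSpec A).ι)
  rwa [ρ_ι] at this

/-- The chart over a basic open. -/
def spR : pullback (rest A R) (ρ hg) ≅ Spec (CommRingCat.of (Localization.Away g ⊗[A] R)) :=
  (isPullback_chart A R hg).flip.isoPullback ≪≫ pullbackSpecIso' A (Localization.Away g) R

theorem spR_hom :
    (spR A R hg).hom ≫ sp (Localization.Away g) (Localization.Away g ⊗[A] R) = pullback.snd (rest A R) (ρ hg) := by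
  rw [spR, Iso.trans_hom, Category.assoc]
  refine Eq.trans ?_ (isPullback_chart A R hg).flip.isoPullback_hom_fst
  congr 1
  exact pullbackSpecIso_hom_fst' A (Localization.Away g) R

theorem spR_hom_right :
    (spR A R hg).hom ≫ Spec.map (CommRingCat.ofHom
        (Algebra.TensorProduct.includeRight : R →ₐ[A] Localization.Away g ⊗[A] R).toRingHom) =
      pullback.fst (rest A R) (ρ hg) ≫ pullback.fst (sp A R) (FEt.puncturedSpec A).ι := by
  rw [spR, Iso.trans_hom, Category.assoc]
  refine Eq.trans ?_ (isPullback_chart A R hg).flip.isoPullback_hom_snd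
  congr 1
  exact pullbackSpecIso_hom_snd A (Localization.Away g) R

end Chart

/-- An algebra map bijective away from each element of the maximal ideal gives an isomorphism over
the punctured spectrum. -/
theorem nonempty_isoO {C B : Type u} [CommRing C] [CommRing B] [Algebra A C] [Algebra A B] (f : C →ₐ[A] B)
    (hf : ∀ g ∈ maximalIdeal A, IsoAway f g) : Nonempty (objO A B ≅ objO A C) := by
  have hr : restMap f ≫ rest A C = rest A B := pullback.lift_snd _ _ _
  haveI : IsIso (restMap f) := by
    refine (IsZariskiLocalAtTarget.iff_of_openCover (P := MorphismProperty.isomorphisms Scheme)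
      ((cover A).pullback₁ (rest A C))).2 fun ⟨g, hg⟩ => ?_
    show IsIso (pullback.snd (restMap f) (pullback.fst (rest A C) (ρ hg)))
    let Ag := Localization.Away g
    let Ff : Ag ⊗[A] C →ₐ[Ag] Ag ⊗[A] B := Algebra.TensorProduct.map (AlgHom.id Ag Ag) f
    have hspan : ∀ (R : Type u) [CommRing R] [Algebra A R] (z : Ag ⊗[A] R),
        ∃ (n : ℕ) (r : R), g ^ n • z = (1 : Ag) ⊗ₜ[A] r := fun R _ _ z => by
      induction z using TensorProduct.induction_on with
      | zero => exact ⟨0, 0, by simp⟩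
      | tmul a r =>
        obtain ⟨⟨b, ⟨_, n, rfl⟩⟩, hb⟩ := IsLocalization.surj (Submonoid.powers g) a
        refine ⟨n, b • r, ?_⟩
        rw [TensorProduct.smul_tmul', Algebra.smul_def, mul_comm, hb, Algebra.algebraMap_eq_smul_one,
          TensorProduct.smul_tmul]
      | add x y hx hy =>
        obtain ⟨n, r, hr⟩ := hx
        obtain ⟨m, s, hs⟩ := hy
        refine ⟨n + m, g ^ m • r + g ^ n • s, ?_⟩
        rw [TensorProduct.tmul_add, TensorProduct.tmul_smul, TensorProduct.tmul_smul, ← hr, ← hs, smul_add, pow_add,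
          mul_smul, mul_smul, smul_comm (g ^ m)]
    have hu : ∀ n : ℕ, IsUnit (algebraMap A Ag (g ^ n)) := fun n => by
      rw [map_pow]; exact (IsLocalization.Away.algebraMap_isUnit g).pow n
    have cancel : ∀ (R : Type u) [CommRing R] [Algebra A R] (n : ℕ) (x y : Ag ⊗[A] R),
        g ^ n • x = g ^ n • y → x = y := fun R _ _ n x y h => by
      refine (hu n).smul_left_cancel.1 ?_
      rwa [algebraMap_smul, algebraMap_smul]
    have hFs : ∀ (n : ℕ) (x : Ag ⊗[A] C), Ff (g ^ n • x) = g ^ n • Ff x := fun n x =>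
      map_smul (Ff.restrictScalars A) _ x
    have hbij : Function.Bijective Ff := by
      constructor
      · refine (injective_iff_map_eq_zero Ff).2 fun z hz => ?_
        obtain ⟨n, c, hc⟩ := hspan C z
        have h1 : (1 : Ag) ⊗ₜ[A] f c = 0 := by
          have := congrArg Ff hc
          rw [hFs, hz, smul_zero] at this
          simpa [Ff] using this.symm
        haveI : IsLocalizedModule (Submonoid.powers g) (TensorProduct.mk A Ag B 1) :=
          (isLocalizedModule_iff_isBaseChange (Submonoid.powers g) Ag _).2 (TensorProduct.isBaseChange A B Ag)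
        obtain ⟨⟨_, k, rfl⟩, hk⟩ := (IsLocalizedModule.eq_zero_iff (Submonoid.powers g) (TensorProduct.mk A Ag B 1)).1 h1
        obtain ⟨m, hm⟩ := (hf g hg).2 (g ^ k • c) (by rw [map_smul]; exact hk)
        refine cancel C (m + k + n) z 0 ?_
        rw [pow_add, mul_smul, hc, ← TensorProduct.tmul_smul, pow_add, mul_smul, hm, TensorProduct.tmul_zero, smul_zero]
      · intro z
        obtain ⟨n, b, hb⟩ := hspan B z
        obtain ⟨m, c, hc⟩ := (hf g hg).1 b
        obtain ⟨w, hw⟩ := (hu (m + n)).exists_left_inv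
        refine ⟨w • ((1 : Ag) ⊗ₜ[A] c), ?_⟩
        rw [map_smul, show Ff ((1 : Ag) ⊗ₜ[A] c) = (1 : Ag) ⊗ₜ[A] f c by simp [Ff], ← hc, TensorProduct.tmul_smul,
          ← hb, ← mul_smul (g ^ m), ← pow_add, ← algebraMap_smul Ag (g ^ (m + n)) z, smul_smul, hw, one_smul]
    haveI : IsIso (CommRingCat.ofHom Ff.toRingHom) := (ConcreteCategory.isIso_iff_bijective _).2 hbij
    let m : pullback (rest A B) (ρ hg) ⟶ pullback (rest A C) (ρ hg) :=
      (spR A B hg).hom ≫ Spec.map (CommRingCat.ofHom Ff.toRingHom) ≫ (spR A C hg).inv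
    haveI : IsIso m := inferInstance
    have hm2 : m ≫ pullback.snd (rest A C) (ρ hg) = pullback.snd (rest A B) (ρ hg) := by
      rw [← spR_hom A C hg, ← spR_hom A B hg]
      simp only [m, Category.assoc, Iso.inv_hom_id_assoc, ← Spec.map_comp, ← CommRingCat.ofHom_comp]
      congr 3
      exact Ff.comp_algebraMap
    have hm1 : m ≫ pullback.fst (rest A C) (ρ hg) = pullback.fst (rest A B) (ρ hg) ≫ restMap f := by
      refine pullback.hom_ext ?_ ?_
      · simp only [restMap, Category.assoc, pullback.lift_fst]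
        rw [← spR_hom_right A C hg, ← reassoc_of% (spR_hom_right A B hg)]
        simp only [m, Category.assoc, Iso.inv_hom_id_assoc, ← Spec.map_comp, ← CommRingCat.ofHom_comp]
        congr 3
      · simp only [restMap, Category.assoc, pullback.lift_snd]
        refine ((congrArg (m ≫ ·) pullback.condition).trans ?_).trans pullback.condition.symm
        rw [reassoc_of% hm2]
    have hsq : IsPullback m (pullback.fst (rest A B) (ρ hg)) (pullback.fst (rest A C) (ρ hg)) (restMap f) :=
      IsPullback.of_right (by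
          rw [hm2, hr]
          exact (IsPullback.of_hasPullback (rest A B) (ρ hg)).flip) hm1
        (IsPullback.of_hasPullback (rest A C) (ρ hg)).flip
    rw [← hsq.flip.isoPullback_inv_snd]
    infer_instance
  exact ⟨Over.isoMk (asIso (restMap f)) hr⟩

variable [IsNoetherianRing A]

/-- A finite scheme over the punctured spectrum comes from an integral algebra. -/
theorem exists_integral_modelO (V : Over (FEt.puncturedSpec A : Scheme.{u})) [IsFinite V.hom] :
    ∃ (R : Type u) (_ : CommRing R) (_ : Algebra A R) (_ : Algebra.IsIntegral A R),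
      IsFinite (rest A R) ∧ Nonempty (objO A R ≅ V) := by
  let v : V.left ⟶ (FEt.puncturedSpec A : Scheme.{u}) := V.hom
  haveI : IsFinite v := ‹IsFinite V.hom›
  haveI : CompactSpace (FEt.puncturedSpec A : Scheme.{u}) :=
    isCompact_iff_compactSpace.1 (TopologicalSpace.NoetherianSpace.isCompact _)
  haveI : CompactSpace V.left := QuasiCompact.compactSpace_of_compactSpace v
  let j : V.left ⟶ Spec (CommRingCat.of A) := v ≫ (FEt.puncturedSpec A).ι
  haveI : QuasiCompact j := inferInstance
  haveI : QuasiSeparated j := inferInstance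
  haveI : IsSeparated j := inferInstance
  haveI : LocallyOfFiniteType j := inferInstance
  haveI : LocallyQuasiFinite j := inferInstance
  haveI : IsAffine j.normalization := isAffine_of_isAffineHom j.fromNormalization
  let R := Γ(j.normalization, ⊤)
  let φ := (Scheme.ΓSpecIso (CommRingCat.of A)).inv ≫ j.fromNormalization.appTop
  letI : Algebra A R := φ.hom.toAlgebra
  let t : V.left ⟶ Spec (CommRingCat.of R) := j.toNormalization ≫ j.normalization.isoSpec.hom
  have hπ : j.normalization.isoSpec.hom ≫ sp A R = j.fromNormalization := by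
    show j.normalization.isoSpec.hom ≫ Spec.map φ = _
    rw [Spec.map_comp, ← Category.assoc, Scheme.isoSpec_hom_naturality, Category.assoc]
    simp [Scheme.isoSpec, toSpecΓ_SpecMap_ΓSpecIso_inv]
  haveI : Algebra.IsIntegral A R := by
    have h1 : IsIntegralHom (sp A R) := by
      rw [← MorphismProperty.cancel_left_of_respectsIso (P := @IsIntegralHom) j.normalization.isoSpec.hom, hπ]
      infer_instance
    exact algebraMap_isIntegral_iff.1 (IsIntegralHom.SpecMap_iff.1 h1)
  have ht : t ≫ sp A R = j := by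
    rw [Category.assoc, hπ, Scheme.Hom.toNormalization_fromNormalization]
  haveI : IsDominant t := inferInstance
  haveI : IsOpenImmersion t := inferInstance
  let q : V.left ⟶ pullback (sp A R) (FEt.puncturedSpec A).ι := pullback.lift t v ht
  have hq1 : q ≫ pullback.fst _ _ = t := pullback.lift_fst _ _ _
  have hq2 : q ≫ rest A R = v := pullback.lift_snd _ _ _
  haveI : IsFinite q := by
    haveI : IsFinite (q ≫ rest A R) := by rw [hq2]; infer_instance
    exact IsFinite.of_comp q (rest A R)
  haveI : IsOpenImmersion q := by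
    haveI : IsOpenImmersion (q ≫ pullback.fst _ _) := by rw [hq1]; infer_instance
    exact IsOpenImmersion.of_comp q (pullback.fst _ _)
  haveI : Surjective q := by
    refine ⟨fun y => ?_⟩
    by_contra hne
    have hopen := (pullback.fst (sp A R) (FEt.puncturedSpec A).ι).isOpenMap _ q.isClosedMap.isClosed_range.isOpen_compl
    obtain ⟨z, ⟨w, hw, rfl⟩, v, hv⟩ := t.denseRange.inter_open_nonempty _ hopen
      ⟨_, y, fun ⟨a, ha⟩ => hne ⟨a, ha⟩, rfl⟩
    refine hw ⟨v, (pullback.fst (sp A R) (FEt.puncturedSpec A).ι).isOpenEmbedding.injective ?_⟩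
    rw [← Scheme.Hom.comp_apply, hq1]
    exact hv
  haveI : IsIso q := (isIso_iff_isOpenImmersion_and_surjective q).2 ⟨inferInstance, inferInstance⟩
  have hR : IsFinite (rest A R) := by
    rw [← MorphismProperty.cancel_left_of_respectsIso (P := @IsFinite) q, hq2]
    infer_instance
  exact ⟨R, inferInstance, inferInstance, inferInstance, hR, ⟨(Over.isoMk (asIso q) hq2 : V ≅ objO A R).symm⟩⟩

/-- A finite scheme over the punctured spectrum comes from a finite algebra. -/
theorem exists_finite_modelO (V : Over (FEt.puncturedSpec A : Scheme.{u})) [IsFinite V.hom] :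
    ∃ (C : Type u) (_ : CommRing C) (_ : Algebra A C) (_ : Module.Finite A C),
      Nonempty (objO A C ≅ V) := by
  classical
  obtain ⟨R, _, _, hint, hR, ⟨e⟩⟩ := exists_integral_modelO V
  have hloc : ∀ g, g ∈ maximalIdeal A → Module.Finite (Localization.Away g) (Localization.Away g ⊗[A] R) := fun g hg => by
    have h := MorphismProperty.pullback_snd (P := @IsFinite) (rest A R) (ρ hg) hR
    rw [← (spR_hom A R hg), MorphismProperty.cancel_left_of_respectsIso (P := @IsFinite)] at h
    exact RingHom.finite_algebraMap.1 ((IsFinite.SpecMap_iff _).1 h)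
  obtain ⟨G, hG⟩ := IsNoetherian.noetherian (maximalIdeal A)
  have hsel : ∀ g ∈ G, ∃ s : Finset R, ∀ C : Subalgebra A R, ↑s ⊆ (C : Set R) →
      ∀ r : R, ∃ n : ℕ, g ^ n • r ∈ C := fun g hgG => by
    have hgm : g ∈ maximalIdeal A := hG ▸ Ideal.subset_span hgG
    let Ag := Localization.Away g
    haveI := hloc g hgm
    have htop : Submodule.span Ag (Set.range fun r : R => (1 : Ag) ⊗ₜ[A] r) = ⊤ := by
      refine top_le_iff.1 fun z _ => ?_
      induction z using TensorProduct.induction_on with
      | zero => exact zero_mem _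
      | tmul a r =>
        rw [show (a ⊗ₜ[A] r : Ag ⊗[A] R) = a • ((1 : Ag) ⊗ₜ[A] r) by simp [TensorProduct.smul_tmul']]
        exact Submodule.smul_mem _ _ (Submodule.subset_span ⟨r, rfl⟩)
      | add x y hx hy => exact add_mem (hx trivial) (hy trivial)
    obtain ⟨s', hs', hspan⟩ := (Submodule.fg_span_iff_fg_span_finset_subset _).1
      (htop ▸ (Module.Finite.fg_top : (⊤ : Submodule Ag (Ag ⊗[A] R)).FG))
    choose r hr using fun z : s' => hs' z.2
    refine ⟨Finset.univ.image r, fun C hC x => ?_⟩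
    haveI : IsLocalizedModule (Submonoid.powers g) (TensorProduct.mk A Ag R 1) :=
      (isLocalizedModule_iff_isBaseChange (Submonoid.powers g) Ag _).2 (TensorProduct.isBaseChange A R Ag)
    suffices hz : ∀ z ∈ Submodule.span Ag (s' : Set (Ag ⊗[A] R)),
        ∃ (n : ℕ) (c : R), c ∈ C ∧ g ^ n • z = (1 : Ag) ⊗ₜ[A] c by
      obtain ⟨n, c, hc, he⟩ := hz ((1 : Ag) ⊗ₜ[A] x) (hspan ▸ htop.ge trivial)
      rw [← TensorProduct.tmul_smul] at he
      obtain ⟨⟨_, m, rfl⟩, hm⟩ := (IsLocalizedModule.eq_iff_exists (Submonoid.powers g) (TensorProduct.mk A Ag R 1)).1 he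
      refine ⟨m + n, ?_⟩
      rw [pow_add, mul_smul]
      exact hm ▸ C.smul_mem hc _
    intro z hz
    induction hz using Submodule.span_induction with
    | mem z hz =>
      refine ⟨0, r ⟨z, hz⟩, hC (Finset.mem_coe.2 (Finset.mem_image_of_mem r (Finset.mem_univ _))), ?_⟩
      rw [pow_zero, one_smul]
      exact (hr ⟨z, hz⟩).symm
    | zero => exact ⟨0, 0, C.zero_mem, by simp⟩
    | add z z' _ _ hz hz' =>
      obtain ⟨n, c, hc, he⟩ := hz
      obtain ⟨n', c', hc', he'⟩ := hz'
      refine ⟨n + n', g ^ n' • c + g ^ n • c', C.add_mem (C.smul_mem hc _) (C.smul_mem hc' _), ?_⟩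
      rw [TensorProduct.tmul_add, TensorProduct.tmul_smul, TensorProduct.tmul_smul, ← he, ← he', smul_smul,
        smul_smul, smul_add, pow_add, mul_comm (g ^ n) (g ^ n')]
    | smul a z _ hz =>
      obtain ⟨n, c, hc, he⟩ := hz
      obtain ⟨a₀, ⟨_, m, rfl⟩, rfl⟩ := IsLocalization.exists_mk'_eq (Submonoid.powers g) a
      refine ⟨m + n, a₀ • c, C.smul_mem hc _, ?_⟩
      rw [TensorProduct.tmul_smul, ← he, pow_add, mul_smul, smul_comm (g ^ n), ← smul_assoc, Algebra.smul_def]
      exact (congrArg (· • (g ^ n • z)) (IsLocalization.mk'_spec' Ag a₀ (⟨g ^ m, m, rfl⟩ : Submonoid.powers g))).trans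
        (algebraMap_smul Ag a₀ _)
  choose s hs using hsel
  let S : Finset R := G.attach.biUnion fun g => s g.1 g.2
  let C : Subalgebra A R := Algebra.adjoin A (S : Set R)
  haveI : Module.Finite A C :=
    Module.Finite.iff_fg.2 (fg_adjoin_of_finite S.finite_toSet fun x _ => Algebra.IsIntegral.isIntegral x)
  have hiso : ∀ g ∈ maximalIdeal A, IsoAway C.val g := fun g hg =>
    ⟨fun r => by
      have hall : ∀ g₀ ∈ G, ∃ n : ℕ, g₀ ^ n • r ∈ C := fun g₀ h₀ => hs g₀ h₀ C
        ((Finset.coe_subset.2 (Finset.subset_biUnion_of_mem (fun g : {x // x ∈ G} => s g.1 g.2)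
          (Finset.mem_attach G ⟨g₀, h₀⟩))).trans Algebra.subset_adjoin) r
      let J : Ideal A := (Subalgebra.toSubmodule C).comap (LinearMap.toSpanSingleton A R r)
      have : g ∈ J.radical := by
        have hle : maximalIdeal A ≤ J.radical := by
          rw [← hG]
          refine Ideal.span_le.2 fun g₀ h₀ => ?_
          obtain ⟨n, hn⟩ := hall g₀ h₀
          exact ⟨n, hn⟩
        exact hle hg
      obtain ⟨n, hn⟩ := this
      exact ⟨n, ⟨_, hn⟩, rfl⟩,
    fun c hc => ⟨0, by rw [pow_zero, one_smul]; exact Subtype.ext hc⟩⟩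
  obtain ⟨e'⟩ := nonempty_isoO C.val hiso
  exact ⟨C, inferInstance, inferInstance, inferInstance, ⟨e'.symm ≪≫ e⟩⟩

/-- Two algebras with the same sections away from the closed point agree over the punctured spectrum. -/
theorem nonempty_isoO_of_maps {ι : Type} (g : ι → A) (hidl : Ideal.span (Set.range g) = maximalIdeal A)
    {R C S : Type u} [CommRing R] [Algebra A R] [Module.Finite A R] [CommRing C] [Algebra A C] [Module.Finite A C]
    [CommRing S] [Algebra A S] (r : R →ₐ[A] S) (τ : C →ₐ[A] S)
    (hr : ∀ (h : S) (l : ι), ∃ (n : ℕ) (x : R), g l ^ n • h = r x)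
    (hrker : ∀ x, r x = 0 → ∀ l, ∃ n : ℕ, g l ^ n • x = 0)
    (hτ : ∀ (h : S) (l : ι), ∃ (n : ℕ) (x : C), g l ^ n • h = τ x)
    (hτker : ∀ x, τ x = 0 → ∀ l, ∃ n : ℕ, g l ^ n • x = 0) : Nonempty (objO A R ≅ objO A C) := by
  let Φ₀ : R ⊗[A] C →ₐ[A] S := Algebra.TensorProduct.lift r τ fun _ _ => Commute.all _ _
  let T : Subalgebra A S := Φ₀.range
  let rT : R →ₐ[A] T := r.codRestrict T fun x => ⟨x ⊗ₜ 1, by simp [Φ₀]⟩
  let tT : C →ₐ[A] T := τ.codRestrict T fun c => ⟨1 ⊗ₜ c, by simp [Φ₀]⟩
  have hisoR : ∀ x ∈ maximalIdeal A, IsoAway rT x := fun x hx =>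
    isoAway_of_gens g rT (fun l y => by
      obtain ⟨n, p, hp⟩ := hr y.1 l
      exact ⟨n, p, Subtype.ext hp⟩) (fun l p hp => hrker p (congrArg Subtype.val hp) l) (by rw [hidl]; exact hx)
  have hisoC : ∀ x ∈ maximalIdeal A, IsoAway tT x := fun x hx =>
    isoAway_of_gens g tT (fun l y => by
      obtain ⟨n, p, hp⟩ := hτ y.1 l
      exact ⟨n, p, Subtype.ext hp⟩) (fun l p hp => hτker p (congrArg Subtype.val hp) l) (by rw [hidl]; exact hx)
  obtain ⟨eT⟩ := nonempty_isoO tT hisoC
  obtain ⟨eR⟩ := nonempty_isoO rT hisoR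
  exact ⟨eR.symm ≪≫ eT⟩

/-- An affine model of a finite scheme over an affine scheme. -/
theorem exists_algebra_modelO {A : Type u} [CommRing A] (Y : Over (Spec (CommRingCat.of A))) [IsFinite Y.hom] :
    ∃ (E : Type u) (_ : CommRing E) (_ : Algebra A E) (_ : Module.Finite A E),
      Nonempty (Over.mk (sp A E) ≅ Y) := by
  let y : Y.left ⟶ Spec (CommRingCat.of A) := Y.hom
  haveI : IsFinite y := ‹IsFinite Y.hom›
  haveI : IsAffine Y.left := isAffine_of_isAffineHom y
  let φ := Spec.preimage (Y.left.isoSpec.inv ≫ y)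
  letI : Algebra A Γ(Y.left, ⊤) := φ.hom.toAlgebra
  have hφ : sp A Γ(Y.left, ⊤) = Y.left.isoSpec.inv ≫ y := Spec.map_preimage _
  have h : IsFinite (sp A Γ(Y.left, ⊤)) := by rw [hφ]; infer_instance
  exact ⟨Γ(Y.left, ⊤), inferInstance, inferInstance, RingHom.finite_algebraMap.1 ((IsFinite.SpecMap_iff _).1 h),
    ⟨Over.isoMk Y.left.isoSpec.symm hφ.symm⟩⟩

/-- A finite scheme over the punctured spectrum which extends over the completion extends. -/
theorem exists_finite_extend {A' : Type u} [CommRing A'] [IsLocalRing A'] [IsNoetherianRing A'] [Algebra A A']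
    [Module.FaithfullyFlat A A'] (hm : (maximalIdeal A).map (algebraMap A A') = maximalIdeal A')
    (hA' : ∀ (n : ℕ) (a' : A'), ∃ a : A, a' - algebraMap A A' a ∈ (maximalIdeal A ^ n).map (algebraMap A A'))
    (V : Over (FEt.puncturedSpec A : Scheme.{u})) [IsFinite V.hom]
    (Y' : Over (Spec (CommRingCat.of A'))) [IsFinite Y'.hom]
    (eY : (Over.pullback (pullback.fst (FEt.puncturedSpec A).ι (sp A A'))).obj V ≅
      (Over.pullback (pullback.snd (FEt.puncturedSpec A).ι (sp A A'))).obj Y') :
    ∃ Y : Over (Spec (CommRingCat.of A)), IsFinite Y.hom ∧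
      Nonempty ((Over.pullback (FEt.puncturedSpec A).ι).obj Y ≅ V) ∧
      Nonempty ((Over.pullback (sp A A')).obj Y ≅ Y') := by
  classical
  obtain ⟨w, hw⟩ := exists_punctured_baseChange (A := A) (A' := A') hm
  obtain ⟨C, _, _, hCfin, ⟨eC⟩⟩ := exists_finite_modelO V
  haveI := hCfin
  obtain ⟨E, _, _, hEfin, ⟨eE⟩⟩ := exists_algebra_modelO Y'
  haveI := hEfin
  let P := FEt.puncturedSpec A
  let P' := FEt.puncturedSpec A'
  let C' := A' ⊗[A] C
  -- the two restrictions to the punctured spectrum upstairs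
  let ψ : (P' : Scheme.{u}) ⟶ (P : Scheme.{u}) := w.inv ≫ pullback.fst _ _
  have hψ : ψ ≫ P.ι = P'.ι ≫ sp A A' := by
    rw [Category.assoc, pullback.condition, ← hw, Category.assoc, w.inv_hom_id_assoc]
  have hpo : IsPullback (Spec.map (CommRingCat.ofHom (Algebra.TensorProduct.includeRight : C →ₐ[A] C').toRingHom))
      (sp A' C') (sp A C) (sp A A') :=
    (isPullback_SpecMap_of_isPushout _ _ _ _ (CommRingCat.isPushout_tensorProduct A A' C)).flip
  have hB1 : IsPullback (pullback.fst (rest A C) ψ ≫ pullback.fst (sp A C) P.ι)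
      (pullback.snd (rest A C) ψ) (sp A C) (P'.ι ≫ sp A A') := by
    have h3 := (IsPullback.of_hasPullback (rest A C) ψ).paste_horiz (IsPullback.of_hasPullback (sp A C) P.ι)
    rw [hψ] at h3
    exact h3
  have hB2 : IsPullback (pullback.fst (sp A' C') P'.ι ≫ _) (rest A' C') (sp A C) (P'.ι ≫ sp A A') :=
    (IsPullback.of_hasPullback (sp A' C') P'.ι).paste_horiz hpo
  let e1 : (Over.pullback ψ).obj (objO A C) ≅ objO A' C' :=
    Over.isoMk (hB1.isoIsPullback _ _ hB2) (hB1.isoIsPullback_hom_snd _ _ hB2)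
  have hsnd : w.inv ≫ pullback.snd P.ι (sp A A') = P'.ι := by rw [← hw, w.inv_hom_id_assoc]
  let e3 : objO A' C' ≅ objO A' E :=
    e1.symm ≪≫ (Over.pullback ψ).mapIso eC ≪≫ (Over.pullbackComp w.inv (pullback.fst P.ι (sp A A'))).app V ≪≫
      (Over.pullback w.inv).mapIso eY ≪≫ ((Over.pullbackComp w.inv (pullback.snd P.ι (sp A A'))).app Y').symm ≪≫
      pullbackCongrIso hsnd Y' ≪≫ (Over.pullback P'.ι).mapIso eE.symm
  -- generators
  obtain ⟨r, g, hg⟩ := Submodule.fg_iff_exists_fin_generating_family.1 (IsNoetherian.noetherian (maximalIdeal A))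
  have hidl : Ideal.span (Set.range g) = maximalIdeal A := hg
  have hgm : ∀ j, g j ∈ maximalIdeal A := fun j => hidl ▸ Ideal.subset_span ⟨j, rfl⟩
  let g' : Fin r → A' := fun j => algebraMap A A' (g j)
  have hg'm : ∀ j, g' j ∈ maximalIdeal A' := fun j => hm ▸ Ideal.mem_map_of_mem _ (hgm j)
  obtain ⟨f', hf'sur, hf'ker⟩ := exists_secMap g' hg'm e3
  -- change the base of the localisations
  have hel : ∀ x : A, algebraMap A' C' (algebraMap A A' x) = algebraMap A C' x := fun x =>
    (IsScalarTower.algebraMap_apply A A' C' x).symm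
  haveI hloc : ∀ x : A, IsLocalization.Away (algebraMap A C' x) (Loc (A := A') C' (algebraMap A A' x)) := fun x => by
    rw [← hel x]
    infer_instance
  let cv : ∀ x : A, Loc (A := A') C' (algebraMap A A' x) ≃ₐ[C'] Loc (A := A) C' x := fun x =>
    haveI := hloc x
    IsLocalization.algEquiv (Submonoid.powers (algebraMap A C' x)) _ _
  have hcv : ∀ {x y : A} (h : x ∣ y) (h' : algebraMap A A' x ∣ algebraMap A A' y) (z : Loc (A := A') C' (algebraMap A A' x)),
      resL (A := A) C' h (cv x z) = cv y (resL (A := A') C' h' z) := fun {x y} h h' z => by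
    haveI := hloc x
    have he : (resL (A := A) C' h).comp (cv x).toAlgHom = (cv y).toAlgHom.comp (resL (A := A') C' h') :=
      IsLocalization.algHom_ext (Submonoid.powers (algebraMap A C' x)) (AlgHom.ext fun c => by
        show resL (A := A) C' h (cv x (algebraMap C' _ c)) = cv y (resL (A := A') C' h' (algebraMap C' _ c))
        rw [AlgEquiv.commutes, AlgHom.commutes, AlgHom.commutes, AlgEquiv.commutes])
    exact AlgHom.congr_fun he z
  let cvA : ∀ x : A, Loc (A := A') C' (algebraMap A A' x) →ₐ[A'] Loc (A := A) C' x :=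
    fun x => (cv x).toAlgHom.restrictScalars A'
  let f : E →ₐ[A'] ∀ j, Loc (A := A) C' (g j) :=
    Pi.algHom A' _ fun j => (cvA (g j)).comp
      ((Pi.evalAlgHom A' (fun j => Loc (A := A') C' (g' j)) j).comp ((SecL g' C').val.comp f'))
  have hfj : ∀ e j, f e j = cv (g j) ((f' e : ∀ j, Loc (A := A') C' (g' j)) j) := fun _ _ => rfl
  have hfS : ∀ e, f e ∈ SecL g C' := fun e => by
    have hmul : ∀ j k, algebraMap A A' (g j * g k) = g' j * g' k := fun j k => map_mul _ _ _
    intro j k
    rw [hfj, hfj, hcv (dvd_fst (g j) (g k)) (map_dvd _ (dvd_fst (g j) (g k))),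
      hcv (dvd_snd (g j) (g k)) (map_dvd _ (dvd_snd (g j) (g k)))]
    congr 1
    have key : ∀ (b : A') (hb : g' j * g' k = b) (h1 : g' j ∣ b) (h2 : g' k ∣ b),
        resL (A := A') C' h1 ((f' e : ∀ j, Loc (A := A') C' (g' j)) j) =
          resL (A := A') C' h2 ((f' e : ∀ j, Loc (A := A') C' (g' j)) k) := by
      rintro _ rfl h1 h2
      exact (f' e).2 j k
    exact key _ (hmul j k).symm _ _
  have hA'2 : ∀ (n : ℕ) (a' : A'), ∃ a : A,
      a' - algebraMap A A' a ∈ (Ideal.span (Set.range g) ^ n).map (algebraMap A A') := by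
    rw [hidl]; exact hA'
  obtain ⟨R, _, _, hRfin, ρ, hρsur, hρker, ⟨eR⟩⟩ := exists_patch A' g C hA'2 E f hfS (fun c l => by
      obtain ⟨n, e, he⟩ := hf'sur c l
      refine ⟨n, e, fun j => ?_⟩
      rw [hfj, he]
      show cv (g j) (g' l ^ n • algebraMap C' (Loc (A := A') C' (g' j)) c) = _
      rw [← map_pow, Algebra.smul_def, map_mul, IsScalarTower.algebraMap_apply A' C' (Loc (A := A') C' (g' j)),
        AlgEquiv.commutes, AlgEquiv.commutes, Algebra.smul_def, ← IsScalarTower.algebraMap_apply,
        ← IsScalarTower.algebraMap_apply])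
    (fun e he l => by
      obtain ⟨n, hn⟩ := hf'ker e (Subtype.ext (funext fun j => (cv (g j)).injective (by
        rw [← hfj, he, Pi.zero_apply]
        exact (map_zero _).symm))) l
      exact ⟨n, by rw [map_pow]; exact hn⟩)
  haveI := hRfin
  obtain ⟨eR'⟩ := nonempty_isoO_of_maps g hidl ρ (toSecL g C) hρsur hρker
    (fun h l => exists_pow_smul_mem_toSecL g C h l) (fun c hc l => toSecL_eq_zero g C hc l)
  refine ⟨Over.mk (sp A R), (IsFinite.SpecMap_iff _).2 (RingHom.finite_algebraMap.2 inferInstance), ⟨eR' ≪≫ eC⟩, ?_⟩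
  have hpR : IsPullback (Spec.map (CommRingCat.ofHom (Algebra.TensorProduct.includeRight : R →ₐ[A] A' ⊗[A] R).toRingHom))
      (sp A' (A' ⊗[A] R)) (sp A R) (sp A A') :=
    (isPullback_SpecMap_of_isPushout _ _ _ _ (CommRingCat.isPushout_tensorProduct A A' R)).flip
  exact ⟨(Over.isoMk hpR.isoPullback hpR.isoPullback_hom_snd : Over.mk (sp A' (A' ⊗[A] R)) ≅
      (Over.pullback (sp A A')).obj (Over.mk (sp A R))).symm ≪≫
    (Over.isoMk (f := Over.mk (sp A' (A' ⊗[A] R))) (g := Over.mk (sp A' E))
      (Scheme.Spec.mapIso eR.toRingEquiv.symm.toCommRingCatIso.op) (by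
      show Spec.map (CommRingCat.ofHom eR.symm.toRingEquiv.toRingHom) ≫ sp A' E = sp A' (A' ⊗[A] R)
      rw [← Spec.map_comp, ← CommRingCat.ofHom_comp]
      congr 2
      exact eR.symm.toAlgHom.comp_algebraMap)) ≪≫ eE⟩

end Groth.Agent.Pi1Rig

end
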