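import Groth.Agent.Pi1Rig.Idem
import Mathlib.RingTheory.Finiteness.Cardinality
import Mathlib.LinearAlgebra.Matrix.Charpoly.LinearMap

/-!
# Formal sections along the divisor and algebraisation near it
-/

set_option autoImplicit false
set_option linter.unusedSectionVars false
set_option linter.style.haveILetI false
set_option backward.isDefEq.respectTransparency false
universe u

noncomputable section

namespace Groth.Agent.Pi1Rig

open Groth.Agent Groth.Agent.Pi1Alg

variable {A : Type u} [CommRing A] {ι : Type} (h : ι → A) (f : A) (C : Type u) [CommRing C] [Algebra A C]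

/-- Congruence of cochains. -/
def J (n : ℕ) : Ideal (C0 h C) := Ideal.span {algebraMap A (C0 h C) f ^ (n + 1)}

/-- The thickenings. -/
abbrev Lv (n : ℕ) : Type u := C0 h C ⧸ J h f C n

theorem mem_J {n : ℕ} {z : C0 h C} : z ∈ J h f C n ↔ ∃ y, z = f ^ (n + 1) • y := by
  rw [J, Ideal.mem_span_singleton, smul_iff_dvd, map_pow]

theorem J_le {m n : ℕ} (hmn : m ≤ n) : J h f C n ≤ J h f C m :=
  Ideal.span_singleton_le_span_singleton.2 (pow_dvd_pow _ (by omega))

theorem J_zero {z : C0 h C} : z ∈ J h f C 0 ↔ ∃ y, z = f • y := by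
  rw [mem_J, zero_add, pow_one]

/-- Truncation. -/
def cut (n : ℕ) : Lv h f C (n + 1) →ₐ[A] Lv h f C n :=
  Ideal.Quotient.factorₐ A (J_le h f C n.le_succ)

theorem cut_mk (n : ℕ) (z : C0 h C) : cut h f C n (Ideal.Quotient.mk _ z) = Ideal.Quotient.mk _ z := rfl

/-- Cocycle condition modulo a power of `f`. -/
def IsCl (n : ℕ) (v : Lv h f C n) : Prop :=
  ∃ z : C0 h C, Ideal.Quotient.mk _ z = v ∧ ∀ j k, ∃ y, d0 h C z j k = f ^ (n + 1) • y

theorem d0_mul_dvd {a b : C0 h C} {r : A} (ha : ∀ j k, ∃ y, d0 h C a j k = r • y)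
    (hb : ∀ j k, ∃ y, d0 h C b j k = r • y) (j k : ι) : ∃ y, d0 h C (a * b) j k = r • y := by
  obtain ⟨y, hy⟩ := ha j k
  obtain ⟨w, hw⟩ := hb j k
  rw [d0_apply] at hy hw
  refine ⟨y * res C (dvd_fst (h j) (h k)) (b j) + res C (dvd_snd (h j) (h k)) (a k) * w, ?_⟩
  rw [d0_apply, Pi.mul_apply, Pi.mul_apply, res_mul, res_mul, smul_add, ← smul_mul_assoc, ← hy, ← mul_smul_comm, ← hw]
  ring

/-- The algebra of formal sections. -/
def FS : Subalgebra A (∀ n, Lv h f C n) where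
  carrier := {s | (∀ n, cut h f C n (s (n + 1)) = s n) ∧ ∀ n, IsCl h f C n (s n)}
  mul_mem' {a b} ha hb := ⟨fun n => by rw [Pi.mul_apply, map_mul, ha.1, hb.1]; rfl, fun n => by
    obtain ⟨z, hz, hzd⟩ := ha.2 n
    obtain ⟨w, hw, hwd⟩ := hb.2 n
    exact ⟨z * w, by rw [map_mul, hz, hw]; rfl, d0_mul_dvd h C hzd hwd⟩⟩
  add_mem' {a b} ha hb := ⟨fun n => by rw [Pi.add_apply, map_add, ha.1, hb.1]; rfl, fun n => by
    obtain ⟨z, hz, hzd⟩ := ha.2 n
    obtain ⟨w, hw, hwd⟩ := hb.2 n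
    refine ⟨z + w, by rw [map_add, hz, hw]; rfl, fun j k => ?_⟩
    obtain ⟨y, hy⟩ := hzd j k
    obtain ⟨y', hy'⟩ := hwd j k
    exact ⟨y + y', by rw [map_add, Pi.add_apply, Pi.add_apply, hy, hy', smul_add]⟩⟩
  algebraMap_mem' a := ⟨fun n => (cut h f C n).commutes a, fun n => ⟨algebraMap A (C0 h C) a, rfl,
    fun j k => ⟨0, by
      rw [d0_apply, smul_zero, Pi.algebraMap_apply, Pi.algebraMap_apply, ← resA_apply, ← resA_apply, AlgHom.commutes,
        AlgHom.commutes, sub_self]⟩⟩⟩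

theorem mem_FS {s : ∀ n, Lv h f C n} :
    s ∈ FS h f C ↔ (∀ n, cut h f C n (s (n + 1)) = s n) ∧ ∀ n, IsCl h f C n (s n) := Iff.rfl

variable {h f C} in
theorem FS_cut (s : FS h f C) (n : ℕ) :
    cut h f C n ((s : ∀ n, Lv h f C n) (n + 1)) = (s : ∀ n, Lv h f C n) n := ((mem_FS h f C).1 s.2).1 n

variable {h f C} in
theorem FS_cl (s : FS h f C) (n : ℕ) :
    ∃ z : C0 h C, Ideal.Quotient.mk _ z = (s : ∀ n, Lv h f C n) n ∧ ∀ j k, ∃ y, d0 h C z j k = f ^ (n + 1) • y :=
  ((mem_FS h f C).1 s.2).2 n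

theorem Φ_mul (a b : C) : Φ h C (a * b) = Φ h C a * Φ h C b := funext fun _ => mk_mul C _ a b

theorem Φ_one : Φ h C (1 : C) = 1 := funext fun _ => mk_one C _

/-- The canonical map to the formal sections. -/
def τF : C →ₐ[A] FS h f C :=
  AlgHom.codRestrict (Pi.algHom A _ fun n => (Ideal.Quotient.mkₐ A (J h f C n)).comp
    (AlgHom.ofLinearMap (Φ h C) (Φ_one h C) (Φ_mul h C))) _ fun c =>
      (mem_FS h f C).2 ⟨fun n => rfl, fun n => ⟨Φ h C c, rfl, fun j k => ⟨0, by rw [d0_Φ, smul_zero]; rfl⟩⟩⟩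

theorem τF_val (c : C) (n : ℕ) : (τF h f C c : ∀ n, Lv h f C n) n = Ideal.Quotient.mk _ (Φ h C c) := rfl

/-- The value on the divisor. -/
def ev : FS h f C →ₐ[A] Lv h f C 0 := (Pi.evalAlgHom A (fun n => Lv h f C n) 0).comp (FS h f C).val

variable {h f C}

theorem mk_eq_of_le (s : FS h f C) {m n : ℕ} (hmn : m ≤ n) {z : C0 h C}
    (hz : Ideal.Quotient.mk _ z = (s : ∀ n, Lv h f C n) n) : Ideal.Quotient.mk _ z = (s : ∀ n, Lv h f C n) m := by
  induction hmn with
  | refl => exact hz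
  | step _ ih => exact ih (by rw [← FS_cut, ← hz, cut_mk])

theorem FS_separated {s : FS h f C} (hs : ∀ k : ℕ, ∃ m, s = f ^ k • m) : s = 0 := Subtype.ext (funext fun n => by
  obtain ⟨m, rfl⟩ := hs (n + 1)
  obtain ⟨z, hz, -⟩ := FS_cl m n
  show f ^ (n + 1) • (m : ∀ n, Lv h f C n) n = 0
  rw [← hz, ← Ideal.Quotient.mkₐ_eq_mk A, ← map_smul, Ideal.Quotient.mkₐ_eq_mk, Ideal.Quotient.eq_zero_iff_mem, mem_J]
  exact ⟨z, rfl⟩)

variable (hr1 : ∀ j, IsSMulRegular (L C (h j)) f) (hr2 : ∀ j k, IsSMulRegular (L C (h j * h k)) f)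

include hr1 in
theorem FS_regular : IsSMulRegular (FS h f C) f :=
  isSMulRegular_iff_right_eq_zero_of_smul.2 fun (s : FS h f C) hs => Subtype.ext (funext fun n => by
    obtain ⟨z, hz, -⟩ := FS_cl s (n + 1)
    have h0 : f • (s : ∀ n, Lv h f C n) (n + 1) = 0 := congrFun (congrArg Subtype.val hs) (n + 1)
    rw [← hz, ← Ideal.Quotient.mkₐ_eq_mk A, ← map_smul, Ideal.Quotient.mkₐ_eq_mk, Ideal.Quotient.eq_zero_iff_mem, mem_J] at h0
    obtain ⟨y, hy⟩ := h0
    rw [← mk_eq_of_le s n.le_succ hz]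
    refine Ideal.Quotient.eq_zero_iff_mem.2 ((mem_J h f C).2 ⟨y, funext fun j => hr1 j ?_⟩)
    show f • z j = f • (f ^ (n + 1) • y j)
    rw [← mul_smul f, ← pow_succ']
    exact congrFun hy j)

include hr1 hr2 in
theorem FS_dvd {s : FS h f C} (hs : ev h f C s = 0) : ∃ m, s = f • m := by
  have hw : ∀ n, ∃ w : C0 h C, Ideal.Quotient.mk _ (f • w) = (s : ∀ n, Lv h f C n) (n + 1) ∧
      ∀ j k, ∃ y, d0 h C w j k = f ^ (n + 1) • y := fun n => by
    obtain ⟨z, hz, hzd⟩ := FS_cl s (n + 1)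
    have h0 : Ideal.Quotient.mk (J h f C 0) z = 0 := (mk_eq_of_le s (Nat.zero_le _) hz).trans hs
    obtain ⟨w, rfl⟩ := (J_zero h f C).1 (Ideal.Quotient.eq_zero_iff_mem.1 h0)
    refine ⟨w, hz, fun j k => ?_⟩
    obtain ⟨y, hy⟩ := hzd j k
    refine ⟨y, hr2 j k ?_⟩
    show f • d0 h C w j k = f • (f ^ (n + 1) • y)
    rw [← mul_smul, ← pow_succ', ← hy, map_smul]
    rfl
  choose w hw hwd using hw
  have hmem : (fun n => Ideal.Quotient.mk (J h f C n) (w n)) ∈ FS h f C := by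
    refine (mem_FS h f C).2 ⟨fun n => ?_, fun n => ⟨w n, rfl, hwd n⟩⟩
    rw [cut_mk, Ideal.Quotient.mk_eq_mk_iff_sub_mem, mem_J]
    have h1 := (mk_eq_of_le s (Nat.le_succ (n + 1)) (hw (n + 1))).trans (hw n).symm
    rw [Ideal.Quotient.mk_eq_mk_iff_sub_mem, mem_J] at h1
    obtain ⟨y, hy⟩ := h1
    refine ⟨y, funext fun j => hr1 j ?_⟩
    show f • (w (n + 1) j - w n j) = f • (f ^ (n + 1) • y j)
    rw [← mul_smul, ← pow_succ', smul_sub]
    exact congrFun hy j
  refine ⟨⟨_, hmem⟩, Subtype.ext (funext fun n => ?_)⟩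
  rw [← mk_eq_of_le s n.le_succ (hw n)]
  show _ = f • Ideal.Quotient.mk (J h f C n) (w n)
  rw [← Ideal.Quotient.mkₐ_eq_mk A, map_smul]

variable (h f C)

/-- The reduction modulo `f`. -/
def modF : C →ₗ[A] C ⧸ (Ideal.span {algebraMap A C f}).restrictScalars A :=
  ((Ideal.span {algebraMap A C f}).restrictScalars A).mkQ

theorem exists_smul_of_mapL_modF {x : A} {z : L C x} (hz : mapL (modF f C) x z = 0) : ∃ y, z = f • y := by
  have hex : Function.Exact (f • (LinearMap.id : C →ₗ[A] C)) (modF f C) := fun c => by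
    constructor
    · intro hc
      obtain ⟨d, hd⟩ := Ideal.mem_span_singleton'.1 ((Submodule.Quotient.mk_eq_zero _).1 hc)
      exact ⟨d, by rw [← hd, LinearMap.smul_apply, LinearMap.id_apply, Algebra.smul_def, mul_comm]⟩
    · rintro ⟨d, rfl⟩
      refine (Submodule.Quotient.mk_eq_zero _).2 (Ideal.mem_span_singleton'.2 ⟨d, ?_⟩)
      rw [LinearMap.smul_apply, LinearMap.id_apply, Algebra.smul_def, mul_comm]
  obtain ⟨y, rfl⟩ := (mapL_exact hex x z).1 hz
  refine ⟨y, ?_⟩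
  obtain ⟨n, c, hc⟩ := exists_mk C y
  refine pow_injective C dvd_rfl n ?_
  show x ^ n • mapL _ x y = x ^ n • f • y
  rw [← map_smul, smul_comm, hc, mapL_mk, LinearMap.smul_apply, LinearMap.id_apply, map_smul]

theorem map0_modF_smul (y : C0 h C) : map0 h (modF f C) (f • y) = 0 := funext fun j => by
  show mapL (modF f C) (h j) (f • y j) = 0
  obtain ⟨n, c, hc⟩ := exists_mk C (y j)
  refine pow_injective _ dvd_rfl n ?_
  show h j ^ n • mapL (modF f C) (h j) (f • y j) = h j ^ n • 0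
  rw [← map_smul, smul_comm, hc, smul_zero, ← map_smul, mapL_mk]
  refine (congrArg _ ((Submodule.Quotient.mk_eq_zero _).2 ?_)).trans (map_zero _)
  exact Ideal.mem_span_singleton'.2 ⟨c, by rw [Algebra.smul_def, mul_comm]⟩

/-- The comparison on the divisor. -/
def ev' : FS h f C →ₗ[A] C0 h (C ⧸ (Ideal.span {algebraMap A C f}).restrictScalars A) :=
  ((J h f C 0).restrictScalars A).liftQ (map0 h (modF f C)) (fun z hz => by
    obtain ⟨y, rfl⟩ := (J_zero h f C).1 hz
    exact map0_modF_smul h f C y) ∘ₗ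
    (Submodule.Quotient.restrictScalarsEquiv A (J h f C 0)).symm.toLinearMap ∘ₗ (ev h f C).toLinearMap

theorem ev'_eq {s : FS h f C} {z : C0 h C} (hz : Ideal.Quotient.mk _ z = ev h f C s) :
    ev' h f C s = map0 h (modF f C) z := by
  rw [ev', LinearMap.comp_apply, LinearMap.comp_apply, AlgHom.toLinearMap_apply, ← hz]
  rfl

theorem ev'_mem (s : FS h f C) : ev' h f C s ∈ H0 h (C ⧸ (Ideal.span {algebraMap A C f}).restrictScalars A) := by
  obtain ⟨z, hz, hzd⟩ := FS_cl s 0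
  rw [ev'_eq h f C hz, H0, LinearMap.mem_ker, d0_map]
  refine funext fun j => funext fun k => ?_
  obtain ⟨y, hy⟩ := hzd j k
  show mapL (modF f C) _ (d0 h C z j k) = 0
  rw [hy, zero_add, pow_one]
  obtain ⟨n, c, hc⟩ := exists_mk C y
  refine pow_injective _ dvd_rfl n ?_
  show (h j * h k) ^ n • mapL (modF f C) _ (f • y) = (h j * h k) ^ n • 0
  rw [← map_smul, smul_comm, hc, smul_zero, ← map_smul, mapL_mk]
  refine (congrArg _ ((Submodule.Quotient.mk_eq_zero _).2 ?_)).trans (map_zero _)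
  exact Ideal.mem_span_singleton'.2 ⟨c, by rw [Algebra.smul_def, mul_comm]⟩

variable {h f C} [IsNoetherianRing A]

include hr1 hr2 in
theorem FS_finite [IsAdicComplete (Ideal.span {f}) A]
    (hfin : Module.Finite A (H0 h (C ⧸ (Ideal.span {algebraMap A C f}).restrictScalars A))) :
    Module.Finite A (FS h f C) := by
  haveI := hfin
  haveI : IsNoetherian A (H0 h (C ⧸ (Ideal.span {algebraMap A C f}).restrictScalars A)) :=
    isNoetherian_of_isNoetherianRing_of_finite A _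
  refine finite_of_separated (t := f) (FS h f C) (LinearMap.codRestrict _ (ev' h f C) (ev'_mem h f C))
    (fun s hs => FS_dvd hr1 hr2 ?_) fun s hs => FS_separated hs
  obtain ⟨z, hz, -⟩ := FS_cl s 0
  have h0 : map0 h (modF f C) z = 0 := (ev'_eq h f C hz).symm.trans (congrArg Subtype.val hs)
  choose y hy using fun j => exists_smul_of_mapL_modF f C (congrFun h0 j)
  show (s : ∀ n, Lv h f C n) 0 = 0
  rw [← hz]
  exact Ideal.Quotient.eq_zero_iff_mem.2 ((J_zero h f C).2 ⟨y, funext hy⟩)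

/-- An element which is a power of `x` modulo `f` and kills a module on which `x` is divisible by `f`. -/
theorem exists_killer {x : A} (Q : Type u) [AddCommGroup Q] [Module A Q] [Module.Finite A Q]
    (hQ : ∀ q : Q, ∃ (r : ℕ) (q' : Q), x ^ r • q = f • q') :
    ∃ (a b : A) (k : ℕ), a = x ^ k + f * b ∧ ∀ q : Q, a • q = 0 := by
  classical
  obtain ⟨S, hS⟩ := (Module.Finite.fg_top : (⊤ : Submodule A Q).FG)
  choose r q' hq using hQ
  let R := S.sup r
  have hR : ∀ q : Q, x ^ R • q ∈ Ideal.span {f} • (⊤ : Submodule A Q) := by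
    intro q
    have : (⊤ : Submodule A Q) ≤ (Ideal.span {f} • (⊤ : Submodule A Q)).comap (x ^ R • LinearMap.id) := by
      rw [← hS, Submodule.span_le]
      intro v hv
      show x ^ R • v ∈ Ideal.span {f} • Submodule.span A (S : Set Q)
      rw [← Nat.sub_add_cancel (show r v ≤ R from Finset.le_sup hv), pow_add, mul_smul, hq]
      exact Submodule.smul_mem _ _ (Submodule.smul_mem_smul (Ideal.mem_span_singleton_self f) (hS ▸ Submodule.mem_top))
    exact this Submodule.mem_top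
  obtain ⟨p, hp, -, hpc, hp0⟩ := LinearMap.exists_monic_and_natDegree_eq_and_coeff_mem_pow_and_aeval_eq_zero
    (R := A) (x ^ R • (LinearMap.id : Q →ₗ[A] Q)) (Ideal.span {f}) (by rintro _ ⟨q, rfl⟩; exact hR q)
  have hev : p.eval (x ^ R) - x ^ (R * p.natDegree) ∈ Ideal.span {f} := by
    rw [Polynomial.eval_eq_sum_range, Finset.sum_range_succ, hp.coeff_natDegree, one_mul, ← pow_mul, add_sub_cancel_right]
    refine Ideal.sum_mem _ fun i hi => Ideal.mul_mem_right _ _ ?_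
    exact Ideal.pow_le_self (by have := Finset.mem_range.1 hi; omega) (hpc i)
  obtain ⟨b, hb⟩ := Ideal.mem_span_singleton'.1 hev
  refine ⟨p.eval (x ^ R), b, R * p.natDegree, by rw [mul_comm f b, hb]; ring, fun q => ?_⟩
  have he : (x ^ R • (LinearMap.id : Q →ₗ[A] Q)) = algebraMap A (Module.End A Q) (x ^ R) := rfl
  rw [he, Polynomial.aeval_algebraMap_apply] at hp0
  have := LinearMap.congr_fun hp0 q
  simpa [Algebra.algebraMap_eq_smul_one, Polynomial.coe_aeval_eq_eval] using this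

theorem lin_aux {B P : Type u} [CommRing B] [Algebra A B] [CommRing P] [Algebra A P] (e : B →ₐ[A] P)
    (a b : A) (s t : B) : e (a • (b • s - t)) = a • (b • e s - e t) := by
  rw [map_smul, map_sub, map_smul]

theorem sub_aux {B : Type u} [CommRing B] [Algebra A B] (a b : A) (s t : B) :
    a • b • s = a • (b • s - t) + a • t := by
  rw [smul_sub, sub_add_cancel]

/-- An element killing a cokernel. -/
theorem exists_killer_range {x : A} {B P : Type u} [AddCommGroup B] [Module A B] [Module.Finite A B] [AddCommGroup P]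
    [Module A P] (τ : P →ₗ[A] B) (hτ : ∀ s, ∃ (r : ℕ) (s' : B) (c : P), x ^ r • s = f • s' + τ c) :
    ∃ (a b : A) (k : ℕ), a = x ^ k + f * b ∧ ∀ s, ∃ c, a • s = τ c := by
  obtain ⟨a, b, k, ha, hk⟩ := exists_killer (f := f) (x := x) (B ⧸ LinearMap.range τ) fun q => by
    obtain ⟨s, rfl⟩ := Submodule.Quotient.mk_surjective _ q
    obtain ⟨r, s', c, hs⟩ := hτ s
    refine ⟨r, Submodule.Quotient.mk s', ?_⟩
    rw [← Submodule.Quotient.mk_smul, ← Submodule.Quotient.mk_smul, Submodule.Quotient.eq, hs, add_sub_cancel_left]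
    exact ⟨c, rfl⟩
  refine ⟨a, b, k, ha, fun s => ?_⟩
  obtain ⟨c, hc⟩ := (Submodule.Quotient.mk_eq_zero (LinearMap.range τ)).1 (hk (Submodule.Quotient.mk s))
  exact ⟨c, hc.symm⟩

/-- Formal sections are sections near the divisor, in abstract form. -/
theorem exists_killers_aux [Fintype ι] [Module.Finite A C] {B : Type u} [CommRing B] [Algebra A B]
    [Module.Finite A B] (τ : C →ₐ[A] B) (e : B →ₐ[A] Lv h f C 0)
    (he0 : ∀ c, e (τ c) = Ideal.Quotient.mk _ (Φ h C c))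
    (hcl : ∀ s, ∃ z : C0 h C, Ideal.Quotient.mk _ z = e s ∧ ∀ j k, ∃ y, d0 h C z j k = f ^ (0 + 1) • y)
    (hreg : IsSMulRegular B f) (hdvd : ∀ s, e s = 0 → ∃ m, s = f • m) (l : ι) :
    ∃ (a b : A) (k : ℕ), a = h l ^ k + f * b ∧
      (∀ s : B, ∃ c, a • s = τ c) ∧ ∀ c, τ c = 0 → a • c = 0 := by
  let K : Submodule A C := LinearMap.ker (τ).toLinearMap
  haveI : Module.Finite A K := Module.Finite.iff_fg.2 (IsNoetherian.noetherian K)
  obtain ⟨a₁, b₁, k₁, ha₁, hk₁⟩ := exists_killer_range (f := f) (x := h l) (τ).toLinearMap fun (s : B) => by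
    obtain ⟨z, hz, hzd⟩ := hcl s
    obtain ⟨r, c, hc⟩ := exists_mk C (z l)
    -- the difference is divisible by `f` after multiplication by a power of `h l`
    let w : C0 h C := h l ^ r • z - Φ h C c
    have hwd : ∀ j, ∃ y, d0 h C w j l = f • y := fun j => by
      obtain ⟨y, hy⟩ := hzd j l
      refine ⟨h l ^ r • y, ?_⟩
      rw [map_sub, map_smul, d0_Φ, sub_zero, Pi.smul_apply, Pi.smul_apply, hy, zero_add, pow_one, smul_comm]
    have hwl : w l = 0 := sub_eq_zero.2 hc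
    have hloc : ∀ j, ∃ (k : ℕ) (y : L C (h j)), h l ^ k • w j = f • y := fun j => by
      obtain ⟨y, hy⟩ := hwd j
      rw [d0_apply, hwl, map_zero, sub_zero] at hy
      obtain ⟨k, v, hv⟩ := exists_res C (dvd_fst (h j) (h l)) (dvd_snd (h j) (h l)) dvd_rfl y
      obtain ⟨k', hk'⟩ := res_eq_zero C (dvd_fst (h j) (h l)) dvd_rfl (h l ^ k • w j - f • v) (by
        rw [map_sub, map_smul, map_smul, hy, hv, smul_comm, sub_self])
      refine ⟨k' + k, h l ^ k' • v, ?_⟩
      rw [pow_add, mul_smul, smul_comm f, ← sub_eq_zero, ← smul_sub, hk']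
    choose k y hy using hloc
    let K₀ := Finset.univ.sup k
    obtain ⟨m, hm⟩ := hdvd (h l ^ K₀ • (h l ^ r • s - τ c)) (by
      have he : e (h l ^ K₀ • (h l ^ r • s - τ c)) = Ideal.Quotient.mk (J h f C 0) (h l ^ K₀ • w) := by
        refine (lin_aux (e) _ _ _ _).trans ?_
        rw [← hz, he0]
        rw [← Ideal.Quotient.mkₐ_eq_mk A, ← map_smul, ← map_sub, ← map_smul]
      rw [he, Ideal.Quotient.eq_zero_iff_mem, J_zero]
      refine ⟨fun j => h l ^ (K₀ - k j) • y j, funext fun j => ?_⟩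
      show h l ^ K₀ • w j = f • (h l ^ (K₀ - k j) • y j)
      rw [smul_comm f, ← hy, smul_smul, ← pow_add, Nat.sub_add_cancel (Finset.le_sup (Finset.mem_univ j))])
    refine ⟨K₀ + r, m, h l ^ K₀ • c, ?_⟩
    rw [pow_add, mul_smul, ← hm, map_smul]
    exact sub_aux _ _ _ _
  obtain ⟨a₂, b₂, k₂, ha₂, hk₂⟩ := exists_killer (f := f) (x := h l) K fun q => by
    have h0 : Ideal.Quotient.mk (J h f C 0) (Φ h C (q : C)) = 0 := by
      rw [← he0, show τ (q : C) = 0 from q.2, map_zero]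
    obtain ⟨y, hy⟩ := (J_zero h f C).1 (Ideal.Quotient.eq_zero_iff_mem.1 h0)
    obtain ⟨r, c, hc⟩ := exists_mk C (y l)
    obtain ⟨k, hk⟩ := (mk_eq_zero C (x := h l)).1 (show mk C (h l) (h l ^ r • (q : C) - f • c) = 0 by
      rw [map_sub, map_smul, map_smul, show mk C (h l) (q : C) = f • y l from congrFun hy l, smul_comm, hc, sub_self])
    rw [smul_sub, sub_eq_zero] at hk
    have hτ : τ (h l ^ k • c) = 0 := hreg (show f • τ (h l ^ k • c) = f • 0 by
      rw [← map_smul, smul_comm, ← hk, map_smul, map_smul, show τ (q : C) = 0 from q.2, smul_zero, smul_zero,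
        smul_zero])
    exact ⟨k + r, ⟨h l ^ k • c, hτ⟩, Subtype.ext (by
      show h l ^ (k + r) • (q : C) = f • h l ^ k • c
      rw [pow_add, mul_smul, hk, smul_comm])⟩
  refine ⟨a₁ * a₂, b₁ * h l ^ k₂ + h l ^ k₁ * b₂ + f * b₁ * b₂, k₁ + k₂, by rw [ha₁, ha₂, pow_add]; ring,
    fun s => ?_, fun c hc => ?_⟩
  · obtain ⟨c, hc⟩ := hk₁ s
    exact ⟨a₂ • c, by rw [map_smul, mul_comm, mul_smul, hc]; rfl⟩
  · have h2 : a₂ • c = 0 := congrArg Subtype.val (hk₂ ⟨c, hc⟩)
    rw [mul_smul, h2, smul_zero]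

include hr1 hr2 in
/-- Formal sections are sections near the divisor. -/
theorem exists_killers [Fintype ι] [Module.Finite A C] [Module.Finite A (FS h f C)] (l : ι) :
    ∃ (a b : A) (k : ℕ), a = h l ^ k + f * b ∧
      (∀ s : FS h f C, ∃ c, a • s = τF h f C c) ∧ ∀ c, τF h f C c = 0 → a • c = 0 :=
  exists_killers_aux (h := h) (f := f) (C := C) (B := FS h f C) (τF h f C) (ev h f C) (fun _ => rfl) (fun s => FS_cl s 0) (FS_regular hr1)
    (fun _ hs => FS_dvd hr1 hr2 hs) l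

end Groth.Agent.Pi1Rig

end
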