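import Groth.Agent.Pi1Rig.Germ

/-!
# The neighbourhood form of full faithfulness
-/

set_option autoImplicit false
set_option linter.unusedSectionVars false
set_option linter.style.haveILetI false
set_option backward.isDefEq.respectTransparency false
set_option backward.isDefEq.respectTransparency.types false
universe u

open CategoryTheory CategoryTheory.Limits AlgebraicGeometry IsLocalRing

noncomputable section

namespace Groth.Agent.Pi1Rig

open Groth.Agent Groth.Agent.Pi1Alg Groth.Agent.Pi1Ext Groth.Agent.Pi1Ext.RegPurity Groth.Agent.Pi1Ext.PuritySch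

variable {A : Type u} [CommRing A] [IsLocalRing A] [IsNoetherianRing A]

theorem divisor_data (f : A) (U : (Spec (CommRingCat.of A)).Opens) (hU : U ≤ FEt.puncturedSpec A)
    (u' : pullback (FEt.puncturedSpec A).ι (Spec.map (CommRingCat.ofHom (Ideal.Quotient.mk (Ideal.span {f})))) ⟶ (U : Scheme.{u}))
    (hu' : u' ≫ U.ι = (pullback.fst (FEt.puncturedSpec A).ι (Spec.map (CommRingCat.ofHom (Ideal.Quotient.mk (Ideal.span {f})))) ≫ (FEt.puncturedSpec A).ι)) :
    IsClosedImmersion u' ∧ (∀ p : PrimeSpectrum A, f ∈ p.asIdeal → p ∈ FEt.puncturedSpec A → p ∈ U) ∧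
      Set.range u' = {x | f ∈ (U.ι x : PrimeSpectrum A).asIdeal} := by
  let P := FEt.puncturedSpec A
  let qm := Spec.map (CommRingCat.ofHom (Ideal.Quotient.mk (Ideal.span {f})))
  haveI : IsClosedImmersion qm := IsClosedImmersion.spec_of_surjective _ Ideal.Quotient.mk_surjective
  let m := (Spec (CommRingCat.of A)).homOfLE hU
  have hm : u' ≫ m = pullback.fst P.ι qm := by
    rw [← cancel_mono P.ι, Category.assoc, Scheme.homOfLE_ι]
    exact hu'
  haveI : IsClosedImmersion (pullback.fst P.ι qm) := MorphismProperty.pullback_fst _ _ ‹IsClosedImmersion qm›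
  haveI : IsClosedImmersion (u' ≫ m) := by rw [hm]; infer_instance
  have hz : ∀ z, U.ι (u' z) = P.ι (pullback.fst P.ι qm z) := fun z => by
    rw [← Scheme.Hom.comp_apply, ← Scheme.Hom.comp_apply, hu']

  have hrange : Set.range (pullback.fst P.ι qm) = {x | f ∈ (P.ι x : PrimeSpectrum A).asIdeal} := range_fst_quotient f
  refine ⟨IsClosedImmersion.of_comp u' m, fun p hfp hp => ?_, Set.ext fun x => ⟨?_, fun hx => ?_⟩⟩
  · obtain ⟨z, hz'⟩ : (⟨p, hp⟩ : (P : Scheme.{u})) ∈ Set.range (pullback.fst P.ι qm) := hrange.ge hfp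
    have h0 : U.ι (u' z) ∈ U := (u' z).2
    rw [hz z, hz'] at h0
    exact h0
  · rintro ⟨z, rfl⟩
    show f ∈ (U.ι (u' z) : PrimeSpectrum A).asIdeal
    rw [hz]
    exact hrange.le ⟨z, rfl⟩
  · obtain ⟨z, hz'⟩ : (⟨U.ι x, hU x.2⟩ : (P : Scheme.{u})) ∈ Set.range (pullback.fst P.ι qm) := hrange.ge hx
    refine ⟨z, U.ι.isOpenEmbedding.injective ?_⟩
    rw [hz, hz']
    rfl

end Groth.Agent.Pi1Rig

end
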