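import Groth.Agent.Pi1Alg.CI
import Groth.Agent.ParaRel.Depth
import Groth.Agent.ParaRel.Quot
import Groth.Agent.S0239
import Groth.Agent.S3378
import Groth.Agent.LinTop7.Misc
import Groth.Agent.FormalFib6.Cplt
import Mathlib.AlgebraicGeometry.IdealSheaf.Functorial

/-!
# Purity along an ideal with free associated graded
-/

set_option autoImplicit false
set_option linter.unusedSectionVars false
set_option linter.style.haveILetI false
set_option backward.isDefEq.respectTransparency false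
set_option backward.isDefEq.respectTransparency.types false
universe u

open CategoryTheory CategoryTheory.Limits AlgebraicGeometry IsLocalRing

noncomputable section

namespace Groth.Agent.Pi1Rig

open Groth.Agent Groth.Agent.Pi1Alg Groth.Agent.Pi1Ext Groth.Agent.Pi1Ext.RegPurity Groth.Agent.Pi1Ext.PuritySch

variable {A : Type u} [CommRing A] [IsLocalRing A] [IsNoetherianRing A] (J : Ideal A)

/-- The freeness of the graded pieces. -/
abbrev GrFree : Prop := ∀ n : ℕ, Module.Free (A ⧸ J) (↥(J ^ n) ⧸ (J • (⊤ : Submodule A ↥(J ^ n))))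

theorem three_le_depth [IsLocalRing (A ⧸ J)] (hgr : GrFree J) (hd : (3 : ℕ∞) ≤ LocCoh.depth (A ⧸ J) (A ⧸ J)) :
    (3 : ℕ∞) ≤ LocCoh.depth A A := by
  haveI hnt : Nontrivial (A ⧸ J) := inferInstance
  have hne : maximalIdeal A • (⊤ : Submodule A (A ⧸ J)) ≠ ⊤ := fun h =>
    Submodule.top_ne_ideal_smul_of_le_jacobson_annihilator (IsLocalRing.maximalIdeal_le_jacobson _) h.symm
  have hd' : (3 : ℕ∞) ≤ LocCoh.depth A (A ⧸ J) := (ParaRel.depth_quot J).symm ▸ hd
  obtain ⟨rs, hreg, hmem, hlen⟩ := Alg6.exists_length_ge_of_le_idealDepth hne (n := 3) hd'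
  have hA := ParaRel.isWeaklyRegular_of_pow (Ideal.Quotient.nontrivial_iff.1 hnt) rs hmem fun n =>
    ParaRel.isWeaklyRegular_pow hgr rs hreg (n + 1)
  show (3 : ℕ∞) ≤ LocCoh.idealDepth _ _
  unfold LocCoh.idealDepth
  split_ifs
  · exact le_top
  · exact le_iSup₂_of_le rs ⟨hA, hmem⟩ (by exact_mod_cast hlen)

theorem mem_smul_top_iff_coe {R : Type u} [CommRing R] (N I : Ideal R) (x : N) :
    x ∈ I • (⊤ : Submodule R N) ↔ (x : R) ∈ I * N := by
  have h : (I • (⊤ : Submodule R N)).map (Submodule.subtype N) = I * N := by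
    rw [Submodule.map_smul'', Submodule.map_top, Submodule.range_subtype]
    rfl
  rw [← h, Submodule.mem_map]
  exact ⟨fun hx => ⟨x, hx, rfl⟩, fun ⟨y, hy, hxy⟩ => Subtype.val_injective hxy ▸ hy⟩

variable {B : Type u} [CommRing B] [Algebra A B]

/-- Free graded pieces stay free if the images of bases stay independent. -/
theorem grFree_of_indep (hgr : GrFree J)
    (hind : ∀ (n : ℕ) (ι : Type u) (β : Module.Basis ι (A ⧸ J) (↥(J ^ n) ⧸ (J • (⊤ : Submodule A ↥(J ^ n)))))
      (e : ι → ↥(J ^ n)), (∀ k, Submodule.Quotient.mk (e k) = β k) → ∀ (s : Finset ι) (b : ι → B),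
      ∑ k ∈ s, b k * algebraMap A B (e k).1 ∈ (J.map (algebraMap A B)) ^ (n + 1) →
        ∀ k ∈ s, b k ∈ J.map (algebraMap A B)) :
    GrFree (J.map (algebraMap A B)) := by
  intro n
  haveI := hgr n
  let K := J.map (algebraMap A B)
  let Q := ↥(J ^ n) ⧸ (J • (⊤ : Submodule A ↥(J ^ n)))
  let β := Module.Free.chooseBasis (A ⧸ J) Q
  choose e he using fun k => Submodule.Quotient.mk_surjective _ (β k)
  have hK : K ^ n = (J ^ n).map (algebraMap A B) := (Ideal.map_pow _ J n).symm
  let e' : _ → ↥(K ^ n) := fun k => ⟨algebraMap A B (e k).1, hK ▸ Ideal.mem_map_of_mem _ (e k).2⟩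
  let v : _ → ↥(K ^ n) ⧸ (K • (⊤ : Submodule B ↥(K ^ n))) := fun k => Submodule.Quotient.mk (e' k)
  have hmem : ∀ {N : Ideal B} {x : N} {I : Ideal B}, x ∈ I • (⊤ : Submodule B N) ↔ (x : B) ∈ I * N :=
    fun {N x I} => mem_smul_top_iff_coe N I x
  have hmemA : ∀ {x : ↥(J ^ n)}, x ∈ J • (⊤ : Submodule A ↥(J ^ n)) ↔ (x : A) ∈ J ^ (n + 1) := fun {x} => by
    rw [pow_succ']; exact mem_smul_top_iff_coe _ _ x
  refine Module.Free.of_basis (Module.Basis.mk (v := v) ?_ ?_)
  · rw [linearIndependent_iff']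
    intro s c hc k hk
    choose b hb using fun k => Ideal.Quotient.mk_surjective (c k)
    have h1 : (Submodule.Quotient.mk (∑ k ∈ s, b k • e' k) : ↥(K ^ n) ⧸ (K • (⊤ : Submodule B ↥(K ^ n)))) = 0 := by
      rw [← hc, ← Submodule.mkQ_apply, map_sum]
      refine Finset.sum_congr rfl fun k _ => ?_
      rw [← hb k]
      rfl
    rw [Submodule.Quotient.mk_eq_zero, hmem, Submodule.coe_sum, ← pow_succ'] at h1
    rw [← hb k, Ideal.Quotient.eq_zero_iff_mem]
    exact hind n _ β e he s b h1 k hk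
  · rintro q -
    obtain ⟨⟨x, hx⟩, rfl⟩ := Submodule.Quotient.mk_surjective _ q
    let S := Submodule.span (B ⧸ K) (Set.range v)
    suffices h : ∀ x ∈ (J ^ n).map (algebraMap A B), ∀ hx : x ∈ K ^ n, (Submodule.Quotient.mk ⟨x, hx⟩ :
        ↥(K ^ n) ⧸ (K • (⊤ : Submodule B ↥(K ^ n)))) ∈ S from h x (hK ▸ hx) hx
    intro x hxm
    induction hxm using Submodule.span_induction with
    | mem y hy =>
      obtain ⟨z, hz, rfl⟩ := hy
      intro hx
      have hQ : (Submodule.Quotient.mk (⟨z, hz⟩ : ↥(J ^ n)) : Q) ∈ Submodule.span (A ⧸ J) (Set.range β) := by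
        rw [β.span_eq]; exact Submodule.mem_top
      rw [Finsupp.mem_span_range_iff_exists_finsupp] at hQ
      obtain ⟨c, hc⟩ := hQ
      choose a ha using fun k => Ideal.Quotient.mk_surjective (c k)
      have h1 : (Submodule.Quotient.mk (⟨z, hz⟩ - ∑ k ∈ c.support, a k • e k : ↥(J ^ n)) : Q) = 0 := by
        rw [Submodule.Quotient.mk_sub, sub_eq_zero, ← hc, ← Submodule.mkQ_apply, map_sum, Finsupp.sum]
        refine Finset.sum_congr rfl fun k _ => ?_
        rw [← he k, ← ha k]
        rfl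
      rw [Submodule.Quotient.mk_eq_zero, hmemA, AddSubgroupClass.coe_sub, Submodule.coe_sum] at h1
      have h2 : (⟨algebraMap A B z, hx⟩ - ∑ k ∈ c.support, algebraMap A B (a k) • e' k : ↥(K ^ n)) ∈
          K • (⊤ : Submodule B ↥(K ^ n)) := by
        rw [hmem, AddSubgroupClass.coe_sub, Submodule.coe_sum, ← pow_succ', ← Ideal.map_pow]
        convert Ideal.mem_map_of_mem (algebraMap A B) h1 using 1
        rw [map_sub, map_sum]
        simp only [Submodule.coe_smul, smul_eq_mul, map_mul]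
        rfl
      rw [(Submodule.Quotient.eq _).2 h2, ← Submodule.mkQ_apply, map_sum]
      refine Submodule.sum_mem _ fun k _ => ?_
      exact Submodule.smul_mem S (Ideal.Quotient.mk K (algebraMap A B (a k))) (Submodule.subset_span ⟨k, rfl⟩)
    | zero =>
      intro hx
      exact (show (Submodule.Quotient.mk (0 : ↥(K ^ n)) : ↥(K ^ n) ⧸ _) ∈ S from S.zero_mem)
    | add y z hy hz ihy ihz =>
      intro hx
      have := S.add_mem (ihy (hK ▸ hy)) (ihz (hK ▸ hz))
      exact this
    | smul r y hy ih =>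
      intro hx
      exact S.smul_mem (Ideal.Quotient.mk K r) (ih (hK ▸ hy))

/-- Free graded pieces stay free along a flat map which is surjective modulo the ideal. -/
theorem grFree_map [Module.FaithfullyFlat A B] (hB : ∀ b : B, ∃ a : A, b - algebraMap A B a ∈ J.map (algebraMap A B))
    (hgr : GrFree J) : GrFree (J.map (algebraMap A B)) := by
  refine grFree_of_indep J hgr fun n ι β e he s b h1 k hk => ?_
  let K := J.map (algebraMap A B)
  choose a ha using fun k => hB (b k)
  have h2 : algebraMap A B (∑ k ∈ s, a k * (e k).1) ∈ (J ^ (n + 1)).map (algebraMap A B) := by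
    rw [Ideal.map_pow, map_sum]
    have h3 : ∑ k ∈ s, (b k * algebraMap A B (e k).1 - algebraMap A B (a k * (e k).1)) ∈ K ^ (n + 1) := by
      refine Ideal.sum_mem _ fun k _ => ?_
      rw [map_mul, ← sub_mul, pow_succ']
      exact Ideal.mul_mem_mul (ha k) (Ideal.map_pow (algebraMap A B) J n ▸ Ideal.mem_map_of_mem _ (e k).2)
    rw [Finset.sum_sub_distrib] at h3
    exact ((K ^ (n + 1)).sub_mem_iff_right h1).1 h3
  rw [← Ideal.mem_comap, Ideal.comap_map_eq_self_of_faithfullyFlat, pow_succ', ← smul_eq_mul] at h2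
  have h4 : ∑ k ∈ s, Ideal.Quotient.mk J (a k) • β k = 0 := by
    have : (Submodule.Quotient.mk (∑ k ∈ s, a k • e k) : ↥(J ^ n) ⧸ (J • (⊤ : Submodule A ↥(J ^ n)))) = 0 := by
      rw [Submodule.Quotient.mk_eq_zero, mem_smul_top_iff_coe, Submodule.coe_sum]
      exact h2
    rw [← this, ← Submodule.mkQ_apply, map_sum]
    refine Finset.sum_congr rfl fun k _ => ?_
    rw [← he k]
    rfl
  have h5 : a k ∈ J := Ideal.Quotient.eq_zero_iff_mem.1 (linearIndependent_iff'.1 β.linearIndependent s _ h4 k hk)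
  rw [show b k = (b k - algebraMap A B (a k)) + algebraMap A B (a k) by ring]
  exact add_mem (ha k) (Ideal.mem_map_of_mem _ h5)

/-- Free graded pieces stay free along a flat map. -/
theorem grFree_flat [Module.Flat A B] (hgr : GrFree J) : GrFree (J.map (algebraMap A B)) := by
  refine grFree_of_indep J hgr fun n ι β e he s b h1 k hk => ?_
  classical
  let K := J.map (algebraMap A B)
  let φ : ↥(J ^ n) →ₗ[A] A ⧸ J := (β.coord k).restrictScalars A ∘ₗ Submodule.mkQ _
  let ψ : A ⧸ J →ₗ[A] B ⧸ K :=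
    (Ideal.quotientMapₐ (R₁ := A) K (Algebra.ofId A B) Ideal.le_comap_map).toLinearMap
  let Φ : TensorProduct A B ↥(J ^ n) →ₗ[A] B ⧸ K := TensorProduct.lift
    (LinearMap.mk₂ A (fun c x => Ideal.Quotient.mk K c * ψ (φ x)) (fun c d x => by rw [map_add, add_mul])
      (fun r c x => by
        rw [Algebra.smul_def, map_mul, mul_assoc, Algebra.smul_def]
        rfl)
      (fun c x y => by rw [map_add, map_add, mul_add])
      (fun r c x => by rw [map_smul, map_smul, mul_smul_comm]))
  let μ : TensorProduct A B ↥(J ^ n) →ₗ[A] B := TensorProduct.lift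
    (LinearMap.mk₂ A (fun c x => c * algebraMap A B x.1) (fun c d x => add_mul _ _ _)
      (fun r c x => smul_mul_assoc r c _)
      (fun c x y => by rw [Submodule.coe_add, map_add, mul_add])
      (fun r c x => by
        rw [Submodule.coe_smul, smul_eq_mul, map_mul, Algebra.smul_def, mul_left_comm]))
  have hμ : Function.Injective μ := by
    have h : μ = ((TensorProduct.rid A B).toLinearMap ∘ₗ LinearMap.lTensor B (J ^ n).subtype) :=
      TensorProduct.ext' fun c x => by simp [μ, Algebra.smul_def, mul_comm]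
    rw [h, LinearMap.coe_comp]
    exact (TensorProduct.rid A B).injective.comp
      (Module.Flat.lTensor_preserves_injective_linearMap (M := B) _ Subtype.val_injective)
  have hz : ∀ y ∈ (J ^ (n + 1)).map (algebraMap A B), ∃ z, μ z = y ∧ Φ z = 0 := fun y hy => by
    induction hy using Submodule.span_induction with
    | mem y hy =>
      obtain ⟨x, hx, rfl⟩ := hy
      have hx' : x ∈ J ^ n := Ideal.pow_le_pow_right n.le_succ hx
      refine ⟨1 ⊗ₜ ⟨x, hx'⟩, one_mul _, ?_⟩
      have h0 : (Submodule.Quotient.mk (⟨x, hx'⟩ : ↥(J ^ n)) : ↥(J ^ n) ⧸ (J • (⊤ : Submodule A ↥(J ^ n)))) = 0 := by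
        rw [Submodule.Quotient.mk_eq_zero, mem_smul_top_iff_coe]
        rwa [pow_succ'] at hx
      show Ideal.Quotient.mk K 1 * ψ (β.coord k (Submodule.Quotient.mk _)) = 0
      rw [h0, map_zero, map_zero, mul_zero]
    | zero => exact ⟨0, map_zero _, map_zero _⟩
    | add y z _ _ iy iz =>
      obtain ⟨u, hu, hu'⟩ := iy
      obtain ⟨v, hv, hv'⟩ := iz
      exact ⟨u + v, by rw [map_add, hu, hv], by rw [map_add, hu', hv', add_zero]⟩
    | smul r y _ iy =>
      obtain ⟨u, hu, hu'⟩ := iy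
      refine ⟨LinearMap.rTensor _ (LinearMap.mulLeft A r) u, ?_, ?_⟩
      · have h : ∀ u, μ (LinearMap.rTensor _ (LinearMap.mulLeft A r) u) = r * μ u :=
          LinearMap.congr_fun (f := μ ∘ₗ LinearMap.rTensor _ (LinearMap.mulLeft A r)) (g := LinearMap.mulLeft A r ∘ₗ μ)
            (TensorProduct.ext' fun c x => mul_assoc r c _)
        rw [h, hu, smul_eq_mul]
      · have h : ∀ u, Φ (LinearMap.rTensor _ (LinearMap.mulLeft A r) u) = Ideal.Quotient.mk K r * Φ u :=
          LinearMap.congr_fun (f := Φ ∘ₗ LinearMap.rTensor _ (LinearMap.mulLeft A r))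
            (g := LinearMap.mulLeft A (Ideal.Quotient.mk K r) ∘ₗ Φ)
            (TensorProduct.ext' fun c x => by
              show Ideal.Quotient.mk K (r * c) * ψ (φ x) = Ideal.Quotient.mk K r * (Ideal.Quotient.mk K c * ψ (φ x))
              rw [map_mul, mul_assoc])
        rw [h, hu', mul_zero]
  rw [← Ideal.map_pow] at h1
  obtain ⟨z, hz1, hz2⟩ := hz _ h1
  have hz3 : z = ∑ j ∈ s, b j ⊗ₜ e j := hμ (by rw [hz1, map_sum]; rfl)
  rw [hz3, map_sum, Finset.sum_eq_single k] at hz2
  · rw [← Ideal.Quotient.eq_zero_iff_mem]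
    have : φ (e k) = 1 := by
      show β.coord k (Submodule.Quotient.mk (e k)) = 1
      rw [he, Module.Basis.coord_apply, Module.Basis.repr_self, Finsupp.single_eq_same]
    rw [← mul_one (Ideal.Quotient.mk K (b k)), ← map_one (Ideal.quotientMapₐ (R₁ := A) K (Algebra.ofId A B) Ideal.le_comap_map), ← this]
    exact hz2
  · intro j _ hj
    show Ideal.Quotient.mk K (b j) * ψ (β.coord k (Submodule.Quotient.mk (e j))) = 0
    rw [he, Module.Basis.coord_apply, Module.Basis.repr_self, Finsupp.single_eq_of_ne' hj, map_zero, mul_zero]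
  · exact fun h => absurd hk h

/-- Purity of a henselian pair from the quotient and full faithfulness. -/
theorem purityHolds_of_ff (I : Ideal A) [HenselianRing A I] [IsLocalRing (A ⧸ I)]
    (hff : (FEt.restrict ((Spec.map (CommRingCat.ofHom (Ideal.Quotient.mk I))).ker.comap
        (FEt.puncturedSpec A).ι).subschemeι).Full ∧
      (FEt.restrict ((Spec.map (CommRingCat.ofHom (Ideal.Quotient.mk I))).ker.comap
        (FEt.puncturedSpec A).ι).subschemeι).Faithful)
    (h0 : FEt.PurityHolds (A ⧸ I)) : FEt.PurityHolds A := by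
  obtain ⟨hfull, hfaith⟩ := hff
  haveI := S0239.result A I
  let P := FEt.puncturedSpec A
  let qm := Spec.map (CommRingCat.ofHom (Ideal.Quotient.mk I))
  haveI : IsClosedImmersion qm := IsClosedImmersion.spec_of_surjective _ Ideal.Quotient.mk_surjective
  let a : (qm.ker.comap P.ι).subscheme ⟶ pullback P.ι qm :=
    (qm.ker.comapIso P.ι).hom ≫ pullback.map _ _ P.ι qm (𝟙 _) (inv qm.toImage) (𝟙 _) (by simp)
      (by
        show qm.imageι ≫ 𝟙 _ = inv qm.toImage ≫ qm
        rw [Category.comp_id, IsIso.eq_inv_comp, Scheme.Hom.toImage_imageι])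
  haveI : IsIso a := inferInstance
  have ha : a ≫ pullback.fst P.ι qm = (qm.ker.comap P.ι).subschemeι := by
    rw [Category.assoc, pullback.lift_fst, Category.comp_id, Scheme.IdealSheafData.comapIso_hom_fst]
  refine ⟨fun V => ?_⟩
  obtain ⟨w, hw⟩ := exists_puncturedSpec_quot_iso I
  -- extend the restriction over the quotient
  obtain ⟨Y₀, ⟨e₀⟩⟩ := h0.mem_essImage ((FEt.restrict w.inv).obj ((FEt.restrict (pullback.fst P.ι qm)).obj V))
  obtain ⟨Y, ⟨eY⟩⟩ := Functor.EssSurj.mem_essImage (F := FEt.restrict qm) Y₀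
  refine ⟨Y, ⟨(FEt.restrict (qm.ker.comap P.ι).subschemeι).preimageIso ?_⟩⟩
  exact restrictSquare _ _ (a ≫ pullback.snd P.ι qm) qm
    (by rw [← ha, Category.assoc, Category.assoc, pullback.condition]; simp only [a, Category.assoc]) Y ≪≫
    (FEt.restrict _).mapIso eY ≪≫ (restrictComp (a ≫ w.hom) _ _ (by rw [Category.assoc, hw]) Y₀).symm ≪≫
    (FEt.restrict _).mapIso e₀ ≪≫ restrictComp _ w.inv a (by rw [Category.assoc, w.hom_inv_id, Category.comp_id]) _ ≪≫
    restrictComp a _ _ ha V

/-- Purity and depth from an ideal with free graded pieces. -/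
theorem purity_of_grFree (hJ : J ≠ ⊤) [IsLocalRing (A ⧸ J)] (hd : (3 : ℕ∞) ≤ LocCoh.depth (A ⧸ J) (A ⧸ J))
    (hgr : GrFree J) (h0 : FEt.PurityHolds (A ⧸ J)) : FEt.PurityHolds A := by
  have hle : J ≤ maximalIdeal A := IsLocalRing.le_maximalIdeal hJ
  have hfg : J.FG := IsNoetherian.noetherian J
  let A' := AdicCompletion J A
  haveI : IsNoetherianRing A' := FormalFib6.isNoetherianRing_adicCompletion A J
  haveI := LinTop7.isLocalRing_adicCompletion J hfg hle
  have hm : (maximalIdeal A).map (algebraMap A A') = maximalIdeal A' :=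
    IsLocalRing.eq_maximalIdeal (AdicCompletion.isMaximal_map_of_le J _ hle hfg)
  haveI : IsLocalHom (algebraMap A A') := by
    refine ((IsLocalRing.local_hom_TFAE (algebraMap A A')).out 0 2).2 ?_
    exact hm.le
  haveI : Module.FaithfullyFlat A A' := Module.FaithfullyFlat.of_flat_of_isLocalHom
  let J' := J.map (algebraMap A A')
  haveI : IsAdicComplete J' A' := AdicCompletion.isAdicComplete_self J hfg
  have hsur : ∀ (k : ℕ) (b : A'), ∃ a : A, b - algebraMap A A' a ∈ (J ^ k).map (algebraMap A A') := fun k b => by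
    obtain ⟨a, ha⟩ := Submodule.Quotient.mk_surjective _ (AdicCompletion.eval J A k b)
    refine ⟨a, ?_⟩
    have h : b - algebraMap A A' a ∈ (J ^ k • ⊤ : Submodule A A') := by
      rw [AdicCompletion.pow_smul_top_eq_ker_eval (M := A) hfg, LinearMap.mem_ker, map_sub, sub_eq_zero, ← ha]
      rfl
    rwa [Ideal.smul_top_eq_map, Submodule.restrictScalars_mem] at h
  have h1 : ∀ b : A', ∃ a : A, b - algebraMap A A' a ∈ J' := fun b => by simpa using hsur 1 b
  let π : A ⧸ J →+* A' ⧸ J' := Ideal.quotientMap J' (algebraMap A A') Ideal.le_comap_map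
  have hπ : Function.Bijective π := by
    refine ⟨Ideal.quotientMap_injective' (Ideal.comap_map_eq_self_of_faithfullyFlat J).le, fun b => ?_⟩
    obtain ⟨b, rfl⟩ := Ideal.Quotient.mk_surjective b
    obtain ⟨a, ha⟩ := h1 b
    exact ⟨Ideal.Quotient.mk J a, ((Ideal.Quotient.mk_eq_mk_iff_sub_mem _ _).2 ha).symm⟩
  let e := RingEquiv.ofBijective π hπ
  haveI : IsLocalRing (A' ⧸ J') := e.isLocalRing
  have hd' : (3 : ℕ∞) ≤ LocCoh.depth (A' ⧸ J') (A' ⧸ J') :=
    hd.trans_eq (Alg6.depth_eq_of_semilinear e.toRingHom e.surjective e.toAddEquiv fun r x => map_mul e r x)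
  have hJ' : J' ≠ ⊤ := fun h => (maximalIdeal.isMaximal A').ne_top
    (top_le_iff.1 (h.symm.le.trans ((Ideal.map_mono hle).trans hm.le)))
  obtain ⟨⟨-, -, hff⟩, -⟩ := S3378.result A' J' hJ' hd' (grFree_map J h1 hgr)
  have hA' : FEt.PurityHolds A' := purityHolds_of_ff J' hff (purityHolds_of_ringEquiv e h0)
  obtain ⟨w, hw⟩ := exists_punctured_baseChange (A := A) (A' := A') hm
  refine ⟨fun V => ?_⟩
  obtain ⟨Y', ⟨e'⟩⟩ := hA'.mem_essImage ((FEt.restrict w.inv).obj ((FEt.restrict (pullback.fst _ _)).obj V))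
  obtain ⟨Y, hY⟩ := exists_extend_of_baseChange hm
    (fun k b => by
      obtain ⟨a, ha⟩ := hsur k b
      exact ⟨a, Ideal.map_mono (Ideal.pow_right_mono hle k) ha⟩) V ⟨Y',
    ⟨(restrictComp w.hom _ _ hw Y').symm ≪≫ (FEt.restrict w.hom).mapIso e' ≪≫
      restrictComp w.hom w.inv _ w.hom_inv_id _ ≪≫ restrictId _⟩⟩
  exact ⟨Y, hY⟩

end Groth.Agent.Pi1Rig

end
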