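import Groth.Agent.Pi1Rig.Kill
import Groth.Agent.S1711
import Groth.Agent.S1715
import Groth.Agent.FlatLoc6.SerreNormal
import Groth.Agent.ZClosLib.HullIff
import Mathlib.RingTheory.Ideal.Height

/-!
# The height-one hull of a domain with a dualizing complex is finite
-/

set_option autoImplicit false
set_option linter.unusedSectionVars false
set_option linter.style.haveILetI false
set_option backward.isDefEq.respectTransparency false
universe u

open CategoryTheory CategoryTheory.Limits

noncomputable section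

namespace Groth.Agent.Pi1Rig

open Groth.Agent Groth.Agent.Pi1Alg

variable {C : Type u} [CommRing C]

theorem zeroLocus_subset_iff_le_radical (I J : Ideal C) :
    PrimeSpectrum.zeroLocus (J : Set C) ⊆ PrimeSpectrum.zeroLocus (I : Set C) ↔ I ≤ J.radical :=
  PrimeSpectrum.zeroLocus_subset_zeroLocus_iff J I

/-- Local cohomology with supports in a closed set. -/
theorem nonempty_HT_iso_zeroLocus [IsNoetherianRing C] (I : Ideal C) (i : ℕ) :
    Nonempty (localCohomology I i ≅
      localCohomology.ofDiagram.{u, u} (Dual2.idealsInDiagram (PrimeSpectrum.zeroLocus (I : Set C))) i) := by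
  let T : Set (PrimeSpectrum C) := PrimeSpectrum.zeroLocus (I : Set C)
  let F : localCohomology.SelfLERadical I ⥤ Dual2.IdealsIn T :=
    ObjectProperty.ιOfLE fun J hJ => (zeroLocus_subset_iff_le_radical I J).2 hJ
  let G : Dual2.IdealsIn T ⥤ localCohomology.SelfLERadical I :=
    ObjectProperty.ιOfLE fun J hJ => (zeroLocus_subset_iff_le_radical I J).1 hJ
  haveI : F.IsEquivalence := (CategoryTheory.Equivalence.mk F G (Iso.refl _) (Iso.refl _)).isEquivalence_functor
  exact ⟨(localCohomology.isoSelfLERadical I i).symm ≪≫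
    (localCohomology.isoOfFinal.{u, u, u} F (Dual2.idealsInDiagram T) i)⟩

/-- Annihilation of the low local cohomology of a ring, from depths and chains of primes. -/
theorem exists_ideal_kills [IsNoetherianRing C] (hC : ∃ ω : Dual.D C, Dual.IsDualizing C ω) (I J₀ : Ideal C)
    (hIJ : J₀ ≤ I.radical) (s : ℕ)
    (hc : ∀ p q : PrimeSpectrum C, ¬ J₀ ≤ p.asIdeal → I ≤ q.asIdeal → p ≤ q → (s : WithBot ℕ∞) <
      (LocCoh.depth (Localization.AtPrime p.asIdeal) (LocalizedModule p.asIdeal.primeCompl C) : WithBot ℕ∞) +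
        Order.krullDim (Set.Icc p q)) :
    ∃ J : Ideal C, J₀ ≤ J.radical ∧ ∀ i ≤ s, ∀ a ∈ J, ∀ x : LocCoh.H I i C, a • x = 0 := by
  let T : Set (PrimeSpectrum C) := PrimeSpectrum.zeroLocus (I : Set C)
  let T' : Set (PrimeSpectrum C) := PrimeSpectrum.zeroLocus (J₀ : Set C)
  obtain ⟨J, hJ, hkill⟩ := (S1711.result C hC T T' (PrimeSpectrum.isClosed_zeroLocus _).stableUnderSpecialization
    (PrimeSpectrum.isClosed_zeroLocus _).stableUnderSpecialization ((zeroLocus_subset_iff_le_radical J₀ I).2 hIJ) s C).2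
    fun p q hp hq hpq => hc p q hp hq hpq
  refine ⟨J, (zeroLocus_subset_iff_le_radical J₀ J).1 hJ, fun i hi a ha x => ?_⟩
  obtain ⟨eF⟩ := nonempty_HT_iso_zeroLocus I i
  let e := (eF.app (ModuleCat.of C C)).toLinearEquiv
  exact e.injective (by rw [map_smul, hkill i hi a ha, map_zero])

theorem one_le_depth_of_ne_bot [IsNoetherianRing C] [IsDomain C] (p : Ideal C) [p.IsPrime] (hp : p ≠ ⊥) :
    (1 : ℕ∞) ≤ LocCoh.depth (Localization.AtPrime p) (LocalizedModule p.primeCompl C) := by
  rw [Groth.Agent.Alg6.one_le_depth_atPrime_iff]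
  intro h
  obtain ⟨-, z, hz⟩ := Groth.Agent.Alg6.mem_ass_iff.mp h
  obtain ⟨a, ha, ha0⟩ := Submodule.exists_mem_ne_zero_of_ne_bot hp
  have := (hz a).mp ha
  rw [smul_eq_mul, mul_eq_zero] at this
  have hz0 : z = 0 := this.resolve_left ha0
  exact (Ideal.IsPrime.ne_top ‹_›) ((Ideal.eq_top_iff_one _).mpr ((hz 1).mpr (by rw [hz0, smul_zero])))

theorem one_le_krullDim_Icc {X : Type*} [PartialOrder X] {p q : X} (hpq : p < q) :
    (1 : WithBot ℕ∞) ≤ Order.krullDim (Set.Icc p q) := by
  let l : LTSeries (Set.Icc p q) :=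
    ⟨1, ![⟨p, le_rfl, hpq.le⟩, ⟨q, hpq.le, le_rfl⟩], fun i => by
      rw [Subsingleton.elim i 0]
      show p < q
      exact hpq⟩
  exact Order.LTSeries.length_le_krullDim l

theorem height_le_krullDim_Icc [IsDomain C] (q : PrimeSpectrum C) :
    (q.asIdeal.height : WithBot ℕ∞) ≤ Order.krullDim (Set.Icc (⟨⊥, Ideal.isPrime_bot⟩ : PrimeSpectrum C) q) := by
  rw [q.height_eq_orderHeight, Order.height_eq_krullDim_Iic]
  exact Order.krullDim_le_of_strictMono (fun r : Set.Iic q => ⟨r.1, bot_le (a := r.1.asIdeal), r.2⟩) fun a b h => h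

theorem exists_pow_div {x : C} (n : ℕ) (z : L C x) : ∃ y : L C x, x ^ n • y = z :=
  ((Module.End.isUnit_iff _).1 (units_of_dvd C dvd_rfl (⟨x ^ n, n, rfl⟩ : Submonoid.powers x))).2 z

/-- The primes in the way of extending sections. -/
theorem exists_bad_ideal [IsNoetherianRing C] [IsDomain C] (hC : ∃ ω : Dual.D C, Dual.IsDualizing C ω) :
    ∃ I : Ideal C, (∀ q : Ideal C, q.IsPrime → I ≤ q → (2 : ℕ∞) ≤ q.height) ∧
      ∀ x ∈ EGA4.heightOneHull C, ∀ g ∈ I, ∃ (n : ℕ) (c : C),
        algebraMap C (FractionRing C) (g ^ n) * x = algebraMap C (FractionRing C) c := by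
  classical
  let K := FractionRing C
  have hS1 : LocCoh.HasSk 1 C C := (FlatLoc6.hasSk_self_iff 1).2 fun p _ => by
    rw [← FlatLoc6.depth_self_atPrime]
    rcases eq_or_ne p ⊥ with rfl | hp
    · rw [Ideal.height_bot]; simp
    · exact (min_le_left _ _).trans (by exact_mod_cast one_le_depth_of_ne_bot p hp)
  have hfin := S1715.result C hC C 1 hS1
  let S := hfin.toFinset
  let I : Ideal C := S.inf fun p => p.asIdeal
  refine ⟨I, fun q hq hIq => ?_, fun x hx g hg => ?_⟩
  · obtain ⟨p, hp, hpq⟩ := (Ideal.IsPrime.inf_le' hq).1 hIq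
    have h1 := (hfin.mem_toFinset.1 hp).2
    rw [FlatLoc6.supportDim_self_atPrime] at h1
    have h2 : (1 : ℕ∞) < p.asIdeal.height := by exact_mod_cast h1
    exact le_trans (Order.add_one_le_of_lt h2) (Ideal.height_mono hpq)
  · obtain ⟨⟨c, b⟩, hxb⟩ := IsLocalization.surj (nonZeroDivisors C) x
    -- the ideal of denominators
    let D : Ideal C := (Ideal.span {(b : C)}).colon {c}
    have hb0 : (b : C) ≠ 0 := nonZeroDivisors.ne_zero b.2
    have hbK : algebraMap C K b ≠ 0 := fun h => hb0 (IsFractionRing.injective C K (h.trans (map_zero _).symm))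
    have hD : ∀ d : C, d ∈ D ↔ ∃ e : C, d * c = b * e := fun d => by
      rw [Submodule.mem_colon_singleton, smul_eq_mul, Ideal.mem_span_singleton]
      rfl
    suffices hrad : g ∈ D.radical by
      obtain ⟨n, hn⟩ := hrad
      obtain ⟨e, he⟩ := (hD _).1 hn
      refine ⟨n, e, mul_right_cancel₀ hbK ?_⟩
      rw [mul_assoc, hxb, ← map_mul, he, map_mul, mul_comm]
    rw [Ideal.radical_eq_sInf, Ideal.mem_sInf]
    intro P hP
    obtain ⟨hDP, hPp⟩ := hP
    obtain ⟨Q, hQ, hQP⟩ := Ideal.exists_minimalPrimes_le (I := D) (J := P) hDP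
    refine hQP ?_
    haveI : Q.IsPrime := hQ.1.1
    have hbQ : (b : C) ∈ Q := hQ.1.2 ((hD _).2 ⟨c, rfl⟩)
    have hQ0 : Q ≠ ⊥ := fun h => hb0 (by rw [h] at hbQ; exact Ideal.mem_bot.1 hbQ)
    have hQ1 : Q.height ≠ 1 := fun h1 => by
      obtain ⟨s, hs, a, ha⟩ := hx Q h1
      refine hs (hQ.1.2 ((hD s).2 ⟨a, IsFractionRing.injective C K ?_⟩))
      rw [map_mul, ← hxb, ← mul_assoc, ← ha, map_mul, mul_comm]
    have hQ2 : (1 : ℕ∞) < Q.height :=
      lt_of_le_of_ne (Order.one_le_iff_ne_zero.2 fun h => hQ0 (Ideal.height_eq_zero_iff_eq_bot.1 h)) (Ne.symm hQ1)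
    have hass : Q ∈ associatedPrimes C (QuotSMulTop (b : C) C) := by
      have hann : Q ∈ (Submodule.span C {(Submodule.Quotient.mk c : QuotSMulTop (b : C) C)}).annihilator.minimalPrimes := by
        have : (Submodule.span C {(Submodule.Quotient.mk c : QuotSMulTop (b : C) C)}).annihilator = D := by
          ext d
          rw [Submodule.mem_annihilator_span_singleton, ← Submodule.Quotient.mk_smul,
            Groth.Agent.Alg6.mem_pointwise_smul_top_iff, hD]
          simp only [smul_eq_mul, eq_comm]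
        rw [this]
        exact hQ
      let m := (Submodule.Quotient.mk c : QuotSMulTop (b : C) C)
      have hsupp : (⟨Q, inferInstance⟩ : PrimeSpectrum C) ∈ Module.support C (Submodule.span C {m}) := by
        rw [Module.support_eq_zeroLocus, ← Submodule.annihilator]
        exact (PrimeSpectrum.mem_zeroLocus _ _).2 hann.1.2
      exact AssociatedPrimes.mem_iff.2 ((Module.associatedPrimes.minimalPrimes_annihilator_subset_associatedPrimes
        C (Submodule.span C {m}) hann).map_of_injective _ (Submodule.injective_subtype _))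
    have hreg : IsSMulRegular C (b : C) := fun u v h => mul_left_cancel₀ hb0 h
    have hd2 := mt (Groth.Agent.Alg6.two_le_depth_atPrime_iff Q hbQ hreg).1 (not_not.2 hass)
    have hd1 := one_le_depth_of_ne_bot Q hQ0
    have hmem : (⟨Q, inferInstance⟩ : PrimeSpectrum C) ∈ S := hfin.mem_toFinset.2 ⟨by
      refine le_antisymm ?_ (by exact_mod_cast hd1)
      exact_mod_cast Order.le_of_lt_add_one (not_le.1 hd2), by
      rw [FlatLoc6.supportDim_self_atPrime]
      exact_mod_cast hQ2⟩
    exact (Finset.inf_le hmem : I ≤ Q) hg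

/-- The height-one hull of a domain with a dualizing complex is finite. -/
theorem heightOneHullFinite_of_dualizing [IsNoetherianRing C] [IsDomain C]
    (hC : ∃ ω : Dual.D C, Dual.IsDualizing C ω) : EGA4.HeightOneHullFinite C := by
  classical
  let K := FractionRing C
  obtain ⟨I, hI2, hIx⟩ := exists_bad_ideal hC
  obtain ⟨r, g, hg⟩ := Submodule.fg_iff_exists_fin_generating_family.1 (IsNoetherian.noetherian I)
  have hidl : idl g = I := hg
  obtain ⟨J, hJ, hkill⟩ := exists_ideal_kills hC I I Ideal.le_radical 1 fun p q hp hq hpq => by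
    rcases eq_or_ne p.asIdeal ⊥ with h0 | h0
    · rw [show p = ⟨⊥, Ideal.isPrime_bot⟩ from PrimeSpectrum.ext h0]
      refine lt_of_lt_of_le ?_ (le_add_of_nonneg_left (WithBot.coe_nonneg.2 bot_le))
      refine lt_of_lt_of_le ?_ (height_le_krullDim_Icc q)
      exact_mod_cast lt_of_lt_of_le (by norm_num : (1 : ℕ∞) < 2) (hI2 q.asIdeal q.2 hq)
    · have hlt : p < q := lt_of_le_of_ne hpq fun e => hp (e ▸ hq)
      refine lt_of_lt_of_le (by norm_num : ((1 : ℕ) : WithBot ℕ∞) < 1 + 1) (add_le_add ?_ (one_le_krullDim_Icc hlt))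
      exact_mod_cast one_le_depth_of_ne_bot p.asIdeal h0
  obtain ⟨b, hbJ, hb0⟩ : ∃ b ∈ J, b ≠ 0 := by
    refine Submodule.exists_mem_ne_zero_of_ne_bot fun h => ?_
    have h0 : I ≤ (⊥ : Ideal C) := by
      refine hJ.trans ?_
      rw [h, Ideal.isPrime_bot.radical]
    exact absurd (hI2 ⊥ Ideal.isPrime_bot h0) (by rw [Ideal.height_bot]; norm_num)
  have hb : ∀ x ∈ EGA4.heightOneHull C, ∃ c : C, algebraMap C K b * x = algebraMap C K c := by
    intro x hx
    choose n c hc using fun j => hIx x hx (g j) (hg ▸ Ideal.subset_span ⟨j, rfl⟩ : g j ∈ I)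
    choose z hz using fun j => (exists_pow_div (C := C) (n j) (mk C (g j) (c j)))
    have hzH : z ∈ H0 g C := by
      refine (mem_H0 g C).2 fun i j => pow_injective C dvd_rfl (n i + n j) ?_
      show (g i * g j) ^ (n i + n j) • res C (dvd_fst (g i) (g j)) (z i) =
        (g i * g j) ^ (n i + n j) • res C (dvd_snd (g i) (g j)) (z j)
      rw [show (g i * g j) ^ (n i + n j) = (g i ^ n j * g j ^ (n i + n j)) * g i ^ n i by ring, mul_smul,
        ← map_smul (res C (dvd_fst (g i) (g j))), hz, res_mk,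
        show (g i ^ n j * g j ^ (n i + n j)) * g i ^ n i = (g i ^ (n i + n j) * g j ^ n i) * g j ^ n j by ring,
        mul_smul (g i ^ (n i + n j) * g j ^ n i) (g j ^ n j),
        ← map_smul (res C (dvd_snd (g i) (g j))) (g j ^ n j), hz, res_mk]
      simp only [← map_smul, ← mul_smul]
      congr 1
      refine IsFractionRing.injective C K ?_
      rw [smul_eq_mul, smul_eq_mul]
      simp only [map_mul, map_pow]
      have h1 := hc i
      have h2 := hc j
      rw [map_pow] at h1 h2
      rw [← h1, ← h2]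
      ring
    obtain ⟨m, hm⟩ := smul_H0_mem_range g C (f := b) (n := 1) (by rw [hidl, pow_one]; exact hkill 1 le_rfl b hbJ) hzH
    refine ⟨m, ?_⟩
    by_cases hr : ∀ j, g j = 0
    · have : I ≤ (⊥ : Ideal C) := by
        rw [← hg]
        exact Ideal.span_le.2 (Set.range_subset_iff.2 fun j => Ideal.mem_bot.2 (hr j))
      exact absurd (hI2 ⊥ Ideal.isPrime_bot this) (by rw [Ideal.height_bot]; norm_num)
    push_neg at hr
    obtain ⟨j, hj⟩ := hr
    have h3 : mk C (g j) (g j ^ n j • m) = mk C (g j) (b * c j) := by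
      rw [map_smul, show mk C (g j) m = (b ^ 1 • z) j from congrFun hm j, Pi.smul_apply, pow_one, smul_comm, hz,
        ← map_smul, smul_eq_mul]
    obtain ⟨k, hk⟩ := (mk_eq_zero C).1 (show mk C (g j) (g j ^ n j • m - b * c j) = 0 by rw [map_sub, h3, sub_self])
    rw [smul_eq_mul, mul_eq_zero, sub_eq_zero, smul_eq_mul] at hk
    have h4 := congrArg (algebraMap C K) (hk.resolve_left (pow_ne_zero _ hj))
    rw [map_mul, map_mul, ← hc j] at h4
    refine mul_left_cancel₀ (show algebraMap C K (g j ^ n j) ≠ 0 from fun h =>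
      pow_ne_zero _ hj (IsFractionRing.injective C K (h.trans (map_zero _).symm))) ?_
    rw [h4]
    ring
  refine ⟨ZClosLib.hullAlg C, rfl, ?_⟩
  have hbK : algebraMap C K b ≠ 0 := fun h => hb0 (IsFractionRing.injective C K (h.trans (map_zero _).symm))
  let φ : ↥(ZClosLib.hullAlg C) →ₗ[C] ↥(LinearMap.range (Algebra.linearMap C K)) :=
    LinearMap.codRestrict _ ((b • LinearMap.id : K →ₗ[C] K) ∘ₗ (ZClosLib.hullAlg C).val.toLinearMap) fun x => by
      obtain ⟨c, hc⟩ := hb x.1 x.2
      exact ⟨c, by rw [Algebra.linearMap_apply, ← hc, ← Algebra.smul_def]; rfl⟩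
  refine Module.Finite.of_injective φ fun x y h => Subtype.ext (mul_left_cancel₀ hbK ?_)
  have := congrArg Subtype.val h
  change b • (x : K) = b • (y : K) at this
  rwa [Algebra.smul_def, Algebra.smul_def] at this

end Groth.Agent.Pi1Rig

end
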