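import Groth.Agent.Pi1Rig.Kill
import Groth.Agent.Pi1Alg.Core

/-!
# Idempotent sections and their reductions modulo `f`
-/

set_option autoImplicit false
set_option linter.unusedSectionVars false
set_option backward.isDefEq.respectTransparency false
universe u

noncomputable section

namespace Groth.Agent.Pi1Rig

open Groth.Agent Groth.Agent.Pi1Alg

variable {A : Type u} [CommRing A] {ι : Type} (g : ι → A) (f : A) (C : Type u) [CommRing C] [Algebra A C]

/-- Idempotents modulo `f` compatible on overlaps lift to idempotent sections. -/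
def IdemLift : Prop :=
  ∀ e₀ : C0 g C, (∀ j, ∃ y, e₀ j * e₀ j - e₀ j = f • y) → (∀ j k, ∃ y, d0 g C e₀ j k = f • y) →
    ∃ e ∈ H0 g C, e * e = e ∧ ∃ y, e - e₀ = f • y

/-- Idempotent sections congruent modulo `f` are equal. -/
def IdemInj : Prop :=
  ∀ e e' : C0 g C, e ∈ H0 g C → e' ∈ H0 g C → e * e = e → e' * e' = e' → (∃ y, e - e' = f • y) → e = e'

theorem dvd_sub_of_idem {R : Type u} [CommRing R] {ε a b : R} {m : ℕ} (ha : ε ^ m ∣ a * a - a)
    (hb : ε ^ m ∣ b * b - b) (hab : ε ∣ a - b) : ε ^ m ∣ a - b := by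
  let q := Ideal.Quotient.mk (Ideal.span {ε ^ m})
  have key : ∀ {x : R}, ε ^ m ∣ x ↔ q x = 0 := fun {x} => by
    rw [Ideal.Quotient.eq_zero_iff_mem, Ideal.mem_span_singleton]
  rw [key, map_sub, map_mul, sub_eq_zero] at ha hb
  rw [key, map_sub, sub_eq_zero]
  refine eq_of_isNilpotent_sub_of_isIdempotentElem ha hb ⟨m, ?_⟩
  obtain ⟨c, hc⟩ := hab
  rw [← map_sub, ← map_pow, ← key, hc, mul_pow]
  exact dvd_mul_right _ _

theorem smul_iff_dvd {R : Type u} [CommRing R] [Algebra A R] {r : A} {x : R} :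
    (∃ y, x = r • y) ↔ algebraMap A R r ∣ x := by
  simp only [Algebra.smul_def]
  rfl

theorem d0_dvd {e : C0 g C} {m : ℕ} (he : ∀ j, ∃ y, e j * e j - e j = f ^ m • y)
    (hd : ∀ j k, ∃ y, d0 g C e j k = f • y) (j k : ι) : ∃ y, d0 g C e j k = f ^ m • y := by
  rw [smul_iff_dvd, map_pow, d0_apply]
  have hres : ∀ {x y : A} (h : x ∣ y) (z : L C x), (∃ w, z * z - z = f ^ m • w) →
      algebraMap A (L C y) f ^ m ∣ res C h z * res C h z - res C h z := fun h z ⟨w, hw⟩ => by
    rw [← map_pow, ← smul_iff_dvd]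
    exact ⟨res C h w, by rw [← res_mul, ← map_sub, hw, map_smul]⟩
  exact dvd_sub_of_idem (hres _ _ (he j)) (hres _ _ (he k))
    (smul_iff_dvd.1 (by simpa only [d0_apply] using hd j k))

variable [IsNoetherianRing A] [Fintype ι] [Module.Finite A C] {f} {n : ℕ}
  (hf : f ∈ Ideal.jacobson (⊥ : Ideal A))
  (hA : ∀ z ∈ H0 g A, f ^ n • z ∈ LinearMap.range (Φ g A)) (hC : LS g C A)

include hf hA hC in
theorem idemInj : IdemInj g f C := fun e e' he he' hi hi' hy => by
  refine sub_eq_zero.1 (eq_zero_of_forall_dvd g hA hf hC (sub_mem he he') fun m => ?_)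
  rw [smul_iff_dvd] at hy ⊢
  rw [map_pow]
  exact dvd_sub_of_idem (by rw [hi, sub_self]; exact dvd_zero _) (by rw [hi', sub_self]; exact dvd_zero _) hy

include hA hC in
theorem idemLift [IsAdicComplete (Ideal.span {f}) A] (hf : f ∈ Ideal.jacobson (⊥ : Ideal A)) (hfg : f ∈ (idl g).radical)
    (h2 : ∀ c ∈ Z1 g A, f ^ n • c ∈ B1 g A) : IdemLift g f C := by
  intro e₀ he₀ hd₀
  let F : C0 g C → C0 g C := fun e => 3 * e ^ 2 - 2 * e ^ 3
  let s : ℕ → C0 g C := fun k => F^[k] e₀
  have hsucc : ∀ k, s (k + 1) = F (s k) := fun k => Function.iterate_succ_apply' F k e₀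
  let ε : C0 g C := algebraMap A (C0 g C) f
  have h1 : ∀ k, ε ^ (k + 1) ∣ s k * s k - s k := by
    intro k
    induction k with
    | zero =>
      choose y hy using he₀
      refine ⟨y, funext fun j => ?_⟩
      show e₀ j * e₀ j - e₀ j = _
      rw [hy j, Algebra.smul_def, pow_one]
      rfl
    | succ k ih =>
      refine dvd_trans (pow_dvd_pow ε (show k + 1 + 1 ≤ 2 * (k + 1) by omega)) ?_
      rw [hsucc, show F (s k) * F (s k) - F (s k) =
        (s k * s k - s k) ^ 2 * (4 * (s k) ^ 2 - 4 * s k - 3) by simp only [F]; ring, two_mul, pow_add, pow_two]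
      exact dvd_mul_of_dvd_left (mul_dvd_mul ih ih) _
  have hdiff : ∀ k, ε ^ (k + 1) ∣ s (k + 1) - s k := fun k => by
    rw [hsucc, show F (s k) - s k = (s k * s k - s k) * (1 - 2 * s k) by simp only [F]; ring]
    exact dvd_mul_of_dvd_left (h1 k) _
  have hd1 : ∀ k j l, ∃ y, d0 g C (s k) j l = f • y := by
    intro k
    induction k with
    | zero => exact hd₀
    | succ k ih =>
      intro j l
      obtain ⟨y, hy⟩ := ih j l
      obtain ⟨w, hw⟩ := hdiff k
      refine ⟨y + f ^ k • d0 g C w j l, ?_⟩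
      rw [show s (k + 1) = s k + f ^ (k + 1) • w by rw [Algebra.smul_def, map_pow, ← hw, add_sub_cancel],
        map_add, map_smul, Pi.add_apply, Pi.add_apply, Pi.smul_apply, Pi.smul_apply, hy, pow_succ', mul_smul, smul_add]
  obtain ⟨z, hz, hzs⟩ := exists_limit g hA hfg hC h2 s (fun k => by
      rw [smul_iff_dvd, map_pow]
      exact (pow_dvd_pow ε (Nat.le_succ k)).trans (hdiff k))
    fun k => by
      choose c hc using fun j l => d0_dvd g f C (e := s k) (m := k + 1) (fun j => by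
        obtain ⟨y, hy⟩ := smul_iff_dvd.2 (show algebraMap A (C0 g C) (f ^ (k + 1)) ∣ s k * s k - s k by
          rw [map_pow]; exact h1 k)
        exact ⟨y j, congrFun hy j⟩) (hd1 k) j l
      refine ⟨f • fun j l => c j l, funext fun j => funext fun l => ?_⟩
      show _ = f ^ k • f • c j l
      rw [hc, smul_smul, ← pow_succ]
  have hidem : z * z = z := by
    refine sub_eq_zero.1 (funext fun j => ?_)
    have hzz : z * z - z ∈ H0 g C := by
      refine sub_mem ((mem_H0 g C).2 fun a b => ?_) hz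
      simp only [Pi.mul_apply, res_mul, (mem_H0 g C).1 hz a b]
    refine congrFun (eq_zero_of_forall_dvd g hA hf hC hzz fun m => ?_) j
    rw [smul_iff_dvd, map_pow]
    have h3 : ε ^ m ∣ z - s m := by
      obtain ⟨y, hy⟩ := hzs m
      exact ⟨y, by rw [hy, Algebra.smul_def, map_pow]⟩
    rw [show z * z - z = (z - s m) * (z + s m - 1) + (s m * s m - s m) by ring]
    exact dvd_add (dvd_mul_of_dvd_left h3 _) ((pow_dvd_pow ε (Nat.le_succ m)).trans (h1 m))
  refine ⟨z, hz, hidem, ?_⟩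
  rw [smul_iff_dvd]
  obtain ⟨y, hy⟩ := hzs 1
  have h4 : ε ∣ s 1 - e₀ := (dvd_pow_self ε one_ne_zero).trans (hdiff 0)
  have h5 : ε ∣ z - s 1 := ⟨y, by rw [hy, Algebra.smul_def, pow_one]⟩
  rw [show z - e₀ = (z - s 1) + (s 1 - e₀) by ring]
  exact dvd_add h5 h4

end Groth.Agent.Pi1Rig

end
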