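import Groth.Agent.S2851
import Groth.Agent.KrullAki.Basic
import Groth.Prelude.Def_FEt
import Mathlib.AlgebraicGeometry.Morphisms.Preimmersion
import Mathlib.AlgebraicGeometry.Morphisms.ClosedImmersion

/-!
# Morphisms that are isomorphisms off a closed point
-/

set_option autoImplicit false
set_option linter.style.haveILetI false
set_option backward.isDefEq.respectTransparency false
set_option backward.isDefEq.respectTransparency.types false
universe u

open CategoryTheory CategoryTheory.Limits AlgebraicGeometry IsLocalRing TopologicalSpace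

noncomputable section

namespace Groth.Agent.Pi1Rig.IsoOff

/-- In a ring between a one dimensional noetherian local domain and its fraction field, a prime
contracting to a nonzero prime is maximal. -/
theorem isMaximal_of_fractions {A D : Type u} [CommRing A] [IsDomain A] [IsNoetherianRing A]
    [Ring.KrullDimLE 1 A] [CommRing D] [IsDomain D] [Algebra A D]
    (hinj : Function.Injective (algebraMap A D))
    (hfrac : ∀ e : D, ∃ a b : A, b ≠ 0 ∧ e * algebraMap A D b = algebraMap A D a)
    {P : Ideal D} [P.IsPrime] (hP : P ≠ ⊥) : P.IsMaximal := by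
  let K := FractionRing D
  haveI : FaithfulSMul A D := (faithfulSMul_iff_algebraMap_injective A D).2 hinj
  haveI : IsScalarTower A D K := inferInstance
  have hDK : Function.Injective (algebraMap D K) := IsFractionRing.injective D K
  have hAK : Function.Injective (algebraMap A K) := by
    rw [IsScalarTower.algebraMap_eq A D K]; exact hDK.comp hinj
  haveI : FaithfulSMul A K := (faithfulSMul_iff_algebraMap_injective A K).2 hAK
  haveI : IsFractionRing A K := IsFractionRing.of_field _ _ fun z => by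
    obtain ⟨p, q, hq, rfl⟩ := IsFractionRing.div_surjective (A := D) z
    have hq0 : algebraMap D K q ≠ 0 := IsFractionRing.to_map_ne_zero_of_mem_nonZeroDivisors hq
    obtain ⟨a, b, hb, hab⟩ := hfrac p
    obtain ⟨c, d, hd, hcd⟩ := hfrac q
    refine ⟨a * d, b * c, ?_⟩
    have hb0 : algebraMap A K b ≠ 0 := by
      simpa using hAK.ne hb
    have hd0 : algebraMap A K d ≠ 0 := by
      simpa using hAK.ne hd
    have e1 : algebraMap D K p * algebraMap A K b = algebraMap A K a := by
      rw [IsScalarTower.algebraMap_apply A D K b, IsScalarTower.algebraMap_apply A D K a, ← map_mul, hab]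
    have e2 : algebraMap D K q * algebraMap A K d = algebraMap A K c := by
      rw [IsScalarTower.algebraMap_apply A D K d, IsScalarTower.algebraMap_apply A D K c, ← map_mul, hcd]
    rw [map_mul, map_mul, ← e1, ← e2, div_eq_div_iff hq0 (by simp [hb0, hd0, hq0])]
    ring
  let B : Subalgebra A K := (IsScalarTower.toAlgHom A D K).range
  let e : D ≃ₐ[A] B := AlgEquiv.ofInjective (IsScalarTower.toAlgHom A D K) hDK
  haveI : Ring.KrullDimLE 1 B := KrullAki.krullDimLE_one_subalgebra B
  haveI : Ring.KrullDimLE 1 D := Ring.krullDimLE_iff.2 <| by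
    rw [ringKrullDim_eq_of_ringEquiv e.toRingEquiv]
    exact Ring.krullDimLE_iff.1 inferInstance
  exact Ring.krullDimLE_one_iff_of_noZeroDivisors.1 ‹Ring.KrullDimLE 1 D› P hP ‹_›

variable {X Y : Scheme.{u}}

theorem stalkMap_surjective_of_iso_off (g : X ⟶ Y) (Y' : Y.Opens) [IsOpenImmersion (g ∣_ Y')]
    (x : X) (hx : g x ∈ Y') : Function.Surjective (g.stalkMap x).hom := by
  have h : Function.Surjective ((g ∣_ Y').stalkMap ⟨x, hx⟩).hom :=
    (ConcreteCategory.bijective_of_isIso ((g ∣_ Y').stalkMap ⟨x, hx⟩)).2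
  exact ((MorphismProperty.surjective CommRingCat.{u}).arrow_mk_iso_iff
    (morphismRestrictStalkMap g Y' ⟨x, hx⟩)).1 h

/-- A point over a closed point of the punctured spectrum does not specialise to a point having a
proper specialisation in the closed fibre. -/
theorem not_specializes [IsLocallyNoetherian Y] (g : X ⟶ Y) (Y' : Y.Opens) [IsOpenImmersion (g ∣_ Y')]
    (z z' : X) (hz : g z = g z') (hsp : z ⤳ z') (hne : z ≠ z') (hyY' : g z' ∉ Y')
    (t : Spec (Y.presheaf.stalk (g z'))) (htY' : Y.fromSpecStalk (g z') t ∈ Y')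
    (htmax : ∀ p : Spec (Y.presheaf.stalk (g z')), t ⤳ p → p = t ∨ p = closedPoint (Y.presheaf.stalk (g z')))
    (x : X) (hx : g x = Y.fromSpecStalk (g z') t) : ¬ x ⤳ z := by
  intro hxz
  let R := Y.presheaf.stalk (g z')
  let S := X.presheaf.stalk z'
  let f := Y.fromSpecStalk (g z')
  let fz := X.fromSpecStalk z'
  let φ : R ⟶ S := g.stalkMap z'
  have hw : Spec.map φ ≫ f = fz ≫ g := Scheme.SpecMap_stalkMap_fromSpecStalk g
  have hfw : ∀ w, f ((Spec.map φ) w) = g (fz w) := fun w => by
    rw [← Scheme.Hom.comp_apply, hw, Scheme.Hom.comp_apply]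
  obtain ⟨q, hq⟩ : x ∈ Set.range fz := by
    rw [Scheme.range_fromSpecStalk]; exact hxz.trans hsp
  obtain ⟨r, hr⟩ : z ∈ Set.range fz := by
    rw [Scheme.range_fromSpecStalk]; exact hsp
  have hqt : (Spec.map φ) q = t := f.isEmbedding.injective (by rw [hfw, hq, hx])
  have hrc : (Spec.map φ) r = closedPoint R := f.isEmbedding.injective (by
    rw [hfw, hr, hz]; exact Scheme.fromSpecStalk_closedPoint.symm)
  have hqr : q ⤳ r := by
    rw [← fz.isEmbedding.isInducing.specializes_iff, hq, hr]; exact hxz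
  have htc : t ≠ closedPoint R := fun h => hyY' (by
    rw [h, Scheme.fromSpecStalk_closedPoint] at htY'; exact htY')
  have hsurj : Function.Surjective ((Spec.map φ).stalkMap q).hom := by
    have h1 : Function.Surjective ((fz ≫ g).stalkMap q).hom := by
      rw [Scheme.Hom.stalkMap_comp, CommRingCat.hom_comp, RingHom.coe_comp]
      refine (fz.stalkMap_surjective q).comp (stalkMap_surjective_of_iso_off g Y' (fz q) ?_)
      rw [hq, hx]; exact htY'
    rw [Scheme.Hom.stalkMap_congr_hom _ _ hw.symm q, Scheme.Hom.stalkMap_comp] at h1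
    simp only [CommRingCat.hom_comp, RingHom.coe_comp] at h1
    exact (Function.Surjective.of_comp h1).of_comp
  have hloc : Function.Surjective (Localization.localRingHom ((Spec.map φ) q).asIdeal q.asIdeal φ.hom rfl) :=
    ((MorphismProperty.surjective CommRingCat.{u}).arrow_mk_iso_iff
      (Scheme.arrowStalkMapSpecIso φ q)).1 hsurj
  let D := S ⧸ (q : PrimeSpectrum S).asIdeal
  let ψ : R →+* D := (Ideal.Quotient.mk _).comp φ.hom
  have hker : RingHom.ker ψ = (t : PrimeSpectrum R).asIdeal := by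
    rw [← hqt]; ext a; rw [RingHom.mem_ker, RingHom.comp_apply, Ideal.Quotient.eq_zero_iff_mem]; rfl
  haveI : IsDomain D := Ideal.Quotient.isDomain _
  let A := R ⧸ RingHom.ker ψ
  haveI : (RingHom.ker ψ).IsPrime := RingHom.ker_isPrime ψ
  haveI : Ring.KrullDimLE 1 A := by
    rw [Ring.krullDimLE_one_iff_of_noZeroDivisors]
    intro P hP hPp
    let p : PrimeSpectrum R := ⟨P.comap (Ideal.Quotient.mk _), inferInstance⟩
    have hle : (t : PrimeSpectrum R).asIdeal ≤ p.asIdeal := by
      rw [← hker]; intro a ha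
      show Ideal.Quotient.mk (RingHom.ker ψ) a ∈ P
      rw [Ideal.Quotient.eq_zero_iff_mem.2 ha]; exact zero_mem _
    obtain h | h := htmax p ((PrimeSpectrum.le_iff_specializes _ _).1 hle)
    · refine absurd ?_ hP
      rw [eq_bot_iff]; intro a ha
      obtain ⟨a, rfl⟩ := Ideal.Quotient.mk_surjective a
      have : a ∈ p.asIdeal := ha
      rw [h, ← hker] at this
      exact Ideal.Quotient.eq_zero_iff_mem.2 this
    · rw [← Ideal.map_comap_of_surjective _ Ideal.Quotient.mk_surjective P,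
        show P.comap (Ideal.Quotient.mk _) = maximalIdeal R from congrArg PrimeSpectrum.asIdeal h]
      haveI := maximalIdeal.isMaximal R
      exact Ideal.IsMaximal.map_of_surjective_of_ker_le Ideal.Quotient.mk_surjective
        (le_maximalIdeal (RingHom.ker_isPrime _).ne_top)
  letI : Algebra A D := (RingHom.kerLift ψ).toAlgebra
  have hrP : (q : PrimeSpectrum S).asIdeal ≤ (r : PrimeSpectrum S).asIdeal :=
    (PrimeSpectrum.le_iff_specializes _ _).2 hqr
  let P : Ideal D := (r : PrimeSpectrum S).asIdeal.map (Ideal.Quotient.mk _)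
  have hcP : P.comap (Ideal.Quotient.mk _) = (r : PrimeSpectrum S).asIdeal := by
    rw [Ideal.comap_map_of_surjective _ Ideal.Quotient.mk_surjective, ← RingHom.ker_eq_comap_bot,
      Ideal.mk_ker, sup_eq_left.2 hrP]
  haveI : P.IsPrime := Ideal.map_isPrime_of_surjective Ideal.Quotient.mk_surjective (by rw [Ideal.mk_ker]; exact hrP)
  have hP : P ≠ ⊥ := fun h => by
    rw [h, ← RingHom.ker_eq_comap_bot, Ideal.mk_ker] at hcP
    have hqr' : q = r := PrimeSpectrum.ext hcP
    exact htc (by rw [← hqt, hqr', hrc])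
  have hfr : ∀ e : D, ∃ a b : A, b ≠ 0 ∧ e * algebraMap A D b = algebraMap A D a := by
    intro e
    obtain ⟨e, rfl⟩ := Ideal.Quotient.mk_surjective e
    obtain ⟨u, hu⟩ := hloc (algebraMap S _ e)
    obtain ⟨⟨a, b⟩, rfl⟩ := IsLocalization.mk'_surjective ((Spec.map φ) q).asIdeal.primeCompl u
    rw [Localization.localRingHom_mk', IsLocalization.mk'_eq_iff_eq_mul] at hu
    obtain ⟨c, hc⟩ := (IsLocalization.eq_iff_exists (q : PrimeSpectrum S).asIdeal.primeCompl
      (Localization.AtPrime (q : PrimeSpectrum S).asIdeal)).1 (hu.trans (map_mul _ _ _).symm)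
    refine ⟨Ideal.Quotient.mk _ a, Ideal.Quotient.mk _ (b : R), fun h => b.2 ?_, ?_⟩
    · have h' := Ideal.Quotient.eq_zero_iff_mem.1 h
      rwa [hker, ← hqt] at h'
    · show Ideal.Quotient.mk _ e * ψ (b : R) = ψ a
      have h := congrArg (Ideal.Quotient.mk (q : PrimeSpectrum S).asIdeal) hc
      simp only [map_mul] at h
      have hc0 : Ideal.Quotient.mk (q : PrimeSpectrum S).asIdeal (c : S) ≠ 0 :=
        fun h => c.2 (Ideal.Quotient.eq_zero_iff_mem.1 h)
      exact (mul_left_cancel₀ hc0 h).symm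
  haveI := isMaximal_of_fractions (A := A) (D := D) (RingHom.kerLift_injective ψ) hfr hP
  haveI : (r : PrimeSpectrum S).asIdeal.IsMaximal := by
    rw [← hcP]; exact Ideal.comap_isMaximal_of_surjective _ Ideal.Quotient.mk_surjective
  refine hne ?_
  rw [← hr, show r = closedPoint S from PrimeSpectrum.ext (IsLocalRing.eq_maximalIdeal ‹_›)]
  exact Scheme.fromSpecStalk_closedPoint

/-- If a morphism of locally noetherian schemes is an open immersion off a closed point over which
condition (W) holds, a maximal point of the fibre has local ring of dimension at most one unless it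
has no proper specialisation in the fibre. -/
theorem dim_le_one [IsLocallyNoetherian X] [IsLocallyNoetherian Y] (g : X ⟶ Y) (z z' : X)
    (hgz : g z = g z') (hsp : z ⤳ z') (hne : z ≠ z') (Y' : Y.Opens) (hY' : (Y' : Set ↥Y) = {g z'}ᶜ)
    [IsOpenImmersion (g ∣_ Y')]
    (hW : (∀ U : (Spec (Y.presheaf.stalk (g z'))).Opens, ∀ hU : U ≤ FEt.puncturedSpec ↑(Y.presheaf.stalk (g z')),
        (∀ T ∈ irreducibleComponents ↥(FEt.puncturedSpec ↑(Y.presheaf.stalk (g z'))), ¬ Subtype.val '' T ⊆ (U : Set _)) →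
        IsAffineHom ((Spec (Y.presheaf.stalk (g z'))).homOfLE hU) → IsAffineOpen U))
    (hmax : ∀ w : X, g w = g z' → w ⤳ z → w = z) : ringKrullDim (X.presheaf.stalk z) ≤ 1 := by
  let R := Y.presheaf.stalk (g z')
  let f := Y.fromSpecStalk (g z')
  let P := FEt.puncturedSpec R
  have memY' : ∀ w : Y, w ∈ Y' ↔ w ≠ g z' := fun w => Set.ext_iff.1 hY' w
  have hfP : ∀ p, f p ∈ Y' ↔ p ∈ P := fun p => by
    rw [memY']
    refine ⟨fun h hp => h (by rw [show p = closedPoint R from hp]; exact Scheme.fromSpecStalk_closedPoint), fun h hp => h (f.isEmbedding.injective (hp.trans Scheme.fromSpecStalk_closedPoint.symm))⟩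
  haveI : NoetherianSpace (Spec R) := inferInstanceAs (NoetherianSpace (PrimeSpectrum R))
  haveI : NoetherianSpace ↥P := (Topology.IsInducing.subtypeVal (t := (P : Set ↥(Spec R)))).noetherianSpace
  -- closed points of the components of the punctured spectrum
  have hpick : ∀ T : irreducibleComponents ↥P, ∃ t : P, t ∈ T.1 ∧ IsClosed ({t} : Set P) := fun T => by
    haveI : CompactSpace ↥P := inferInstanceAs (CompactSpace ↥(P : Set ↥(Spec R)))
    obtain ⟨t, ht, htc⟩ := (isClosed_of_mem_irreducibleComponents _ T.2).exists_closed_singleton T.2.1.1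
    exact ⟨t, ht, htc⟩
  choose t htT htc using hpick
  haveI : Finite (irreducibleComponents ↥P) := NoetherianSpace.finite_irreducibleComponents.to_subtype
  let bad : Set X := ⋃ T, g ⁻¹' {f (t T).1}
  have hbad : bad.Finite := Set.finite_iUnion fun T => Set.Subsingleton.finite fun a ha b hb => by
    have haY : g a ∈ Y' := by rw [show g a = _ from ha]; exact (hfP _).2 (t T).2
    have hbY : g b ∈ Y' := by rw [show g b = _ from hb]; exact (hfP _).2 (t T).2
    refine congrArg Subtype.val ((g ∣_ Y').isOpenEmbedding.injective (a₁ := ⟨a, haY⟩) (a₂ := ⟨b, hbY⟩) (Subtype.ext ?_))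
    rw [morphismRestrict_base_coe, morphismRestrict_base_coe]
    exact ha.trans hb.symm
  let C : Set X := ⋃ x ∈ bad, closure {x}
  have hC : IsClosed C := hbad.isClosed_biUnion fun _ _ => isClosed_closure
  have hzC : z ∉ C := by
    simp only [C, Set.mem_iUnion, exists_prop, not_exists, not_and]
    intro x hx hxz
    obtain ⟨T, hT⟩ := Set.mem_iUnion.1 hx
    refine not_specializes g Y' z z' hgz hsp hne (fun h => (memY' _).1 h rfl) (t T).1 ((hfP _).2 (t T).2) ?_ x hT
      (specializes_iff_mem_closure.2 hxz)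
    intro p hp
    by_cases hpc : p = closedPoint R
    · exact Or.inr hpc
    · have : (⟨p, hpc⟩ : P) ∈ closure ({t T} : Set P) := specializes_iff_mem_closure.1 ((subtype_specializes_iff (⟨_, (t T).2⟩ : P) ⟨p, hpc⟩).2 hp)
      rw [(htc T).closure_eq] at this
      exact Or.inl (congrArg Subtype.val this)
  obtain ⟨V, hV, hyV, -⟩ := exists_isAffineOpen_mem_and_subset (x := g z') (U := ⊤) trivial
  obtain ⟨W, hWaff, hzW, hWle⟩ := exists_isAffineOpen_mem_and_subset (x := z)
    (U := g ⁻¹ᵁ V ⊓ ⟨Cᶜ, hC.isOpen_compl⟩) ⟨show g z ∈ V from hgz ▸ hyV, hzC⟩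
  -- the open of the base covered by the part of `W` off the fibre
  let G : Y.Opens := Y'.ι ''ᵁ ((g ∣_ Y') ''ᵁ ((g ⁻¹ᵁ Y').ι ⁻¹ᵁ W))
  have memG : ∀ w : Y, w ∈ G ↔ w ∈ Y' ∧ ∃ x ∈ W, g x = w := fun w => by
    constructor
    · rintro ⟨v, ⟨x, hx, rfl⟩, rfl⟩
      exact ⟨((g ∣_ Y') x).2, x.1, hx, (morphismRestrict_base_coe g Y' x).symm⟩
    · rintro ⟨hw, x, hx, rfl⟩
      exact ⟨⟨g x, hw⟩, ⟨⟨x, hw⟩, hx, Subtype.ext (morphismRestrict_base_coe g Y' _)⟩, rfl⟩
  have hGD : ∀ a : Γ(Y, V), Y.basicOpen a ≤ Y' → IsAffineOpen (G ⊓ Y.basicOpen a) := fun a ha => by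
    have e : W ⊓ g ⁻¹ᵁ Y.basicOpen a = X.basicOpen ((X.presheaf.map (homOfLE (hWle.trans inf_le_left)).op) (g.app V a)) := by
      rw [Scheme.basicOpen_res, Scheme.preimage_basicOpen]
    have h1 : IsAffineOpen ((g ⁻¹ᵁ Y').ι ⁻¹ᵁ (W ⊓ g ⁻¹ᵁ Y.basicOpen a)) := by
      rw [e]
      refine (hWaff.basicOpen _).preimage_of_isOpenImmersion _ ?_
      rw [Scheme.Opens.opensRange_ι, ← e]
      exact inf_le_right.trans fun x hx => ha hx
    have h2 := (h1.image_of_isOpenImmersion (g ∣_ Y')).image_of_isOpenImmersion Y'.ι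
    convert h2 using 1
    ext w
    constructor
    · rintro ⟨hw, hwa⟩
      obtain ⟨hwY, x, hx, rfl⟩ := (memG w).1 hw
      exact ⟨⟨g x, hwY⟩, ⟨⟨x, hwY⟩, ⟨hx, hwa⟩, Subtype.ext (morphismRestrict_base_coe g Y' _)⟩, rfl⟩
    · rintro ⟨v, ⟨x, ⟨hx, hxa⟩, rfl⟩, rfl⟩
      refine ⟨(memG _).2 ⟨((g ∣_ Y') x).2, x.1, hx, (morphismRestrict_base_coe g Y' x).symm⟩, ?_⟩
      show ((g ∣_ Y') x).1 ∈ Y.basicOpen a
      rw [morphismRestrict_base_coe]; exact hxa
  have hGV : G ≤ V := fun w hw => by
    obtain ⟨-, x, hx, rfl⟩ := (memG w).1 hw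
    exact (hWle hx).1
  have hfpre : ∀ O : Y.Opens, O ≤ V → IsAffineOpen O → IsAffineOpen (f ⁻¹ᵁ O) := fun O hO hOa => by
    have hf : f = Spec.map (Y.presheaf.germ V (g z') hyV) ≫ hV.fromSpec :=
      (IsAffineOpen.fromSpecStalk_eq_fromSpecStalk hV hyV).symm
    rw [hf, Scheme.Hom.comp_preimage]
    refine (hOa.preimage_of_isOpenImmersion hV.fromSpec ?_).preimage _
    rw [hV.opensRange_fromSpec]; exact hO
  let U : (Spec R).Opens := f ⁻¹ᵁ G
  have hU : U ≤ P := fun p hp => (hfP p).1 ((memG _).1 hp).1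
  have hno : ∀ T ∈ irreducibleComponents ↥P, ¬ Subtype.val '' T ⊆ (U : Set _) := fun T hT hsub => by
    obtain ⟨-, x, hx, hxe⟩ := (memG _).1 (hsub ⟨t ⟨T, hT⟩, htT ⟨T, hT⟩, rfl⟩)
    exact (hWle hx).2 (Set.mem_biUnion (Set.mem_iUnion.2 ⟨⟨T, hT⟩, hxe⟩) (subset_closure rfl))
  have haff : IsAffineHom ((Spec R).homOfLE hU) := by
    refine isAffineHom_of_forall_exists_isAffineOpen _ fun p => ?_
    have hp : f p.1 ∈ Y' := (hfP _).2 p.2
    have hpV : f p.1 ∈ V := by
      have : f p.1 ⤳ g z' := by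
        have : f p.1 ∈ Set.range f := ⟨_, rfl⟩
        rwa [Scheme.range_fromSpecStalk] at this
      exact this.mem_open V.2 hyV
    obtain ⟨a, ha, hpa⟩ := hV.exists_basicOpen_le (⟨_, hp⟩ : Y') hpV
    let O : (Spec R).Opens := f ⁻¹ᵁ Y.basicOpen a
    have hOP : O ≤ P := fun q hq => (hfP q).1 (ha hq)
    refine ⟨P.ι ⁻¹ᵁ O, hpa, (hfpre _ (Y.basicOpen_le a) (hV.basicOpen a)).preimage_of_isOpenImmersion P.ι
      (by rw [Scheme.Opens.opensRange_ι]; exact hOP), ?_⟩
    rw [← Scheme.Hom.comp_preimage, show (Spec R).homOfLE hU ≫ P.ι = U.ι from Scheme.homOfLE_ι _ _]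
    have hUO : IsAffineOpen (f ⁻¹ᵁ (G ⊓ Y.basicOpen a)) :=
      hfpre _ (inf_le_right.trans (Y.basicOpen_le a)) (hGD a ha)
    have e : U.ι ⁻¹ᵁ O = U.ι ⁻¹ᵁ (f ⁻¹ᵁ (G ⊓ Y.basicOpen a)) := by
      ext q; exact ⟨fun h => ⟨q.2, h⟩, fun h => h.2⟩
    rw [e]
    exact hUO.preimage_of_isOpenImmersion U.ι (by rw [Scheme.Opens.opensRange_ι]; exact fun q hq => hq.1)
  have hUaff := hW U hU hno haff
  -- pull back to the local ring at `z`
  let S := X.presheaf.stalk z
  let φ : R ⟶ S := (Y.presheaf.stalkCongr (.of_eq hgz.symm)).hom ≫ g.stalkMap z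
  let fz := X.fromSpecStalk z
  have hw : Spec.map φ ≫ f = fz ≫ g := by
    simp only [φ, Spec.map_comp, Category.assoc, TopCat.Presheaf.stalkCongr_hom]
    rw [Scheme.SpecMap_stalkSpecializes_fromSpecStalk, Scheme.SpecMap_stalkMap_fromSpecStalk]
  let U' : (Spec S).Opens := (Spec.map φ) ⁻¹ᵁ U
  have hU' : IsAffineOpen U' := hUaff.preimage _
  have memU' : ∀ w, w ∈ U' ↔ g (fz w) ≠ g z' := fun w => by
    show f ((Spec.map φ) w) ∈ G ↔ _
    rw [← Scheme.Hom.comp_apply, hw, Scheme.Hom.comp_apply, memG, memY']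
    refine ⟨fun h => h.1, fun h => ⟨h, fz w, ?_, rfl⟩⟩
    have : fz w ∈ Set.range fz := ⟨w, rfl⟩
    rw [Scheme.range_fromSpecStalk] at this
    exact this.mem_open W.2 hzW
  haveI : IsAffine (U' : Scheme.{u}) := hU'
  haveI : IsAffineHom U'.ι := isAffineHom_of_isAffine _
  have h := S2851.result (Spec S) U' (closedPoint S)
    (fun h => (memU' _).1 h (by rw [Scheme.fromSpecStalk_closedPoint]; exact hgz))
    (fun w hw hw2 => by
      have h1 : fz w = z := hmax _ (by by_contra h; exact hw ((memU' w).2 h)) (by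
        have := hw2.map fz.continuous
        rwa [Scheme.fromSpecStalk_closedPoint] at this)
      exact fz.isEmbedding.injective (h1.trans Scheme.fromSpecStalk_closedPoint.symm))
  refine le_trans (le_of_eq ?_) h
  letI : Algebra S ((Spec S).presheaf.stalk (closedPoint S)) := (StructureSheaf.toStalk S _).hom.toAlgebra
  haveI : IsLocalization.AtPrime ((Spec S).presheaf.stalk (closedPoint S)) (closedPoint S).asIdeal :=
    StructureSheaf.IsLocalization.to_stalk S _
  rw [IsLocalization.AtPrime.ringKrullDim_eq_height (closedPoint S).asIdeal ((Spec S).presheaf.stalk (closedPoint S))]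
  exact (IsLocalRing.maximalIdeal_height_eq_ringKrullDim (R := S)).symm

end Groth.Agent.Pi1Rig.IsoOff

end
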