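import Groth.Agent.Pi1Rig.IsoOff
import Groth.Agent.PurBir.Basic

/-!
# Morphisms that are local isomorphisms off a fibre
-/

set_option autoImplicit false
set_option linter.style.haveILetI false
set_option backward.isDefEq.respectTransparency false
set_option backward.isDefEq.respectTransparency.types false
universe u

open CategoryTheory CategoryTheory.Limits AlgebraicGeometry IsLocalRing TopologicalSpace

noncomputable section

namespace Groth.Agent.Pi1Rig.IsoOff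

/-- A generization in the same fibre at which the morphism is an open immersion is equal. -/
theorem eq_of_isOpenImmersion_nhd {X Y : Scheme.{u}} (g : X ⟶ Y) {W : X.Opens}
    [IsOpenImmersion (W.ι ≫ g)] {w z : X} (hw : w ∈ W) (hwz : w ⤳ z) (hg : g w = g z) : w = z := by
  let R := Y.presheaf.stalk (g z)
  let S := X.presheaf.stalk z
  let fz := X.fromSpecStalk z
  let φ : R ⟶ S := g.stalkMap z
  have hW : Spec.map φ ≫ Y.fromSpecStalk (g z) = fz ≫ g := Scheme.SpecMap_stalkMap_fromSpecStalk g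
  obtain ⟨q, hq⟩ : w ∈ Set.range fz := by rw [Scheme.range_fromSpecStalk]; exact hwz
  have hqc : (Spec.map φ) q = closedPoint R := (Y.fromSpecStalk (g z)).isEmbedding.injective (by
    rw [← Scheme.Hom.comp_apply, hW, Scheme.Hom.comp_apply, hq, hg]
    exact Scheme.fromSpecStalk_closedPoint.symm)
  haveI : IsIso (g.stalkMap (fz q)) :=
    PurBir.isIso_stalkMap_of_isOpenImmersion_restrict g (W := W) (by rw [hq]; exact hw)
  have hsurj : Function.Surjective ((Spec.map φ).stalkMap q).hom := by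
    have h1 : Function.Surjective ((fz ≫ g).stalkMap q).hom := by
      rw [Scheme.Hom.stalkMap_comp, CommRingCat.hom_comp, RingHom.coe_comp]
      exact (fz.stalkMap_surjective q).comp (ConcreteCategory.bijective_of_isIso (g.stalkMap (fz q))).2
    rw [Scheme.Hom.stalkMap_congr_hom _ _ hW.symm q, Scheme.Hom.stalkMap_comp] at h1
    simp only [CommRingCat.hom_comp, RingHom.coe_comp] at h1
    exact (Function.Surjective.of_comp h1).of_comp
  have hloc : Function.Surjective (Localization.localRingHom ((Spec.map φ) q).asIdeal q.asIdeal φ.hom rfl) :=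
    ((MorphismProperty.surjective CommRingCat.{u}).arrow_mk_iso_iff
      (Scheme.arrowStalkMapSpecIso φ q)).1 hsurj
  rw [← hq]
  refine (congrArg fz (show q = closedPoint S from PrimeSpectrum.ext ?_)).trans Scheme.fromSpecStalk_closedPoint
  refine le_antisymm (le_maximalIdeal q.2.ne_top) fun e he => ?_
  by_contra hne
  obtain ⟨u, hu⟩ := hloc (algebraMap S _ e)
  obtain ⟨⟨a, b⟩, rfl⟩ := IsLocalization.mk'_surjective ((Spec.map φ) q).asIdeal.primeCompl u
  rw [Localization.localRingHom_mk', IsLocalization.mk'_eq_iff_eq_mul] at hu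
  obtain ⟨c, hc⟩ := (IsLocalization.eq_iff_exists (q : PrimeSpectrum S).asIdeal.primeCompl
    (Localization.AtPrime (q : PrimeSpectrum S).asIdeal)).1 (hu.trans (map_mul _ _ _).symm)
  have hmem : φ.hom a - e * φ.hom (b : R) ∈ (q : PrimeSpectrum S).asIdeal := by
    refine ((q : PrimeSpectrum S).2.mem_or_mem ?_).resolve_left c.2
    rw [mul_sub, hc, sub_self]
    exact zero_mem _
  have hb : φ.hom (b : R) ∉ (q : PrimeSpectrum S).asIdeal := b.2
  have ha : IsUnit a := IsLocalRing.notMem_maximalIdeal.1 fun ha => by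
    have h1 : φ.hom a ∈ (q : PrimeSpectrum S).asIdeal := by
      have := congrArg PrimeSpectrum.asIdeal hqc
      exact (show a ∈ ((Spec.map φ) q).asIdeal by rw [this]; exact ha)
    exact ((q : PrimeSpectrum S).2.mem_or_mem (show e * φ.hom (b : R) ∈ (q : PrimeSpectrum S).asIdeal by
      simpa using sub_mem h1 hmem)).elim hne hb
  refine (q : PrimeSpectrum S).2.ne_top (Ideal.eq_top_of_isUnit_mem _ hmem ?_)
  refine IsLocalRing.notMem_maximalIdeal.1 fun h => ?_
  exact IsLocalRing.notMem_maximalIdeal.2 (ha.map φ.hom)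
    (by simpa only [sub_add_cancel] using add_mem h (Ideal.mul_mem_right (φ.hom (b : R)) (maximalIdeal S) he))

/-- A morphism from a separated scheme with a generic point that is locally an open immersion is
injective. -/
theorem injective_of_isOpenImmersion_cover {X Y : Scheme.{u}} [X.IsSeparated] (g : X ⟶ Y)
    (hcov : ∀ x, ∃ W : X.Opens, x ∈ W ∧ IsOpenImmersion (W.ι ≫ g)) (η : X) (hη : ∀ x, η ⤳ x) :
    Function.Injective g := by
  intro x₁ x₂ hx
  let p := g x₁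
  let fp := Y.fromSpecStalk p
  obtain ⟨c, hc⟩ : g η ∈ Set.range fp := by
    rw [Scheme.range_fromSpecStalk]; exact (hη x₁).map g.continuous
  let D := Y.presheaf.stalk p ⧸ (c : PrimeSpectrum (Y.presheaf.stalk p)).asIdeal
  haveI : IsDomain D := Ideal.Quotient.isDomain _
  haveI : IsLocalRing D := IsLocalRing.of_surjective' (Ideal.Quotient.mk _) Ideal.Quotient.mk_surjective
  let mk : Y.presheaf.stalk p ⟶ CommRingCat.of D := CommRingCat.ofHom (Ideal.Quotient.mk _)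
  let m := Spec.map mk ≫ fp
  let ι := Spec.map (CommRingCat.ofHom (algebraMap D (FractionRing D)))
  have hgen : ∀ k, m (ι k) = g η := fun k => by
    show fp ((Spec.map mk) (ι k)) = g η
    rw [← hc]
    refine congrArg fp (PrimeSpectrum.ext ?_)
    show Ideal.comap (Ideal.Quotient.mk _) (Ideal.comap (algebraMap D (FractionRing D)) (k : PrimeSpectrum (FractionRing D)).asIdeal) = _
    obtain h | h := Ideal.eq_bot_or_top (k : PrimeSpectrum (FractionRing D)).asIdeal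
    · rw [h, ← RingHom.ker_eq_comap_bot, (RingHom.injective_iff_ker_eq_bot _).1 (IsFractionRing.injective D (FractionRing D)),
        ← RingHom.ker_eq_comap_bot, Ideal.mk_ker]
    · exact absurd h (k : PrimeSpectrum (FractionRing D)).2.ne_top
  have hclosed : m (closedPoint D) = p := by
    show fp ((Spec.map mk) (closedPoint D)) = p
    haveI : IsLocalHom mk.hom := IsLocalHom.of_surjective (Ideal.Quotient.mk _) Ideal.Quotient.mk_surjective
    rw [show (Spec.map mk) (closedPoint D) = closedPoint (Y.presheaf.stalk p) from IsLocalRing.comap_closedPoint mk.hom]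
    exact Scheme.fromSpecStalk_closedPoint
  have key : ∀ (x : X), g x = p → ∀ W : X.Opens, x ∈ W → IsOpenImmersion (W.ι ≫ g) →
      ∃ β : Spec (CommRingCat.of D) ⟶ X, β ≫ g = m ∧ β (closedPoint D) = x ∧ ∀ k, β (ι k) = η := by
    intro x hgx W hxW hW
    haveI := hW
    have hle : Set.range m ⊆ Set.range (W.ι ≫ g) := by
      rintro _ ⟨d, rfl⟩
      have h1 : m d ⤳ p := by
        have : m d ∈ Set.range fp := ⟨(Spec.map mk) d, rfl⟩
        rwa [Scheme.range_fromSpecStalk] at this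
      exact h1.mem_open (W.ι ≫ g).isOpenEmbedding.isOpen_range ⟨⟨x, hxW⟩, hgx⟩
    refine ⟨IsOpenImmersion.lift (W.ι ≫ g) m hle ≫ W.ι, by rw [Category.assoc, IsOpenImmersion.lift_fac], ?_, ?_⟩
    · refine congrArg Subtype.val ((W.ι ≫ g).isOpenEmbedding.injective
        (a₁ := IsOpenImmersion.lift (W.ι ≫ g) m hle (closedPoint D)) (a₂ := ⟨x, hxW⟩) ?_)
      rw [← Scheme.Hom.comp_apply, IsOpenImmersion.lift_fac, hclosed]
      exact hgx.symm
    · intro k
      refine congrArg Subtype.val ((W.ι ≫ g).isOpenEmbedding.injective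
        (a₁ := IsOpenImmersion.lift (W.ι ≫ g) m hle (ι k)) (a₂ := ⟨η, (hη x).mem_open W.2 hxW⟩) ?_)
      rw [← Scheme.Hom.comp_apply, IsOpenImmersion.lift_fac, hgen]
      rfl
  obtain ⟨W₁, hx₁, hW₁⟩ := hcov x₁
  obtain ⟨W₂, hx₂, hW₂⟩ := hcov x₂
  obtain ⟨β₁, hm₁, hc₁, hη₁⟩ := key x₁ rfl W₁ hx₁ hW₁
  obtain ⟨β₂, hm₂, hc₂, hη₂⟩ := key x₂ hx.symm W₂ hx₂ hW₂
  haveI := hW₁
  let W := W₁ ⊓ W₂
  haveI : IsOpenImmersion (W.ι ≫ g) := by
    rw [← X.homOfLE_ι (inf_le_left : W₁ ⊓ W₂ ≤ W₁), Category.assoc]; infer_instance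
  have hηW : η ∈ W := ⟨(hη x₁).mem_open W₁.2 hx₁, (hη x₂).mem_open W₂.2 hx₂⟩
  have hr : ∀ β : Spec (CommRingCat.of D) ⟶ X, (∀ k, β (ι k) = η) → Set.range (ι ≫ β) ⊆ Set.range W.ι := by
    rintro β hβ _ ⟨k, rfl⟩
    rw [Scheme.Opens.range_ι, Scheme.Hom.comp_apply, hβ]
    exact hηW
  let γ₁ := IsOpenImmersion.lift W.ι (ι ≫ β₁) (hr β₁ hη₁)
  let γ₂ := IsOpenImmersion.lift W.ι (ι ≫ β₂) (hr β₂ hη₂)
  have hγ : γ₁ = γ₂ := by
    rw [← cancel_mono (W.ι ≫ g), ← Category.assoc, ← Category.assoc, IsOpenImmersion.lift_fac,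
      IsOpenImmersion.lift_fac, Category.assoc, Category.assoc, hm₁, hm₂]
  have hι : ι ≫ β₁ = ι ≫ β₂ := by
    rw [← IsOpenImmersion.lift_fac W.ι (ι ≫ β₁) (hr β₁ hη₁), ← IsOpenImmersion.lift_fac W.ι (ι ≫ β₂) (hr β₂ hη₂)]
    exact congrArg (· ≫ W.ι) hγ
  haveI : IsDominant ι := ⟨(PrimeSpectrum.denseRange_comap_iff_ker_le_nilRadical (algebraMap D (FractionRing D))).2
    (by rw [(RingHom.injective_iff_ker_eq_bot _).1 (IsFractionRing.injective D (FractionRing D))]; exact bot_le)⟩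
  rw [← hc₁, ← hc₂, ext_of_isDominant ι hι]

/-- A point in the closure of a set in a noetherian space is a specialisation of a point of that
closure which generises some point of the set. -/
theorem exists_generization {α : Type*} [TopologicalSpace α] [NoetherianSpace α] [QuasiSober α]
    {S : Set α} {z : α} (hz : z ∈ closure S) : ∃ η ∈ closure S, η ⤳ z ∧ ∃ s ∈ S, η ⤳ s := by
  obtain ⟨𝒞, hfin, hcl, hirr, hU⟩ := NoetherianSpace.exists_finite_set_isClosed_irreducible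
    (isClosed_closure (s := S))
  by_contra hcon
  push Not at hcon
  have hsub : S ⊆ ⋃₀ {C ∈ 𝒞 | z ∉ C} := fun s hs => by
    obtain ⟨C, hC, hsC⟩ := Set.mem_sUnion.1 (hU ▸ subset_closure hs)
    refine ⟨C, ⟨hC, fun hzC => ?_⟩, hsC⟩
    obtain ⟨η, hη⟩ := QuasiSober.sober (hirr C hC) (hcl C hC)
    exact hcon η (hU.symm ▸ Set.mem_sUnion.2 ⟨C, hC, hη.mem⟩) (hη.specializes hzC) s hs (hη.specializes hsC)
  have hclosed : IsClosed (⋃₀ {C ∈ 𝒞 | z ∉ C}) := by
    rw [Set.sUnion_eq_biUnion]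
    exact (hfin.subset fun C hC => hC.1).isClosed_biUnion fun C hC => hcl C hC.1
  obtain ⟨C, ⟨-, hzC⟩, hzC'⟩ := closure_minimal hsub hclosed hz
  exact hzC hzC'

/-- Condition (W) for the punctured spectrum passes along isomorphisms. -/
theorem condW_of_iso {R R' : CommRingCat.{u}} [IsLocalRing R] [IsLocalRing R'] (e : Spec R' ⟶ Spec R) [IsIso e]
    (hW : ∀ U : (Spec R).Opens, ∀ hU : U ≤ FEt.puncturedSpec ↑R,
        (∀ T ∈ irreducibleComponents ↥(FEt.puncturedSpec ↑R), ¬ Subtype.val '' T ⊆ (U : Set _)) →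
        IsAffineHom ((Spec R).homOfLE hU) → IsAffineOpen U) :
    ∀ U : (Spec R').Opens, ∀ hU : U ≤ FEt.puncturedSpec ↑R',
        (∀ T ∈ irreducibleComponents ↥(FEt.puncturedSpec ↑R'), ¬ Subtype.val '' T ⊆ (U : Set _)) →
        IsAffineHom ((Spec R').homOfLE hU) → IsAffineOpen U := by
  intro U' hU' hT' haff'
  let h : ↥(Spec R') ≃ₜ ↥(Spec R) := e.homeomorph
  have hcp : e (closedPoint R') = closedPoint R :=
    (PrimeSpectrum.isClosed_singleton_iff_isMaximal _).1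
      (by rw [show ({e (closedPoint R')} : Set ↥(Spec R)) = h '' {closedPoint R'} by rw [Set.image_singleton]; rfl]
          exact h.isClosedMap _ (IsLocalRing.isClosed_singleton_closedPoint R')) |> fun hm =>
      PrimeSpectrum.ext (IsLocalRing.eq_maximalIdeal hm)
  have hP : ∀ w : ↥(Spec R'), w ∈ FEt.puncturedSpec ↑R' ↔ e w ∈ FEt.puncturedSpec ↑R := fun w => by
    show w ≠ closedPoint R' ↔ e w ≠ closedPoint R
    rw [← hcp]; exact h.injective.ne_iff.symm
  let U : (Spec R).Opens := e ''ᵁ U'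
  have memU : ∀ w, e w ∈ U ↔ w ∈ U' := fun w => ⟨fun ⟨v, hv, hvw⟩ => h.injective hvw ▸ hv, fun hw => ⟨w, hw, rfl⟩⟩
  have hU : U ≤ FEt.puncturedSpec ↑R := by
    rintro _ ⟨w, hw, rfl⟩; exact (hP w).1 (hU' hw)
  let hPP : ↥(FEt.puncturedSpec ↑R') ≃ₜ ↥(FEt.puncturedSpec ↑R) := h.subtype hP
  have hT : ∀ T ∈ irreducibleComponents ↥(FEt.puncturedSpec ↑R), ¬ Subtype.val '' T ⊆ (U : Set _) := by
    intro T hT hsub
    refine hT' (hPP ⁻¹' T) ?_ ?_
    · refine ⟨?_, fun s hs hTs => ?_⟩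
      · rw [← Homeomorph.image_symm]
        exact hT.1.image _ hPP.symm.continuous.continuousOn
      · have h1 := hT.2 (hs.image _ hPP.continuous.continuousOn)
          (fun t ht => ⟨hPP.symm t, hTs (by simpa using ht), by simp⟩)
        exact fun w hw => h1 ⟨w, hw, rfl⟩
    · rintro _ ⟨w, hw, rfl⟩
      exact (memU _).1 (hsub ⟨hPP w, hw, rfl⟩)
  suffices haff : IsAffineOpen U by
    have h0 := haff.preimage e
    rwa [show e ⁻¹ᵁ U = U' from Opens.ext (Set.ext fun w => memU w)] at h0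
  refine hW U hU hT ?_
  refine isAffineHom_of_forall_exists_isAffineOpen _ fun p => ?_
  obtain ⟨_, ⟨O, hO, rfl⟩, hpO, -⟩ :=
    (FEt.puncturedSpec ↑R).toScheme.isBasis_affineOpens.exists_subset_of_mem_open (Set.mem_univ p) isOpen_univ
  refine ⟨O, hpO, hO, ?_⟩
  let O₁ : (Spec R).Opens := (FEt.puncturedSpec ↑R).ι ''ᵁ O
  have hO₁ : IsAffineOpen O₁ := hO.image_of_isOpenImmersion _
  have hO₁P : O₁ ≤ FEt.puncturedSpec ↑R := Scheme.Opens.ι_image_le _ _
  let O' : (Spec R').Opens := e ⁻¹ᵁ O₁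
  have hO' : IsAffineOpen ((FEt.puncturedSpec ↑R').ι ⁻¹ᵁ O') :=
    (hO₁.preimage e).preimage_of_isOpenImmersion _ (by
      rw [Scheme.Opens.opensRange_ι]; exact fun w hw => (hP w).2 (hO₁P hw))
  have h1 := ((hO'.preimage ((Spec R').homOfLE hU')).image_of_isOpenImmersion U'.ι).image_of_isOpenImmersion e
  have h2 : IsAffineOpen (U ⊓ O₁) := by
    convert h1 using 1
    ext w
    constructor
    · rintro ⟨⟨v, hv, rfl⟩, hvO⟩
      refine ⟨v, ⟨⟨v, hv⟩, ?_, rfl⟩, rfl⟩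
      show e ((Spec R').homOfLE hU' ⟨v, hv⟩).1 ∈ O₁
      rw [Scheme.homOfLE_apply]; exact hvO
    · rintro ⟨v, ⟨v', hv', rfl⟩, rfl⟩
      refine ⟨(memU _).2 v'.2, ?_⟩
      have hv'' : e ((Spec R').homOfLE hU' v').1 ∈ O₁ := hv'
      rwa [Scheme.homOfLE_apply] at hv''
  have h3 := h2.preimage_of_isOpenImmersion U.ι (by rw [Scheme.Opens.opensRange_ι]; exact inf_le_left)
  convert h3 using 1
  ext w
  constructor
  · intro hw
    exact ⟨w.2, ⟨_, hw, Scheme.homOfLE_apply hU w⟩⟩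
  · rintro ⟨-, ⟨v, hv, hvw⟩⟩
    have : v = (Spec R).homOfLE hU w := Subtype.ext (hvw.trans (Scheme.homOfLE_apply hU w).symm)
    show (Spec R).homOfLE hU w ∈ O
    rw [← this]; exact hv

theorem isOpenImmersion_of_cover {X Y : Scheme.{u}} (g : X ⟶ Y) (hinj : Function.Injective g)
    (hcov : ∀ x, ∃ W : X.Opens, x ∈ W ∧ IsOpenImmersion (W.ι ≫ g)) : IsOpenImmersion g := by
  rw [IsOpenImmersion.iff_isIso_stalkMap]
  refine ⟨.of_continuous_injective_isOpenMap g.continuous hinj fun O hO => ?_, fun x => ?_⟩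
  · refine isOpen_iff_forall_mem_open.2 ?_
    rintro _ ⟨x, hx, rfl⟩
    obtain ⟨W, hxW, hW⟩ := hcov x
    haveI := hW
    refine ⟨(W.ι ≫ g) '' (W.ι ⁻¹' O), ?_, (W.ι ≫ g).isOpenEmbedding.isOpenMap _ (hO.preimage W.ι.continuous), ⟨⟨x, hxW⟩, hx, rfl⟩⟩
    rintro _ ⟨v, hv, rfl⟩
    exact ⟨W.ι v, hv, rfl⟩
  · obtain ⟨W, hxW, hW⟩ := hcov x
    haveI := hW
    exact PurBir.isIso_stalkMap_of_isOpenImmersion_restrict g hxW

/-- Around a point where it is a local isomorphism a morphism is an open immersion. -/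
theorem exists_isOpenImmersion_of_isLocalIso {X Y : Scheme.{u}} (g : X ⟶ Y) {x : X}
    (h : ∃ W : X.Opens, x ∈ W ∧ IsLocalIso (W.ι ≫ g)) : ∃ W : X.Opens, x ∈ W ∧ IsOpenImmersion (W.ι ≫ g) := by
  obtain ⟨W, hxW, hW⟩ := h
  obtain ⟨U, hxU, hU⟩ := hW.exists_isOpenImmersion ⟨x, hxW⟩
  haveI := hU
  refine ⟨W.ι ''ᵁ U, ⟨⟨x, hxW⟩, hxU, rfl⟩, ?_⟩
  rw [show (W.ι ''ᵁ U).ι ≫ g = (W.ι.isoImage U).inv ≫ U.ι ≫ W.ι ≫ g by
    rw [← cancel_epi (W.ι.isoImage U).hom, Iso.hom_inv_id_assoc, ← Category.assoc, Scheme.Hom.isoImage_hom_ι, Category.assoc]]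
  infer_instance

/-- The dichotomy at a maximal point of the locus where a morphism is not a local isomorphism. -/
theorem dim_le_one_or_isolated {X Y : Scheme.{u}} [IsLocallyNoetherian X] [IsLocallyNoetherian Y]
    [IrreducibleSpace ↥X] (g : X ⟶ Y) [LocallyOfFiniteType g] (z : ↥X)
    (hW : ∀ U : (Spec (Y.presheaf.stalk (g z))).Opens, ∀ hU : U ≤ FEt.puncturedSpec ↑(Y.presheaf.stalk (g z)),
        (∀ T ∈ irreducibleComponents ↥(FEt.puncturedSpec ↑(Y.presheaf.stalk (g z))), ¬ Subtype.val '' T ⊆ (U : Set _)) →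
        IsAffineHom ((Spec (Y.presheaf.stalk (g z))).homOfLE hU) → IsAffineOpen U)
    (hmax : ∀ z' : ↥X, (¬ ∃ W : X.Opens, z' ∈ W ∧ IsLocalIso (W.ι ≫ g)) → z' ⤳ z → z' = z) :
    ringKrullDim ↑(X.presheaf.stalk z) ≤ 1 ∨
      ∃ O : X.Opens, z ∈ O ∧ ∀ z' : ↥X, z' ∈ O → g z' = g z → z' = z := by
  refine or_iff_not_imp_right.2 fun hiso => ?_
  push Not at hiso
  -- generizations in the fibre are trivial
  have hfib : ∀ w, w ⤳ z → g w = g z → w = z := fun w hwz hgw => by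
    by_cases h : ∃ W : X.Opens, w ∈ W ∧ IsLocalIso (W.ι ≫ g)
    · obtain ⟨W, hwW, hW'⟩ := exists_isOpenImmersion_of_isLocalIso g h
      haveI := hW'
      exact eq_of_isOpenImmersion_nhd g hwW hwz hgw
    · exact hmax w h hwz
  let η := genericPoint X
  have hη : ∀ x, η ⤳ x := fun x => (genericPoint_spec X).specializes trivial
  by_cases hηy : g η = g z
  · have hηz := hfib η (hη z) hηy
    rw [ringKrullDim_stalk_eq_coheight]
    have : IsMax z := fun w hw => by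
      rw [Scheme.le_iff_specializes] at hw ⊢
      exact hηz ▸ hη w
    rw [Order.coheight_eq_zero.2 this]
    exact zero_le_one
  let R := Y.presheaf.stalk (g z)
  let f := Y.fromSpecStalk (g z)
  let X₁ := pullback g f
  let π : X₁ ⟶ X := pullback.fst g f
  let g₁ : X₁ ⟶ Spec R := pullback.snd g f
  haveI : IsPreimmersion π := MorphismProperty.pullback_fst _ _ inferInstance
  haveI : IsNoetherianRing R := inferInstance
  haveI : IsLocallyNoetherian X₁ := LocallyOfFiniteType.isLocallyNoetherian g₁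
  have hgπ : ∀ w, f (g₁ w) = g (π w) := fun w => by
    rw [← Scheme.Hom.comp_apply, ← Scheme.Hom.comp_apply, pullback.condition]
  have hclosed : ∀ w, g₁ w = closedPoint R ↔ g (π w) = g z := fun w => by
    rw [← hgπ]
    exact ⟨fun h => h ▸ Scheme.fromSpecStalk_closedPoint, fun h => f.isEmbedding.injective (h.trans Scheme.fromSpecStalk_closedPoint.symm)⟩
  have hrange : ∀ x : X, x ∈ Set.range π ↔ g x ⤳ g z := fun x => by
    rw [Scheme.Pullback.range_fst, Set.mem_preimage, Scheme.range_fromSpecStalk]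
    rfl
  obtain ⟨z₁, hz₁⟩ : z ∈ Set.range π := (hrange z).2 specializes_rfl
  obtain ⟨η₁, hη₁⟩ : η ∈ Set.range π := (hrange η).2 ((hη z).map g.continuous)
  -- remove the locus off the fibre where the morphism is not a local isomorphism
  let T : Set X := {x | ¬ ∃ W : X.Opens, x ∈ W ∧ IsLocalIso (W.ι ≫ g)}
  have hTclosed : IsClosed T := ⟨isOpen_iff_forall_mem_open.2 fun x hx => by
    obtain ⟨W, hxW, hW'⟩ := not_not.1 hx
    exact ⟨W, fun w hw => not_not.2 ⟨W, hw, hW'⟩, W.2, hxW⟩⟩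
  let T₁ : Set X₁ := {w | π w ∈ T ∧ g₁ w ≠ closedPoint R}
  obtain ⟨A, hA, hz₁A, -⟩ := exists_isAffineOpen_mem_and_subset (x := z₁) (U := ⊤) trivial
  have hz₁T : z₁ ∉ closure T₁ := fun h => by
    haveI : NoetherianSpace (A : Scheme.{u}) := by
      haveI := IsLocallyNoetherian.component_noetherian ⟨A, hA⟩
      exact noetherianSpace_of_isAffineOpen A hA
    have h' : (⟨z₁, hz₁A⟩ : A) ∈ closure (A.ι ⁻¹' T₁) := by
      rw [mem_closure_iff]
      intro o ho hzo
      obtain ⟨_, ⟨w, hwo, rfl⟩, hw⟩ := mem_closure_iff.1 h _ (A.ι.isOpenEmbedding.isOpenMap o ho) ⟨_, hzo, rfl⟩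
      exact ⟨w, hwo, hw⟩
    obtain ⟨v, hvcl, hvz, s, hs, hvs⟩ := exists_generization (α := (A : Scheme.{u})) h'
    have hvs' : A.ι v ⤳ A.ι s := hvs.map A.ι.continuous
    have hgv : g₁ (A.ι v) ≠ closedPoint R := fun hc => hs.2 (by
      have := hvs'.map g₁.continuous
      rw [hc] at this
      exact (this.mem_closed (IsLocalRing.isClosed_singleton_closedPoint R) rfl))
    have hvT : π (A.ι v) ∈ T := by
      have : v ∈ (fun w => π (A.ι w)) ⁻¹' T := closure_minimal (fun w hw => hw.1)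
        (hTclosed.preimage (π.continuous.comp A.ι.continuous)) hvcl
      exact this
    have := hmax _ hvT (by rw [← hz₁]; exact (hvz.map A.ι.continuous).map π.continuous)
    exact hgv ((hclosed _).2 (by rw [this]))
  obtain ⟨A₂, hA₂, hz₁A₂, hA₂le⟩ := exists_isAffineOpen_mem_and_subset (x := z₁)
    (U := A ⊓ ⟨(closure T₁)ᶜ, isClosed_closure.isOpen_compl⟩) ⟨hz₁A, hz₁T⟩
  let X₂ : Scheme.{u} := A₂
  haveI : IsAffine X₂ := hA₂
  haveI : NoetherianSpace X₂ := by
    haveI := IsLocallyNoetherian.component_noetherian ⟨A₂, hA₂⟩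
    exact noetherianSpace_of_isAffineOpen A₂ hA₂
  let g₂ : X₂ ⟶ Spec R := A₂.ι ≫ g₁
  let π₂ : X₂ ⟶ X := A₂.ι ≫ π
  have hπ₂ : Topology.IsEmbedding π₂ := π.isEmbedding.comp A₂.ι.isOpenEmbedding.isEmbedding
  have hη₁A : η₁ ∈ A₂ := by
    refine (π.isEmbedding.specializes_iff.1 ?_).mem_open A₂.2 hz₁A₂
    rw [hη₁, hz₁]; exact hη z
  let η₂ : X₂ := ⟨η₁, hη₁A⟩
  let z₂ : X₂ := ⟨z₁, hz₁A₂⟩
  have hη₂ : ∀ w, η₂ ⤳ w := fun w => hπ₂.specializes_iff.1 (by
    show π η₁ ⤳ π₂ w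
    rw [hη₁]; exact hη _)
  -- the open immersion off the fibre
  let P : (Spec R).Opens := FEt.puncturedSpec ↑R
  let U₂ : X₂.Opens := g₂ ⁻¹ᵁ P
  haveI : U₂.toScheme.IsSeparated := ⟨by
    rw [← terminal.comp_from U₂.ι]; infer_instance⟩
  have hcov : ∀ w : U₂.toScheme, ∃ W : U₂.toScheme.Opens, w ∈ W ∧ IsOpenImmersion (W.ι ≫ g₂ ∣_ P) := fun w => by
    have hwT : π₂ w.1 ∉ T := fun h => (hA₂le w.1.2).2 (subset_closure ⟨h, w.2⟩)
    obtain ⟨W, hwW, hW'⟩ := exists_isOpenImmersion_of_isLocalIso g (not_not.1 hwT)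
    haveI := hW'
    haveI : IsOpenImmersion ((π ⁻¹ᵁ W).ι ≫ g₁) :=
      MorphismProperty.of_isPullback (P := @IsOpenImmersion)
        (((isPullback_morphismRestrict π W).flip).paste_horiz (IsPullback.of_hasPullback g f).flip).flip hW'
    let W₂ : U₂.toScheme.Opens := (U₂.ι ≫ A₂.ι) ⁻¹ᵁ (π ⁻¹ᵁ W)
    refine ⟨W₂, hwW, ?_⟩
    haveI : IsOpenImmersion ((W₂.ι ≫ g₂ ∣_ P) ≫ P.ι) := by
      rw [Category.assoc, morphismRestrict_ι, show W₂.ι ≫ U₂.ι ≫ g₂ =
        ((U₂.ι ≫ A₂.ι) ∣_ (π ⁻¹ᵁ W)) ≫ (π ⁻¹ᵁ W).ι ≫ g₁ by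
        rw [← Category.assoc ((U₂.ι ≫ A₂.ι) ∣_ _), morphismRestrict_ι]; simp [W₂, g₂]]
      infer_instance
    exact IsOpenImmersion.of_comp _ P.ι
  haveI : IsOpenImmersion (g₂ ∣_ P) := by
    refine isOpenImmersion_of_cover _ ?_ hcov
    by_cases hne : Nonempty U₂.toScheme
    · refine injective_of_isOpenImmersion_cover _ hcov ⟨η₂, fun h => hηy ?_⟩ fun w => ?_
      · have := (hclosed η₁).1 h
        rwa [hη₁] at this
      · exact U₂.ι.isOpenEmbedding.isEmbedding.specializes_iff.1 (hη₂ _)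
    · exact fun a => absurd ⟨a⟩ hne
  have hgz₂ : g₂ z₂ = closedPoint R := (hclosed z₁).2 (by rw [hz₁])
  -- a proper specialisation in the fibre
  obtain ⟨z₂', hz₂'y, hz₂sp, hz₂ne⟩ : ∃ w, g₂ w = closedPoint R ∧ z₂ ⤳ w ∧ z₂ ≠ w := by
    let S : Set X₂ := {w | g₂ w = closedPoint R ∧ w ≠ z₂}
    have hS : z₂ ∈ closure S := by
      rw [mem_closure_iff]
      intro o ho hzo
      have hπ₁o : IsOpen (A₂.ι '' o) := A₂.ι.isOpenEmbedding.isOpenMap _ ho
      obtain ⟨O', hO', hO'o⟩ := π.isEmbedding.isInducing.isOpen_iff.1 hπ₁o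
      obtain ⟨x, hxO, hxy, hxz⟩ := hiso ⟨O', hO'⟩ (show z ∈ O' by
        rw [← hz₁]
        exact (show z₁ ∈ π ⁻¹' O' by rw [hO'o]; exact ⟨z₂, hzo, rfl⟩))
      obtain ⟨w, rfl⟩ := (hrange x).2 (hxy ▸ specializes_rfl)
      obtain ⟨v, hvo, rfl⟩ : w ∈ A₂.ι '' o := hO'o ▸ hxO
      exact ⟨v, hvo, (hclosed _).2 hxy, fun h => hxz (h ▸ hz₁)⟩
    obtain ⟨v, hvcl, hvz, s, hs, hvs⟩ := exists_generization hS
    have hgv : g₂ v = closedPoint R := closure_minimal (fun w hw => hw.1)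
      ((IsLocalRing.isClosed_singleton_closedPoint R).preimage g₂.continuous) hvcl
    have hv : v = z₂ := hπ₂.injective ((hfib (π₂ v) (hz₁ ▸ hvz.map π₂.continuous)
      ((hclosed _).1 hgv)).trans hz₁.symm)
    exact ⟨s, hs.1, hv ▸ hvs, hs.2.symm⟩
  have hY' : (P : Set ↥(Spec R)) = {g₂ z₂'}ᶜ := by rw [hz₂'y]; rfl
  haveI : IsIso ((Spec R).fromSpecStalk (g₂ z₂')) := by
    rw [hz₂'y, ← Spec_stalkClosedPointIso]; infer_instance
  have h := dim_le_one g₂ z₂ z₂' (hgz₂.trans hz₂'y.symm) hz₂sp hz₂ne P hY'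
    (condW_of_iso ((Spec R).fromSpecStalk (g₂ z₂')) hW)
    (fun w hw hwz => hπ₂.injective (by
      show π₂ w = π₂ z₂
      refine (hfib _ ?_ ?_).trans hz₁.symm
      · rw [← hz₁]; exact hwz.map π₂.continuous
      · exact (hclosed _).1 (hw.trans hz₂'y)))
  refine le_trans ?_ h
  rw [ringKrullDim_stalk_eq_coheight, ringKrullDim_stalk_eq_coheight, Order.coheight_eq_krullDim_Ici,
    Order.coheight_eq_krullDim_Ici]
  have hlift : ∀ x : Set.Ici z, ∃ w : X₂, π₂ w = x.1 := fun x => by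
    have hx : x.1 ⤳ z := Scheme.le_iff_specializes.1 x.2
    obtain ⟨w, hw⟩ := (hrange x.1).2 (hx.map g.continuous)
    refine ⟨⟨w, (π.isEmbedding.specializes_iff.1 ?_).mem_open A₂.2 hz₁A₂⟩, hw⟩
    rw [hw, hz₁]; exact hx
  choose l hl using hlift
  refine Order.krullDim_le_of_strictMono (fun x => (⟨l x, Scheme.le_iff_specializes.2 (hπ₂.specializes_iff.1 (by
    rw [hl, show π₂ z₂ = z from hz₁]; exact Scheme.le_iff_specializes.1 x.2))⟩ : Set.Ici z₂)) fun a b hab => ?_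
  have key : ∀ a b : Set.Ici z, l a ⤳ l b ↔ a.1 ⤳ b.1 := fun a b => by
    rw [← hπ₂.specializes_iff, hl, hl]
  refine lt_iff_le_not_ge.2 ⟨Scheme.le_iff_specializes.2 ((key b a).2 (Scheme.le_iff_specializes.1 hab.le)), fun he => ?_⟩
  exact hab.not_ge (Scheme.le_iff_specializes.2 ((key a b).1 (Scheme.le_iff_specializes.1 he)))

end Groth.Agent.Pi1Rig.IsoOff

end
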