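import Groth.Agent.Pi1Alg.CechLC
import Groth.Agent.AdicLib.Basic
import Mathlib.RingTheory.Filtration

/-!
# Sections over the punctured spectrum when a power of `f` kills low local cohomology
-/

set_option autoImplicit false
set_option linter.unusedSectionVars false
set_option backward.isDefEq.respectTransparency false
universe u

open CategoryTheory CategoryTheory.Limits

noncomputable section

namespace Groth.Agent.Pi1Rig

open Groth.Agent Groth.Agent.Pi1Alg

variable {A : Type u} [CommRing A] [IsNoetherianRing A] {ι : Type} [Fintype ι] (g : ι → A)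

/-- A power of `f` moves sections into the module. -/
theorem smul_H0_mem_range (M : Type u) [AddCommGroup M] [Module A M] {f : A} {n : ℕ}
    (h : ∀ x : LocCoh.H (idl g) 1 M, f ^ n • x = 0) {z : C0 g M} (hz : z ∈ H0 g M) :
    f ^ n • z ∈ LinearMap.range (Φ g M) := by
  obtain ⟨ψ, hψ, hψΦ⟩ := exists_toDT g M
  obtain ⟨e⟩ := LC.nonempty_cokerToDT (idl g) (ModuleCat.of A M)
  have h0 : f ^ n • (Submodule.Quotient.mk (p := LinearMap.range (LocCoh.toDT (idl g) M)) (ψ ⟨z, hz⟩)) = 0 :=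
    e.injective (by rw [map_smul, h, map_zero])
  rw [← Submodule.Quotient.mk_smul, Submodule.Quotient.mk_eq_zero] at h0
  obtain ⟨m, hm⟩ := h0
  exact ⟨m, congrArg Subtype.val (hψ ((hψΦ m).trans (hm.trans (map_smul ψ _ _).symm)))⟩

/-- A power of `f` makes cocycles coboundaries. -/
theorem smul_Z1_mem_B1 (M : Type u) [AddCommGroup M] [Module A M] {f : A} {n : ℕ}
    (h : ∀ x : LocCoh.H (idl g) 2 M, f ^ n • x = 0) {c : C1 g M} (hc : c ∈ Z1 g M) :
    f ^ n • c ∈ B1 g M := by
  let N : ModuleCat.{u} A := ModuleCat.of A M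
  let i := Injective.ι N
  let S : ShortComplex (ModuleCat.{u} A) := ShortComplex.mk i (cokernel.π i) (cokernel.condition _)
  have hS : S.ShortExact := { exact := ShortComplex.exact_cokernel i }
  haveI : Injective S.X₂ := inferInstanceAs (Injective (Injective.under N))
  haveI := LC.subsingleton_of_injective (idl g) S.X₂ 0
  have hQ : ∀ x : LocCoh.H (idl g) 1 S.X₃, f ^ n • x = 0 := fun x => by
    have hδ : Function.Injective (LC.δH (idl g) 1 hS 2 rfl) := (injective_iff_map_eq_zero _).2 fun z hz => by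
      obtain ⟨w, rfl⟩ := (LC.exact₃ (idl g) 1 hS 2 rfl z).1 hz
      rw [Subsingleton.elim (α := (localCohomology (idl g) 1).obj S.X₂) w 0, map_zero]
    exact hδ ((map_smul (LC.δH (idl g) 1 hS 2 rfl) (f ^ n) x).trans ((h _).trans (map_zero _).symm))
  have hinj : Function.Injective S.f.hom := hS.moduleCat_injective_f
  have hex : Function.Exact S.f.hom S.g.hom :=
    (ShortComplex.ShortExact.moduleCat_exact_iff_function_exact S).1 hS.exact
  have hinjL : ∀ x, Function.Injective (mapL S.f.hom x) := fun x => mapL_injective _ _ fun m hm =>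
    ⟨0, by rw [hinj (hm.trans (map_zero S.f.hom).symm), smul_zero]⟩
  obtain ⟨e, he⟩ := exists_d0_of_injective g S.X₂ (map1_mem_Z1 g S.f.hom hc)
  have heH : map0 g S.g.hom e ∈ H0 g S.X₃ := by
    rw [H0, LinearMap.mem_ker, d0_map, he]
    exact funext fun j => funext fun k => (mapL_exact hex _).apply_apply_eq_zero (c j k)
  obtain ⟨q, hq⟩ := smul_H0_mem_range g S.X₃ hQ heH
  obtain ⟨e', rfl⟩ := hS.moduleCat_surjective_g q
  have h0 : map0 g S.g.hom (f ^ n • e - Φ g S.X₂ e') = 0 := by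
    rw [map_sub, map_smul, map0_Φ, hq, sub_self]
  choose w hw using fun j => (mapL_exact hex (g j) _).1 (congrFun h0 j)
  refine ⟨w, funext fun j => funext fun k => hinjL (g j * g k) ?_⟩
  show map1 g S.f.hom (d0 g M w) j k = map1 g S.f.hom (f ^ n • c) j k
  rw [← d0_map, show map0 g S.f.hom w = f ^ n • e - Φ g S.X₂ e' from funext hw, map_sub, map_smul, he,
    d0_Φ, sub_zero, map_smul]

variable {M : Type u} [AddCommGroup M] [Module A M]

theorem smul_H0_pi_mem_range {κ : Type} [Fintype κ] {R : Type u} [AddCommGroup R] [Module A R] {f : A} {n : ℕ}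
    (h : ∀ z ∈ H0 g R, f ^ n • z ∈ LinearMap.range (Φ g R)) {z : C0 g (κ → R)} (hz : z ∈ H0 g (κ → R)) :
    f ^ n • z ∈ LinearMap.range (Φ g (κ → R)) := by
  classical
  choose m hm using fun a => h _ (map0_mem_H0 g (LinearMap.proj (R := A) (φ := fun _ : κ => R) a) hz)
  refine ⟨m, funext fun j => ?_⟩
  rw [← sum_single_mapL (g j) ((f ^ n • z) j), ← sum_single_mapL (g j) (Φ g (κ → R) m j)]
  refine Finset.sum_congr rfl fun a _ => congrArg _ ?_
  rw [show Φ g (κ → R) m j = mk (κ → R) (g j) m from rfl, mapL_mk, Pi.smul_apply, map_smul]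
  exact congrFun (hm a) j

/-- Powers of `f` times sections. -/
def fH0 (f : A) (n : ℕ) (M : Type u) [AddCommGroup M] [Module A M] : Submodule A (C0 g M) :=
  (H0 g M).map (f ^ n • LinearMap.id)

omit [IsNoetherianRing A] [Fintype ι] in
theorem mem_fH0 {f : A} {n : ℕ} {z : C0 g M} (hz : z ∈ H0 g M) : f ^ n • z ∈ fH0 g f n M := ⟨z, hz, rfl⟩

variable {f : A} {n : ℕ} (hA : ∀ z ∈ H0 g A, f ^ n • z ∈ LinearMap.range (Φ g A))

include hA in
theorem fH0_fg (hM : LS g M A) : (fH0 g f n M).FG := by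
  obtain ⟨κ, _, i, hi⟩ := hM.exists_embedding g
  have hinj : Function.Injective (map0 g i) := fun a b hab => funext fun j => by
    have := mapL_injective_of_retr g i hi (g j) ⟨j, rfl⟩ 1
    rw [mul_one] at this
    exact this (congrFun hab j)
  refine Submodule.fg_of_fg_map_injective _ hinj (Submodule.FG.of_le (T := LinearMap.range (Φ g (κ → A))) ?_ ?_)
  · rw [← Submodule.map_top]
    exact (Module.Finite.iff_fg (N := (⊤ : Submodule A (κ → A))).1 inferInstance).map _
  · rintro _ ⟨_, ⟨z, hz, rfl⟩, rfl⟩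
    show map0 g i (f ^ n • z) ∈ _
    rw [map_smul]
    exact smul_H0_pi_mem_range g hA (map0_mem_H0 g i hz)

include hA in
theorem exists_kill (hfg : f ∈ (idl g).radical) (hM : LS g M A)
    (h2 : ∀ c ∈ Z1 g A, f ^ n • c ∈ B1 g A) : ∃ K : ℕ, ∀ c ∈ Z1 g M, f ^ K • c ∈ B1 g M := by
  classical
  obtain ⟨κ, _, i, hi⟩ := hM.exists_embedding g
  let Q := (κ → A) ⧸ LinearMap.range i
  let π : (κ → A) →ₗ[A] Q := (LinearMap.range i).mkQ
  have hex : Function.Exact i π := LinearMap.exact_map_mkQ_range i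
  have hQ : LS g Q A := fun j => by
    obtain ⟨ρ, b, hb⟩ := hi j
    let e := (Fintype.equivFin κ)
    let σ' : (κ → A) →ₗ[A] (κ → A) := g j ^ b • LinearMap.id - i ∘ₗ ρ
    have hσ : LinearMap.range i ≤ LinearMap.ker σ' := by
      rintro _ ⟨m, rfl⟩
      simp [σ', hb]
    refine ⟨Fintype.card κ, (LinearMap.funLeft A A e.symm) ∘ₗ (LinearMap.range i).liftQ σ' hσ,
      (LinearMap.range i).mkQ ∘ₗ LinearMap.funLeft A A e, b, fun q => ?_⟩
    obtain ⟨x, rfl⟩ := Submodule.Quotient.mk_surjective _ q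
    have he : (LinearMap.funLeft A A e) ((LinearMap.funLeft A A e.symm) (σ' x)) = σ' x :=
      funext fun a => congrArg (σ' x) (e.symm_apply_apply a)
    show (LinearMap.range i).mkQ ((LinearMap.funLeft A A e) ((LinearMap.funLeft A A e.symm) (σ' x))) = _
    rw [he]
    show (LinearMap.range i).mkQ (g j ^ b • x - i (ρ x)) = _
    rw [map_sub, map_smul, Submodule.mkQ_apply, Submodule.mkQ_apply,
      (Submodule.Quotient.mk_eq_zero _).2 (LinearMap.mem_range_self i (ρ x)), sub_zero]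
  let T : Submodule A (C0 g Q) := (H0 g (κ → A)).map (map0 g π)
  -- the quotient is torsion
  have htor : ∀ z ∈ H0 g Q, ∃ k : ℕ, f ^ k • z ∈ T := fun z hz => by
    obtain ⟨N, hN⟩ := exists_pow_le g (J := T.comap (LinearMap.toSpanSingleton A _ z)) fun l => by
      obtain ⟨k, q, hq⟩ := exists_pow_smul_mem_range g Q z hz l
      obtain ⟨x, rfl⟩ := Submodule.Quotient.mk_surjective _ q
      exact ⟨k, Φ g (κ → A) x, d0_Φ g _ x, (map0_Φ g π x).trans hq⟩
    obtain ⟨r, hr⟩ := hfg
    refine ⟨r * N, ?_⟩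
    exact hN (show f ^ (r * N) ∈ idl g ^ N by rw [pow_mul]; exact Ideal.pow_mem_pow hr N)
  obtain ⟨s, hs⟩ := fH0_fg g hA hQ
  have hsH : ∀ q ∈ s, q ∈ H0 g Q := fun q hq => by
    obtain ⟨z, hz, rfl⟩ := (hs ▸ Submodule.subset_span hq : q ∈ fH0 g f n Q)
    exact Submodule.smul_mem _ _ hz
  choose k hk using fun q : {x // x ∈ s} => htor q.1 (hsH q.1 q.2)
  let k₀ := Finset.univ.sup k
  have hall : ∀ z ∈ H0 g Q, f ^ (k₀ + n) • z ∈ T := fun z hz => by
    have : fH0 g f n Q ≤ T.comap (f ^ k₀ • LinearMap.id) := by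
      rw [← hs, Submodule.span_le]
      intro q hq
      show f ^ k₀ • q ∈ T
      rw [← Nat.sub_add_cancel (show k ⟨q, hq⟩ ≤ k₀ from Finset.le_sup (Finset.mem_univ _)), pow_add, mul_smul]
      exact Submodule.smul_mem _ _ (hk ⟨q, hq⟩)
    rw [pow_add, mul_smul]
    exact this (mem_fH0 g hz)
  refine ⟨k₀ + n + n, fun c hc => ?_⟩
  obtain ⟨e, he⟩ := exists_d0_of_proj g (f ^ n • map1 g i c) fun a => by
    rw [map_smul]
    exact h2 _ (map1_mem_Z1 g _ (map1_mem_Z1 g i hc))
  have heH : map0 g π e ∈ H0 g Q := by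
    rw [H0, LinearMap.mem_ker, d0_map, he, map_smul]
    refine (congrArg (f ^ n • ·) (funext fun j => funext fun l => ?_)).trans (smul_zero _)
    exact (mapL_exact hex _).apply_apply_eq_zero (c j l)
  obtain ⟨e', he', heq⟩ := hall _ heH
  have h0 : map0 g π (f ^ (k₀ + n) • e - e') = 0 := by rw [map_sub, map_smul, heq, sub_self]
  choose w hw using fun j => (mapL_exact hex (g j) _).1 (congrFun h0 j)
  refine ⟨w, funext fun j => funext fun l => mapL_injective_of_retr g i hi (g j) ⟨j, rfl⟩ (g l) ?_⟩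
  show map1 g i (d0 g M w) j l = map1 g i (f ^ (k₀ + n + n) • c) j l
  rw [← d0_map, show map0 g i w = f ^ (k₀ + n) • e - e' from funext hw, map_sub, map_smul, he,
    LinearMap.mem_ker.1 he', sub_zero, map_smul, smul_smul, ← pow_add]

omit [Fintype ι] in
theorem exists_torsion_bound [Module.Finite A M] (f : A) :
    ∃ t : ℕ, ∀ (x : A) (z : L M x) (m : ℕ), f ^ m • z = 0 → f ^ t • z = 0 := by
  haveI : IsNoetherian A M := isNoetherian_of_isNoetherianRing_of_finite A M
  obtain ⟨t, ht⟩ := monotone_stabilizes_iff_noetherian.2 (inferInstance : IsNoetherian A M)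
    ⟨fun m => LinearMap.ker (LinearMap.lsmul A M (f ^ m)), fun a b hab m hm => by
      rw [LinearMap.mem_ker, LinearMap.lsmul_apply] at hm ⊢
      rw [← Nat.sub_add_cancel hab, pow_add, mul_smul, hm, smul_zero]⟩
  refine ⟨t, fun x z m hz => ?_⟩
  obtain ⟨r, y, hy⟩ := exists_mk M z
  obtain ⟨q, hq⟩ := (mk_eq_zero M).1 (show mk M x (f ^ m • y) = 0 by
    rw [map_smul, ← hy, smul_comm, hz, smul_zero])
  have hq' : x ^ q • y ∈ LinearMap.ker (LinearMap.lsmul A M (f ^ (max t m))) := by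
    rw [LinearMap.mem_ker, LinearMap.lsmul_apply, ← Nat.sub_add_cancel (le_max_right t m), pow_add, mul_smul,
      smul_comm (f ^ m), hq, smul_zero]
  have h3 : f ^ t • x ^ q • y = 0 := by
    have := (SetLike.ext_iff.1 (ht (max t m) (le_max_left t m)) (x ^ q • y)).2 hq'
    exact this
  refine pow_injective M dvd_rfl (q + r) ?_
  show x ^ (q + r) • f ^ t • z = x ^ (q + r) • 0
  rw [smul_zero, smul_comm, pow_add, mul_smul, hy, ← map_smul, ← map_smul, h3, map_zero]

variable [Module.Finite A M]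

include hA in
/-- Sections are separated for the `f`-adic topology. -/
theorem eq_zero_of_forall_dvd (hf : f ∈ Ideal.jacobson (⊥ : Ideal A)) (hM : LS g M A) {z : C0 g M}
    (hz : z ∈ H0 g M) (h : ∀ m : ℕ, ∃ y, z = f ^ m • y) : z = 0 := by
  obtain ⟨t, ht⟩ := exists_torsion_bound (M := M) f
  haveI : Module.Finite A (fH0 g f n M) := Module.Finite.iff_fg.2 (fH0_fg g hA hM)
  have hm : ∀ m : ℕ, ∃ w : fH0 g f n M, z = f ^ m • (w : C0 g M) := fun m => by
    obtain ⟨y, hy⟩ := h (m + (n + t))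
    have hyH : f ^ t • y ∈ H0 g M := by
      have h0 : f ^ (m + (n + t)) • d0 g M y = 0 := by rw [← map_smul, ← hy, LinearMap.mem_ker.1 hz]
      rw [H0, LinearMap.mem_ker, map_smul]
      exact funext fun j => funext fun k => ht _ _ _ (congrFun (congrFun h0 j) k)
    exact ⟨⟨_, mem_fH0 g hyH⟩, by rw [hy, pow_add, pow_add, mul_smul, mul_smul]⟩
  obtain ⟨w₀, hw₀⟩ := hm 0
  rw [pow_zero, one_smul] at hw₀
  have hmem : w₀ ∈ (⨅ m : ℕ, Ideal.span {f} ^ m • ⊤ : Submodule A (fH0 g f n M)) := by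
    refine Submodule.mem_iInf _ |>.2 fun m => ?_
    obtain ⟨w, hw⟩ := hm m
    rw [show w₀ = f ^ m • w from Subtype.ext (hw₀.symm.trans hw)]
    exact Submodule.smul_mem_smul (Ideal.pow_mem_pow (Ideal.mem_span_singleton_self f) m) Submodule.mem_top
  rw [Ideal.iInf_pow_smul_eq_bot_of_le_jacobson (Ideal.span {f}) ((Ideal.span_singleton_le_iff_mem _).2 hf)] at hmem
  rw [hw₀, (Submodule.mem_bot A).1 hmem]
  rfl

include hA in
/-- Compatible systems of sections modulo powers of `f` come from sections. -/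
theorem exists_limit [IsAdicComplete (Ideal.span {f}) A] (hfg : f ∈ (idl g).radical) (hM : LS g M A)
    (h2 : ∀ c ∈ Z1 g A, f ^ n • c ∈ B1 g A) (s : ℕ → C0 g M)
    (hs : ∀ k, ∃ y, s (k + 1) - s k = f ^ k • y) (hd : ∀ k, ∃ c, d0 g M (s k) = f ^ k • c) :
    ∃ z ∈ H0 g M, ∀ k, ∃ y, z - s k = f ^ k • y := by
  classical
  obtain ⟨t, ht⟩ := exists_torsion_bound (M := M) f
  obtain ⟨K, hK⟩ := exists_kill g hA hfg hM h2
  haveI : Module.Finite A (fH0 g f n M) := Module.Finite.iff_fg.2 (fH0_fg g hA hM)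
  haveI : IsAdicComplete (Ideal.span {f}) (fH0 g f n M) := AdicLib.isAdicComplete_of_finite _ _
  -- the congruence
  let R (k : ℕ) (a b : C0 g M) : Prop := ∃ y, a - b = f ^ k • y
  have Rmono : ∀ {k l : ℕ} {a b : C0 g M}, R l a b → k ≤ l → R k a b := fun {k l a b} ⟨y, hy⟩ hkl =>
    ⟨f ^ (l - k) • y, by rw [hy, smul_smul, ← pow_add, Nat.add_sub_cancel' hkl]⟩
  have Rtrans : ∀ {k : ℕ} {a b c : C0 g M}, R k a b → R k b c → R k a c := fun {k a b c} ⟨y, hy⟩ ⟨y', hy'⟩ =>
    ⟨y + y', by rw [smul_add, ← hy, ← hy', sub_add_sub_cancel]⟩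
  have Rsymm : ∀ {k : ℕ} {a b : C0 g M}, R k a b → R k b a := fun {k a b} ⟨y, hy⟩ =>
    ⟨-y, by rw [smul_neg, ← hy, neg_sub]⟩
  have hsR : ∀ k l, k ≤ l → R k (s l) (s k) := fun k l hkl => by
    induction hkl with
    | refl => exact ⟨0, by rw [smul_zero, sub_self]⟩
    | step h ih => exact Rtrans (Rmono (hs _) h) ih
  -- correction to sections
  have hcor : ∀ j, ∃ u ∈ H0 g M, R j u (s (j + (t + K))) := fun j => by
    obtain ⟨c, hc⟩ := hd (j + (t + K))
    have hcZ : f ^ t • c ∈ Z1 g M := by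
      have hz := B1_le_Z1 g M ⟨s (j + (t + K)), hc⟩
      rw [mem_Z1] at hz ⊢
      intro a b e
      simp only [Pi.smul_apply, map_smul] at hz ⊢
      rw [← sub_eq_zero, ← smul_add, ← smul_sub]
      refine ht _ _ (j + (t + K)) ?_
      rw [smul_sub, smul_add, hz a b e, sub_self]
    obtain ⟨w, hw⟩ := hK _ hcZ
    refine ⟨s (j + (t + K)) - f ^ j • w, ?_, -w, by rw [smul_neg, sub_sub_cancel_left]⟩
    rw [H0, LinearMap.mem_ker, map_sub, map_smul, hw, hc, smul_smul, smul_smul, ← pow_add, ← pow_add,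
      show j + K + t = j + (t + K) by omega, sub_self]
  choose u hu hur using hcor
  let v : ℕ → C0 g M := fun j => u (j + (n + t))
  have hv : ∀ j l, j ≤ l → ∃ w : fH0 g f n M, v l - v j = f ^ j • (w : C0 g M) := fun j l hjl => by
    obtain ⟨y, hy⟩ : R (j + (n + t)) (v l) (v j) :=
      Rtrans (Rtrans (Rmono (hur _) (by omega)) (Rmono (hsR _ _ (by omega)) (by omega))) (Rsymm (hur _))
    have hyH : f ^ t • y ∈ H0 g M := by
      have h0 : f ^ (j + (n + t)) • d0 g M y = 0 := by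
        rw [← map_smul, ← hy, map_sub, LinearMap.mem_ker.1 (hu _), LinearMap.mem_ker.1 (hu _), sub_self]
      rw [H0, LinearMap.mem_ker, map_smul]
      exact funext fun a => funext fun b => ht _ _ _ (congrFun (congrFun h0 a) b)
    exact ⟨⟨_, mem_fH0 g hyH⟩, by rw [hy, pow_add, pow_add, mul_smul, mul_smul]⟩
  choose W hW using fun l => hv 0 l (Nat.zero_le l)
  obtain ⟨z, hz⟩ := IsPrecomplete.prec (inferInstance : IsPrecomplete (Ideal.span {f}) (fH0 g f n M)) (f := W)
    fun {j l} hjl => by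
      obtain ⟨w, hw⟩ := hv j l hjl
      rw [SModEq.sub_mem, show W j - W l = f ^ j • (-w) from Subtype.ext (by
        show (W j : C0 g M) - W l = f ^ j • (-(w : C0 g M))
        have h1 := hW j
        have h2 := hW l
        rw [pow_zero, one_smul] at h1 h2
        rw [← h1, ← h2, sub_sub_sub_cancel_right, ← neg_sub, hw, smul_neg])]
      exact Submodule.smul_mem_smul (Ideal.pow_mem_pow (Ideal.mem_span_singleton_self f) j) Submodule.mem_top
  refine ⟨(z : C0 g M) + v 0, add_mem ?_ (hu _), fun k => ?_⟩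
  · obtain ⟨x, hx, he⟩ := z.2
    rw [← he]
    exact Submodule.smul_mem _ _ hx
  · have h1 := hz k
    rw [SModEq.sub_mem, Ideal.span_singleton_pow, Submodule.ideal_span_singleton_smul] at h1
    obtain ⟨w, -, hw⟩ := Submodule.mem_smul_pointwise_iff_exists _ _ _ |>.1 h1
    have h2 := hW k
    rw [pow_zero, one_smul] at h2
    refine Rtrans (b := v k) ⟨-(w : C0 g M), ?_⟩ (Rtrans (Rmono (hur _) (by omega)) (Rmono (hsR k _ (by omega)) le_rfl))
    rw [smul_neg, show f ^ k • (w : C0 g M) = (W k : C0 g M) - z from congrArg Subtype.val hw, ← h2]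
    abel

end Groth.Agent.Pi1Rig

end
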