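import Groth.Prelude.Def_FEt
import Mathlib.AlgebraicGeometry.Morphisms.UniversallyOpen
import Mathlib.AlgebraicGeometry.Morphisms.Etale

/-!
# Connectedness from purity
-/

set_option autoImplicit false
set_option linter.style.haveILetI false
set_option backward.isDefEq.respectTransparency false
set_option backward.isDefEq.respectTransparency.types false
universe u

open CategoryTheory CategoryTheory.Limits AlgebraicGeometry TopologicalSpace

noncomputable section

namespace Groth.Agent.Pi1Rig

/-- The range of a finite etale cover is clopen. -/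
theorem isClopen_range_cover {X : Scheme.{u}} (Y : FEt.Cat X) : IsClopen (Set.range Y.hom) := by
  let f : Y.left ⟶ X := Y.hom
  haveI : IsFinite f := Y.prop.1
  haveI : Etale f := Y.prop.2
  exact ⟨f.isClosedMap.isClosed_range, f.isOpenMap.isOpen_range⟩

/-- If restriction of finite etale covers is full and essentially surjective and the target is
connected, so is the source. -/
theorem connectedSpace_of_restrict {W X : Scheme.{u}} (j : W ⟶ X) [ConnectedSpace X]
    [(FEt.restrict j).Full] [(FEt.restrict j).EssSurj] : ConnectedSpace W := by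
  have hrange : ∀ Y : FEt.Cat X, Set.range ((FEt.restrict j).obj Y).hom = j ⁻¹' Set.range Y.hom := fun Y =>
    Scheme.Pullback.range_snd Y.hom j
  haveI hne : Nonempty W := by
    by_contra hW
    haveI : IsEmpty W := not_nonempty_iff.1 hW
    haveI : Etale (Scheme.emptyTo X) := inferInstance
    let E : FEt.Cat X := MorphismProperty.Over.mk _ (Scheme.emptyTo X) ⟨inferInstance, inferInstance⟩
    let T : FEt.Cat X := MorphismProperty.Over.mk _ (𝟙 X) ⟨inferInstance, inferInstance⟩
    haveI : IsEmpty ((FEt.restrict j).obj T).left := @Function.isEmpty _ W _ (fun x => ((FEt.restrict j).obj T).hom x)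
    let i := @isInitialOfIsEmpty ((FEt.restrict j).obj T).left inferInstance
    let φ : (FEt.restrict j).obj T ⟶ (FEt.restrict j).obj E :=
      MorphismProperty.Over.homMk (i.to _) (i.hom_ext _ _) trivial
    obtain ⟨ψ, -⟩ := (FEt.restrict j).map_surjective φ
    obtain ⟨x⟩ := (inferInstance : Nonempty X)
    exact @IsEmpty.false _ (inferInstanceAs (IsEmpty (∅ : Scheme.{u}))) (ψ.left x)
  haveI : PreconnectedSpace W := by
    refine preconnectedSpace_iff_clopen.2 fun S hS => ?_
    let S' : W.Opens := ⟨S, hS.2⟩
    haveI : IsClosedImmersion S'.ι :=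
      IsClosedImmersion.of_isPreimmersion _ (by rw [Scheme.Opens.range_ι]; exact hS.1)
    let C : FEt.Cat W := MorphismProperty.Over.mk _ S'.ι ⟨inferInstance, inferInstance⟩
    obtain ⟨Y, ⟨e⟩⟩ := Functor.EssSurj.mem_essImage (F := FEt.restrict j) C
    have h : S = j ⁻¹' Set.range Y.hom := by
      rw [← hrange Y]
      refine (Scheme.Opens.range_ι S').symm.trans ?_
      show Set.range C.hom = _
      rw [← MorphismProperty.Over.w e.hom]
      refine Set.Subset.antisymm ?_ ?_
      · rintro _ ⟨x, rfl⟩
        refine ⟨e.inv.left x, ?_⟩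
        have h1 : e.inv.left ≫ e.hom.left = 𝟙 _ := congrArg (fun f => f.left) e.inv_hom_id
        show (e.hom.left ≫ C.hom) (e.inv.left x) = C.hom x
        erw [← Scheme.Hom.comp_apply]
        rw [reassoc_of% h1]
        rfl
      · rintro _ ⟨x, rfl⟩
        exact ⟨e.hom.left x, rfl⟩
    rcases preconnectedSpace_iff_clopen.1 (inferInstanceAs (PreconnectedSpace X)) _ (isClopen_range_cover Y) with h0 | h0
    · exact Or.inl (by rw [h, h0, Set.preimage_empty])
    · exact Or.inr (by rw [h, h0, Set.preimage_univ])
  exact { toNonempty := hne }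

end Groth.Agent.Pi1Rig

end
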