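import Groth.Agent.Pi1Rig.PureBase
import Groth.Agent.LefLib.FEtFF
import Groth.Agent.Pi1Alg.EssSurj
import Groth.Agent.S0239
import Mathlib.AlgebraicGeometry.IdealSheaf.Functorial

/-!
# Purity from a quotient and the Lefschetz condition
-/

set_option autoImplicit false
set_option linter.style.haveILetI false
set_option backward.isDefEq.respectTransparency false
set_option backward.isDefEq.respectTransparency.types false
universe u

open CategoryTheory CategoryTheory.Limits AlgebraicGeometry TopologicalSpace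

noncomputable section

namespace Groth.Agent.Pi1Rig

open Groth.Agent

/-- The Lefschetz condition gives full faithfulness of restriction of finite etale covers. -/
theorem ff_of_lefCond {U : Scheme.{u}} {𝓙 : U.IdealSheafData} (h : Lef.LefCond U 𝓙) :
    (FEt.restrict 𝓙.subschemeι).Full ∧ (FEt.restrict 𝓙.subschemeι).Faithful := by
  let t : ((⊤ : U.Opens) : Scheme.{u}) ⟶ U := (⊤ : U.Opens).ι
  haveI : IsIso t := inferInstanceAs (IsIso U.topIso.hom)
  obtain ⟨hfull, hfaith⟩ := LefLib.restrict_fullyFaithful (U := ((⊤ : U.Opens) : Scheme.{u})) (𝓙 := 𝓙.comap t)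
    (h ⊤ (Set.subset_univ _))
  let b : (𝓙.comap t).subscheme ⟶ 𝓙.subscheme := (𝓙.comapIso t).hom ≫ pullback.snd t 𝓙.subschemeι
  haveI : IsIso b := inferInstance
  have hb : b ≫ 𝓙.subschemeι = (𝓙.comap t).subschemeι ≫ t := by
    simp only [b, Category.assoc, ← pullback.condition]
    rw [← Category.assoc, Scheme.IdealSheafData.comapIso_hom_fst]
  haveI := isEquivalence_restrict_of_isIso b
  haveI := isEquivalence_restrict_of_isIso t
  let e := squareIso _ _ _ _ hb
  haveI : (FEt.restrict 𝓙.subschemeι ⋙ FEt.restrict b).Full := Functor.Full.of_iso e.symm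
  haveI : (FEt.restrict 𝓙.subschemeι ⋙ FEt.restrict b).Faithful := Functor.Faithful.of_iso e.symm
  exact ⟨Functor.Full.of_comp_faithful _ (FEt.restrict b), Functor.Faithful.of_comp _ (FEt.restrict b)⟩

variable {A : Type u} [CommRing A] [IsLocalRing A] [IsNoetherianRing A]

/-- A henselian pair with the Lefschetz property on the punctured spectrum is pure if the quotient is. -/
theorem restrict_isEquivalence_of_quotient (I : Ideal A) [HenselianRing A I] [IsLocalRing (A ⧸ I)]
    (hLef : Lef.LefCond (FEt.puncturedSpec A : Scheme.{u})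
      ((Spec.map (CommRingCat.ofHom (Ideal.Quotient.mk I))).ker.comap (FEt.puncturedSpec A).ι))
    (h0 : (FEt.restrict (FEt.puncturedSpec (A ⧸ I)).ι).IsEquivalence) :
    (FEt.restrict (FEt.puncturedSpec A).ι).IsEquivalence := by
  haveI := S0239.result A I
  let P := FEt.puncturedSpec A
  let qm := Spec.map (CommRingCat.ofHom (Ideal.Quotient.mk I))
  obtain ⟨hfull, hfaith⟩ := ff_of_lefCond hLef
  haveI : IsClosedImmersion qm := IsClosedImmersion.spec_of_surjective _ Ideal.Quotient.mk_surjective
  let a : (qm.ker.comap P.ι).subscheme ⟶ pullback P.ι qm :=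
    (qm.ker.comapIso P.ι).hom ≫ pullback.map _ _ P.ι qm (𝟙 _) (inv qm.toImage) (𝟙 _) (by simp)
      (by
        show qm.imageι ≫ 𝟙 _ = inv qm.toImage ≫ qm
        rw [Category.comp_id, IsIso.eq_inv_comp, Scheme.Hom.toImage_imageι])
  haveI : IsIso a := inferInstance
  have ha : a ≫ pullback.fst P.ι qm = (qm.ker.comap P.ι).subschemeι := by
    rw [Category.assoc, pullback.lift_fst, Category.comp_id, Scheme.IdealSheafData.comapIso_hom_fst]
  obtain ⟨w, hw⟩ := Pi1Alg.exists_puncturedSpec_quot_iso I
  haveI := isEquivalence_restrict_of_isIso (a ≫ w.hom)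
  have hsq : (qm.ker.comap P.ι).subschemeι ≫ P.ι = ((a ≫ w.hom) ≫ (FEt.puncturedSpec (A ⧸ I)).ι) ≫ qm := by
    rw [← ha, Category.assoc, Category.assoc, pullback.condition, Category.assoc, ← hw]
    simp only [a, Category.assoc]
  haveI : (FEt.restrict qm).IsEquivalence := inferInstance
  haveI : (FEt.restrict (FEt.puncturedSpec (A ⧸ I)).ι ⋙ FEt.restrict (a ≫ w.hom)).IsEquivalence := inferInstance
  haveI : (FEt.restrict ((a ≫ w.hom) ≫ (FEt.puncturedSpec (A ⧸ I)).ι)).IsEquivalence :=
    Functor.isEquivalence_of_iso (F := FEt.restrict (FEt.puncturedSpec (A ⧸ I)).ι ⋙ FEt.restrict (a ≫ w.hom)) (MorphismProperty.Over.pullbackComp (a ≫ w.hom) _ _ rfl).symm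
  exact isEquivalence_of_comp_ff (FEt.restrict P.ι) (FEt.restrict (qm.ker.comap P.ι).subschemeι)
    (Functor.isEquivalence_of_iso (squareIso _ _ _ _ hsq).symm)

end Groth.Agent.Pi1Rig

end
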