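import Groth.Agent.Pi1Rig.Clopen
import Groth.Agent.Pi1Ext.PuritySch
import Groth.Agent.Pi1X.FEtFull

/-!
# Full faithfulness of restriction to the punctured divisor, from clopen subsets
-/

set_option autoImplicit false
set_option linter.unusedSectionVars false
set_option linter.style.haveILetI false
set_option backward.isDefEq.respectTransparency false
set_option backward.isDefEq.respectTransparency.types false
universe u

open CategoryTheory CategoryTheory.Limits AlgebraicGeometry IsLocalRing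

noncomputable section

namespace Groth.Agent.Pi1Rig

open Groth.Agent Groth.Agent.Pi1Alg Groth.Agent.Pi1Ext Groth.Agent.Pi1Ext.RegPurity Groth.Agent.Pi1Ext.PuritySch

variable {A : Type u} [CommRing A] [IsLocalRing A]

/-- Clopen subsets of the covers behave well along the divisor. -/
def Rig {ι : Type} (g : ι → A) (f : A) : Prop :=
  ∀ (C : Type u) [CommRing C] [Algebra A C] [Module.Finite A C], EtOff A C → TopInj g f C ∧ TopLift g f C

variable {ι : Type} (g : ι → A)

theorem mem_OSet_iff (hidl : Ideal.span (Set.range g) = maximalIdeal A) (C : Type u) [CommRing C] [Algebra A C]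
    (p : PrimeSpectrum C) :
    p ∈ OSet g C ↔ PrimeSpectrum.comap (algebraMap A C) p ≠ IsLocalRing.closedPoint A := by
  constructor
  · rintro ⟨j, hj⟩ h
    have h' : (PrimeSpectrum.comap (algebraMap A C) p).asIdeal = maximalIdeal A := congrArg PrimeSpectrum.asIdeal h
    exact hj (show g j ∈ (PrimeSpectrum.comap (algebraMap A C) p).asIdeal from
      h' ▸ hidl ▸ Ideal.subset_span ⟨j, rfl⟩)
  · intro h
    by_contra hn
    refine h (PrimeSpectrum.ext ((maximalIdeal.isMaximal A).eq_of_le
      (PrimeSpectrum.comap (algebraMap A C) p).2.ne_top ?_).symm)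
    rw [← hidl, Ideal.span_le]
    rintro _ ⟨j, rfl⟩
    by_contra hj
    exact hn ⟨j, hj⟩

variable [IsNoetherianRing A]

theorem ff_of_rig (hidl : Ideal.span (Set.range g) = maximalIdeal A) (f : A) {X : Scheme.{u}}
    (i : X ⟶ (FEt.puncturedSpec A : Scheme.{u})) [IsClosedImmersion i]
    (hr : Set.range i = {x | f ∈ ((FEt.puncturedSpec A).ι x : PrimeSpectrum A).asIdeal}) (hR : Rig g f) :
    (FEt.restrict i).Full ∧ (FEt.restrict i).Faithful := by
  let P := FEt.puncturedSpec A
  have hmeet : ∀ S : Set (P : Scheme.{u}), IsClopen S → S.Nonempty → (S ∩ Set.range i.base).Nonempty := by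
    rintro S hS ⟨x, hx⟩
    by_contra hne
    have ho := P.ι.isOpenEmbedding
    let D : Set (PrimeSpectrum A) := P.ι '' S
    have hO : ∀ p : PrimeSpectrum A, p ∈ OSet g A → ∃ y, P.ι y = p := fun p hp => by
      rw [mem_OSet_iff g hidl] at hp
      have : (p : Spec (CommRingCat.of A)) ∈ Set.range P.ι := by
        rw [Scheme.Opens.range_ι]
        intro h
        exact hp (show PrimeSpectrum.comap (algebraMap A A) p = closedPoint A by
          rw [← show (p : PrimeSpectrum A) = closedPoint A from h]; rfl)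
      exact this
    have hEt : EtOff A A := fun y _ => Algebra.Etale.of_isLocalizationAway y
    refine (hR A hEt).1 D (P.ι '' S) (P.ι '' Sᶜ) (ho.isOpenMap _ hS.isOpen) (ho.isOpenMap _ hS.compl.isOpen)
      (fun p hp => ?_) (fun p hp _ hpZ => ?_) (P.ι x) ⟨x, hx, rfl⟩ ((mem_OSet_iff g hidl A _).2 x.2)
    · obtain ⟨y, rfl⟩ := hO p hp
      exact ⟨Iff.rfl, ho.injective.mem_set_image.trans (not_congr ho.injective.mem_set_image).symm⟩
    · obtain ⟨y, hy, rfl⟩ := hp
      exact hne ⟨y, hy, hr.ge hpZ⟩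
  refine ⟨Pi1X.restrict_full i hmeet fun W S₀ hS₀ => ?_, Pi1X.restrict_faithful i hmeet⟩
  obtain ⟨C, _, _, _, hC, ⟨e⟩⟩ := exists_finite_model W
  let e' : pullback (sp A C) P.ι ≅ W.left := (MorphismProperty.Over.forget _ _ _ ⋙ Over.forget _).mapIso e
  let k : W.left ⟶ Spec (CommRingCat.of C) := e'.inv ≫ pullback.fst (sp A C) P.ι
  let w : W.left ⟶ (P : Scheme.{u}) := W.hom
  have he : e'.hom ≫ w = rest A C := MorphismProperty.Over.w e.hom
  have hk : k ≫ sp A C = w ≫ P.ι := by
    rw [Category.assoc, pullback.condition, ← Category.assoc, (Iso.inv_comp_eq e').2 he.symm]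
  have hko := k.isOpenEmbedding
  have hrange : ∀ p : PrimeSpectrum C, p ∈ OSet g C ↔ ∃ v, k v = p := fun p => by
    rw [mem_OSet_iff g hidl]
    constructor
    · intro hp
      have h1 : (p : Spec (CommRingCat.of C)) ∈ Set.range (pullback.fst (sp A C) P.ι) := by
        rw [IsOpenImmersion.range_pullbackFst, Scheme.Opens.opensRange_ι]
        exact hp
      obtain ⟨q, hq⟩ := h1
      refine ⟨e'.hom q, ?_⟩
      rw [← Scheme.Hom.comp_apply, Iso.hom_inv_id_assoc, hq]
    · rintro ⟨v, rfl⟩
      show (sp A C (k v) : PrimeSpectrum A) ≠ _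
      rw [← Scheme.Hom.comp_apply, hk, Scheme.Hom.comp_apply]
      exact (w v).2
  have hZ : ∀ v, (k v : PrimeSpectrum C) ∈ ZSet f C ↔ f ∈ (P.ι (w v) : PrimeSpectrum A).asIdeal := fun v => by
    show f ∈ (sp A C (k v) : PrimeSpectrum A).asIdeal ↔ _
    rw [← Scheme.Hom.comp_apply, hk, Scheme.Hom.comp_apply]
  let j : pullback W.hom i ⟶ W.left := pullback.fst W.hom i
  haveI : IsClosedImmersion j := MorphismProperty.pullback_fst _ _ ‹_›
  have hj := j.isClosedEmbedding
  have hjr : ∀ v, v ∈ Set.range j ↔ (k v : PrimeSpectrum C) ∈ ZSet f C := fun v => by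
    rw [hZ, show Set.range j = w ⁻¹' Set.range i from Scheme.Pullback.range_fst _ _, hr]
    rfl
  obtain ⟨E, E', hE, hE', hEE', hED⟩ := (hR C hC).2 (k '' (j '' S₀)) (k '' (j '' S₀ᶜ)ᶜ) (k '' (j '' S₀)ᶜ)
    (hko.isOpenMap _ (hj.isClosedMap _ hS₀.compl.isClosed).isOpen_compl)
    (hko.isOpenMap _ (hj.isClosedMap _ hS₀.isClosed).isOpen_compl) (fun p hp hpZ => by
      obtain ⟨v, rfl⟩ := (hrange p).1 hp
      obtain ⟨x, rfl⟩ := (hjr v).2 hpZ
      simp only [hko.injective.mem_set_image, Set.mem_compl_iff, hj.injective.mem_set_image, not_not, true_and])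
  refine ⟨k ⁻¹' E, ⟨⟨?_⟩, hE.preimage k.continuous⟩, Set.ext fun x => ?_⟩
  · rw [show (k ⁻¹' E)ᶜ = k ⁻¹' E' from Set.ext fun v => ((hEE' _ ((hrange _).2 ⟨v, rfl⟩))).symm]
    exact hE'.preimage k.continuous
  · show k (j x) ∈ E ↔ _
    rw [hED _ ((hrange _).2 ⟨j x, rfl⟩) ((hjr _).1 ⟨x, rfl⟩), hko.injective.mem_set_image, hj.injective.mem_set_image]

theorem range_fst_quotient (f : A) :
    Set.range (pullback.fst (FEt.puncturedSpec A).ι (Spec.map (CommRingCat.ofHom (Ideal.Quotient.mk (Ideal.span {f}))))) =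
      {x | f ∈ ((FEt.puncturedSpec A).ι x : PrimeSpectrum A).asIdeal} := by
  rw [Scheme.Pullback.range_fst]
  ext x
  have h : Set.range (PrimeSpectrum.comap (Ideal.Quotient.mk (Ideal.span {f}))) =
      PrimeSpectrum.zeroLocus ({f} : Set A) := by
    rw [range_comap_of_surjective _ _ Ideal.Quotient.mk_surjective, Ideal.mk_ker,
      PrimeSpectrum.zeroLocus_span]
  show ((FEt.puncturedSpec A).ι x : PrimeSpectrum A) ∈
    Set.range (PrimeSpectrum.comap (Ideal.Quotient.mk (Ideal.span {f}))) ↔ _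
  rw [h, PrimeSpectrum.mem_zeroLocus, Set.singleton_subset_iff]
  rfl

theorem ff_hypersurface (hidl : Ideal.span (Set.range g) = maximalIdeal A) (f : A) (hR : Rig g f) :
    (FEt.restrict (pullback.fst (FEt.puncturedSpec A).ι
      (Spec.map (CommRingCat.ofHom (Ideal.Quotient.mk (Ideal.span {f})))))).Full ∧
    (FEt.restrict (pullback.fst (FEt.puncturedSpec A).ι
      (Spec.map (CommRingCat.ofHom (Ideal.Quotient.mk (Ideal.span {f})))))).Faithful := by
  haveI : IsClosedImmersion (Spec.map (CommRingCat.ofHom (Ideal.Quotient.mk (Ideal.span {f})))) :=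
    IsClosedImmersion.spec_of_surjective _ Ideal.Quotient.mk_surjective
  exact ff_of_rig g hidl f _ (range_fst_quotient f) hR

end Groth.Agent.Pi1Rig

end
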